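import Mathlib.AlgebraicGeometry.Morphisms.Affine
import Mathlib.AlgebraicGeometry.Gluing

/-!
# Gluing morphisms and sections over families of opens; morphisms to affine opens
-/

set_option autoImplicit false

universe u v

open CategoryTheory CategoryTheory.Limits AlgebraicGeometry TopologicalSpace Opposite

namespace K689.SchGlue

section Mor

variable {T V : Scheme.{u}}

theorem toSpecΓ_map_appLE_fromSpec (s : T ⟶ V) {U : V.Opens} (hU : IsAffineOpen U) (h : ⊤ ≤ s ⁻¹ᵁ U) :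
    T.toSpecΓ ≫ Spec.map (s.appLE U ⊤ h) ≫ hU.fromSpec = s := by
  have h1 := Scheme.Opens.toSpecΓ_SpecMap_appLE s U ⊤ h
  rw [Scheme.Opens.toSpecΓ_top] at h1
  have : IsIso (⊤ : T.Opens).ι := inferInstanceAs (IsIso T.topIso.hom)
  rw [← cancel_epi (⊤ : T.Opens).ι]
  simp only [Category.assoc] at h1
  rw [reassoc_of% h1, IsAffineOpen.toSpecΓ_fromSpec, Scheme.Hom.resLE_comp_ι]

/-- two morphisms landing in an affine open with the same effect on functions are equal -/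
theorem eq_of_appLE_eq (s s' : T ⟶ V) {U : V.Opens} (hU : IsAffineOpen U) (h : ⊤ ≤ s ⁻¹ᵁ U) (h' : ⊤ ≤ s' ⁻¹ᵁ U)
    (e : s.appLE U ⊤ h = s'.appLE U ⊤ h') : s = s' := by
  rw [← toSpecΓ_map_appLE_fromSpec s hU h, ← toSpecΓ_map_appLE_fromSpec s' hU h', e]

/-- the morphism to `V` given by a ring map out of the functions on an affine open -/
noncomputable def ofRing {U : V.Opens} (hU : IsAffineOpen U) (φ : Γ(V, U) ⟶ Γ(T, ⊤)) : T ⟶ V :=
  T.toSpecΓ ≫ Spec.map φ ≫ hU.fromSpec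

theorem ofRing_le {U : V.Opens} (hU : IsAffineOpen U) (φ : Γ(V, U) ⟶ Γ(T, ⊤)) : ⊤ ≤ (ofRing hU φ) ⁻¹ᵁ U := by
  intro t _
  change ofRing hU φ t ∈ U
  have : ofRing hU φ t ∈ Set.range hU.fromSpec :=
    ⟨(Spec.map φ) (T.toSpecΓ t), by simp [ofRing]⟩
  rwa [IsAffineOpen.range_fromSpec] at this

theorem appLE_ofRing {U : V.Opens} (hU : IsAffineOpen U) (φ : Γ(V, U) ⟶ Γ(T, ⊤)) :
    (ofRing hU φ).appLE U ⊤ (ofRing_le hU φ) = φ := by
  have hle : ⊤ ≤ (T.toSpecΓ ≫ Spec.map φ) ⁻¹ᵁ (hU.fromSpec ⁻¹ᵁ U) := by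
    rw [IsAffineOpen.fromSpec_preimage_self]; exact le_top
  have hle' : ⊤ ≤ (T.toSpecΓ ≫ Spec.map φ) ⁻¹ᵁ ⊤ := le_top
  have h1 : (ofRing hU φ).appLE U ⊤ (ofRing_le hU φ) =
      hU.fromSpec.app U ≫ (T.toSpecΓ ≫ Spec.map φ).appLE (hU.fromSpec ⁻¹ᵁ U) ⊤ hle := by
    refine Eq.trans ?_ (Scheme.Hom.comp_appLE (T.toSpecΓ ≫ Spec.map φ) hU.fromSpec U ⊤ hle)
    simp only [ofRing, Category.assoc]
  have h2 : (Spec Γ(V, U)).presheaf.map (eqToHom hU.fromSpec_preimage_self).op ≫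
      (T.toSpecΓ ≫ Spec.map φ).appLE (hU.fromSpec ⁻¹ᵁ U) ⊤ hle =
      (T.toSpecΓ ≫ Spec.map φ).appLE ⊤ ⊤ hle' := Scheme.Hom.map_appLE _ _ _
  have h3 : (T.toSpecΓ ≫ Spec.map φ).appLE ⊤ ⊤ hle' = (T.toSpecΓ ≫ Spec.map φ).appTop :=
    Scheme.Hom.appLE_eq_app _
  rw [h1, IsAffineOpen.fromSpec_app_self, Category.assoc, h2, h3, Scheme.Hom.comp_appTop, Scheme.toSpecΓ_appTop,
    ← Scheme.ΓSpecIso_inv_naturality_assoc]
  simp

theorem hom_ext_opens {ι : Type v} (O : ι → T.Opens) (hO : ∀ x : T, ∃ i, x ∈ O i) (s s' : T ⟶ V)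
    (h : ∀ i, (O i).ι ≫ s = (O i).ι ≫ s') : s = s' := by
  choose i hi using hO
  let 𝒰 : T.OpenCover := T.openCoverOfIsOpenCover (fun t : T => O (i t)) (by
    rw [TopologicalSpace.IsOpenCover, eq_top_iff]
    intro t _
    exact TopologicalSpace.Opens.mem_iSup.2 ⟨t, hi t⟩)
  apply Scheme.Cover.hom_ext 𝒰
  intro t
  exact h (i t)

theorem glue_opens {ι : Type v} (O : ι → T.Opens) (hO : ∀ x : T, ∃ i, x ∈ O i) (s : ∀ i, (O i : Scheme.{u}) ⟶ V)
    (h : ∀ i j, T.homOfLE (inf_le_left : O i ⊓ O j ≤ O i) ≫ s i = T.homOfLE (inf_le_right : O i ⊓ O j ≤ O j) ≫ s j) :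
    ∃ σ : T ⟶ V, ∀ i, (O i).ι ≫ σ = s i := by
  choose i hi using hO
  let 𝒰 : T.OpenCover := T.openCoverOfIsOpenCover (fun t : T => O (i t)) (by
    rw [TopologicalSpace.IsOpenCover, eq_top_iff]
    intro t _
    exact TopologicalSpace.Opens.mem_iSup.2 ⟨t, hi t⟩)
  -- compatibility of `s j`, `s k` on any scheme over `O j`, `O k`
  have hcomp : ∀ (j k : ι) {Z : Scheme.{u}} (a : Z ⟶ (O j : Scheme.{u})) (b : Z ⟶ (O k : Scheme.{u})),
      a ≫ (O j).ι = b ≫ (O k).ι → a ≫ s j = b ≫ s k := by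
    intro j k Z a b hab
    have hr : Set.range (a ≫ (O j).ι) ⊆ Set.range (O j ⊓ O k).ι := by
      rw [Scheme.Opens.range_ι]
      rintro _ ⟨z, rfl⟩
      refine ⟨?_, ?_⟩
      · have : (a ≫ (O j).ι) z = (a z).1 := rfl
        rw [this]; exact (a z).2
      · rw [hab]
        have : (b ≫ (O k).ι) z = (b z).1 := rfl
        rw [this]; exact (b z).2
    let c := IsOpenImmersion.lift (O j ⊓ O k).ι (a ≫ (O j).ι) hr
    have hc : c ≫ (O j ⊓ O k).ι = a ≫ (O j).ι := IsOpenImmersion.lift_fac _ _ _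
    have e1 : a = c ≫ T.homOfLE (inf_le_left : O j ⊓ O k ≤ O j) := by
      rw [← cancel_mono (O j).ι, Category.assoc, Scheme.homOfLE_ι, hc]
    have e2 : b = c ≫ T.homOfLE (inf_le_right : O j ⊓ O k ≤ O k) := by
      rw [← cancel_mono (O k).ι, Category.assoc, Scheme.homOfLE_ι, hc, hab]
    rw [e1, e2, Category.assoc, Category.assoc, h]
  let s' : ∀ t : 𝒰.I₀, 𝒰.X t ⟶ V := fun t => s (i t)
  have hs' : ∀ x y, pullback.fst (𝒰.f x) (𝒰.f y) ≫ s' x = pullback.snd _ _ ≫ s' y := by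
    intro x y
    exact hcomp (i x) (i y) _ _ pullback.condition
  refine ⟨𝒰.glueMorphisms s' hs', ?_⟩
  intro j
  refine hom_ext_opens (fun t : T => (O j).ι ⁻¹ᵁ (O (i t))) (fun x => ⟨x.1, hi x.1⟩) _ _ ?_
  intro t
  have e3 : (𝒰.f t : (O (i t) : Scheme.{u}) ⟶ T) ≫ 𝒰.glueMorphisms s' hs' = s (i t) := 𝒰.ι_glueMorphisms s' hs' t
  have e4 : ((O j).ι ⁻¹ᵁ (O (i t))).ι ≫ (O j).ι = ((O j).ι ∣_ (O (i t))) ≫ (O (i t)).ι :=
    (morphismRestrict_ι (O j).ι (O (i t))).symm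
  have e5 := hcomp j (i t) _ _ e4
  rw [e5, ← Category.assoc, e4, Category.assoc]
  congr 1

end Mor

section Sec

variable {T : Scheme.{u}}

/-- restriction of a section -/
abbrev rsec {U W : T.Opens} (h : W ≤ U) (f : Γ(T, U)) : Γ(T, W) := T.presheaf.map (homOfLE h).op f

theorem rsec_rsec {U W W' : T.Opens} (h : W ≤ U) (h' : W' ≤ W) (f : Γ(T, U)) :
    rsec h' (rsec h f) = rsec (h'.trans h) f := by
  simp only [rsec]
  rw [← CommRingCat.comp_apply, ← T.presheaf.map_comp]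
  rfl

theorem rsec_self {U : T.Opens} (f : Γ(T, U)) : rsec le_rfl f = f := by
  simp [rsec]

set_option backward.isDefEq.respectTransparency false in
theorem ι_appTop_topIso (O : T.Opens) : O.ι.appTop ≫ O.topIso.hom = T.presheaf.map (homOfLE le_top).op := by
  simp [Scheme.Opens.topIso]
  rw [← T.presheaf.map_comp]
  rfl

theorem topIso_ι_appTop (O : T.Opens) (f : Γ(T, ⊤)) : O.topIso.hom (O.ι.appTop f) = rsec le_top f := by
  rw [← CommRingCat.comp_apply, ι_appTop_topIso]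

theorem rsec_eq_of_ι_appTop (O : T.Opens) (f g : Γ(T, ⊤)) (h : O.ι.appTop f = O.ι.appTop g) :
    rsec (le_top : O ≤ ⊤) f = rsec le_top g := by
  rw [← topIso_ι_appTop, ← topIso_ι_appTop, h]

theorem section_ext {U : T.Opens} (f g : Γ(T, U))
    (h : ∀ x ∈ U, ∃ (W : T.Opens) (hW : W ≤ U), x ∈ W ∧ rsec hW f = rsec hW g) : f = g := by
  refine TopCat.Presheaf.section_ext T.sheaf U f g ?_
  intro x hx
  obtain ⟨W, hW, hxW, e⟩ := h x hx
  have h1 : ∀ f : Γ(T, U), T.presheaf.germ W x hxW (rsec hW f) = T.presheaf.germ U x hx f := by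
    intro f
    simp only [rsec]
    exact TopCat.Presheaf.germ_res_apply _ _ _ _ _
  change T.presheaf.germ U x hx f = T.presheaf.germ U x hx g
  rw [← h1 f, ← h1 g, e]

/-- glueing of sections characterised by a local unique property -/
theorem exists_section {U : T.Opens} (P : ∀ (W : T.Opens), W ≤ U → Γ(T, W) → Prop)
    (hloc : ∀ x ∈ U, ∃ (W : T.Opens) (hW : W ≤ U), x ∈ W ∧ ∃ f, P W hW f)
    (hres : ∀ (W : T.Opens) (hW : W ≤ U) (W' : T.Opens) (hW' : W' ≤ W) (f : Γ(T, W)), P W hW f →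
      P W' (hW'.trans hW) (rsec hW' f))
    (huniq : ∀ (W : T.Opens) (hW : W ≤ U) (f g : Γ(T, W)), P W hW f → P W hW g → f = g) :
    ∃ f : Γ(T, U), ∀ x ∈ U, ∃ (W : T.Opens) (hW : W ≤ U), x ∈ W ∧ P W hW (rsec hW f) := by
  choose W hW hxW f hf using hloc
  let O : U → T.Opens := fun x => W x.1 x.2
  let F : ∀ i : U, Γ(T, O i) := fun i => f i.1 i.2
  obtain ⟨s, hs, -⟩ := TopCat.Sheaf.existsUnique_gluing' T.sheaf O U (fun i => homOfLE (hW i.1 i.2))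
    (fun x hx => Opens.mem_iSup.2 ⟨⟨x, hx⟩, hxW x hx⟩) F (by
      intro i j
      have e1 := hres _ (hW i.1 i.2) (O i ⊓ O j) inf_le_left (F i) (hf i.1 i.2)
      have e2 := hres _ (hW j.1 j.2) (O i ⊓ O j) inf_le_right (F j) (hf j.1 j.2)
      exact huniq _ _ _ _ e1 e2)
  refine ⟨s, fun x hx => ⟨W x hx, hW x hx, hxW x hx, ?_⟩⟩
  have := hs ⟨x, hx⟩
  have e : rsec (hW x hx) s = f x hx := this
  rw [e]
  exact hf x hx

end Sec

end K689.SchGlue
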