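import Groth.Prelude.Def_GLinSh
import Groth.Prelude.Def_Red
import Groth.Agent.Sga3C.ActBase
import Groth.Agent.AlgGrp.K408.OrbDim
import Groth.Agent.GIT.K686.Whisk

/-!
# Stabilisers and base change
-/

set_option autoImplicit false

universe u

open CategoryTheory CategoryTheory.Limits MonoidalCategory CartesianMonoidalCategory MonObj AlgebraicGeometry
  TopologicalSpace Topology

namespace K689.StabBC

variable {S : Scheme.{u}} {G X T : Over S} [GrpObj G] (a : AlgGrp.Action G X) (f : T ⟶ X)

variable (T) in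
/-- the base change of the action along `T ⟶ S` -/
noncomputable def bact : AlgGrp.Action (Red.bc T.hom G) (Red.bc T.hom X) :=
  Groth.Agent.Sga3C.ActBase.baseAct T.hom a

/-- the rational point of the base change -/
noncomputable def bpt : 𝟙_ (Over T.left) ⟶ Red.bc T.hom X :=
  Over.homMk (pullback.lift f.left (𝟙 T.left) (by rw [Over.w]; exact (Category.id_comp _).symm))
    (pullback.lift_snd _ _ _)

theorem bpt_left : (bpt f).left = (lift f (𝟙 T)).left := by
  apply pullback.hom_ext
  · have h1 : (lift f (𝟙 T) ≫ fst X T).left = f.left := by rw [lift_fst]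
    exact (pullback.lift_fst _ _ _).trans h1.symm
  · have h1 : (lift f (𝟙 T) ≫ snd X T).left = 𝟙 T.left := by rw [lift_snd]; rfl
    exact (pullback.lift_snd _ _ _).trans h1.symm

theorem orbitMap_fst : ((bact T a).orbitMap (bpt f)).left ≫ pullback.fst X.hom T.hom =
    ((G ◁ f) ≫ a.act).left := by
  have h0 : (bact T a).orbitMap (bpt f) = lift (𝟙 _) (toUnit _ ≫ bpt f) ≫
    (Functor.LaxMonoidal.μ (Over.pullback T.hom) G X ≫ (Over.pullback T.hom).map a.act) := rfl
  have h1 := (Groth.Agent.Sga3C.ActBase.isPullback_map_left T.hom a.act).w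
  rw [h0, Over.comp_left, Over.comp_left, Category.assoc, Category.assoc, h1, Over.comp_left]
  have h2 : (lift (𝟙 (Red.bc T.hom G)) (toUnit _ ≫ bpt f)).left ≫
      (Functor.LaxMonoidal.μ (Over.pullback T.hom) G X).left ≫ pullback.fst (G ⊗ X).hom T.hom =
      (G ◁ f).left := by
    apply pullback.hom_ext
    · have e1 := Over.μ_pullback_left_fst_fst (f := T.hom) G X
      have e2 : (lift (𝟙 (Red.bc T.hom G)) (toUnit _ ≫ bpt f)).left ≫
        (fst (Red.bc T.hom G) (Red.bc T.hom X)).left = 𝟙 _ := by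
        rw [← Over.comp_left, lift_fst]; rfl
      have e3 : (G ◁ f).left ≫ (fst G X).left = (fst G T).left := by
        rw [← Over.comp_left, whiskerLeft_fst]
      have e4 : ((lift (𝟙 (Red.bc T.hom G)) (toUnit _ ≫ bpt f)).left ≫
        (Functor.LaxMonoidal.μ (Over.pullback T.hom) G X).left ≫ pullback.fst (G ⊗ X).hom T.hom) ≫
          pullback.fst G.hom X.hom = (lift (𝟙 (Red.bc T.hom G)) (toUnit _ ≫ bpt f)).left ≫
        (fst (Red.bc T.hom G) (Red.bc T.hom X)).left ≫ pullback.fst G.hom T.hom := by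
        simp only [Category.assoc]
        exact congrArg ((lift (𝟙 (Red.bc T.hom G)) (toUnit _ ≫ bpt f)).left ≫ ·) e1
      refine e4.trans ?_
      rw [← Category.assoc, e2]
      exact (Category.id_comp _).trans e3.symm
    · have e1 := Over.μ_pullback_left_fst_snd (f := T.hom) G X
      have e2 : (lift (𝟙 (Red.bc T.hom G)) (toUnit _ ≫ bpt f)).left ≫
        (snd (Red.bc T.hom G) (Red.bc T.hom X)).left = (toUnit (Red.bc T.hom G) ≫ bpt f).left := by
        rw [← Over.comp_left, lift_snd]
      have e3 : (G ◁ f).left ≫ (snd G X).left = (snd G T).left ≫ f.left := by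
        rw [← Over.comp_left, whiskerLeft_snd, Over.comp_left]
      have e4 : ((lift (𝟙 (Red.bc T.hom G)) (toUnit _ ≫ bpt f)).left ≫
        (Functor.LaxMonoidal.μ (Over.pullback T.hom) G X).left ≫ pullback.fst (G ⊗ X).hom T.hom) ≫
          pullback.snd G.hom X.hom = (lift (𝟙 (Red.bc T.hom G)) (toUnit _ ≫ bpt f)).left ≫
        (snd (Red.bc T.hom G) (Red.bc T.hom X)).left ≫ pullback.fst X.hom T.hom := by
        simp only [Category.assoc]
        exact congrArg ((lift (𝟙 (Red.bc T.hom G)) (toUnit _ ≫ bpt f)).left ≫ ·) e1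
      refine e4.trans ?_
      rw [← Category.assoc, e2, Over.comp_left, Category.assoc]
      have e5 : (bpt f).left ≫ pullback.fst X.hom T.hom = f.left := pullback.lift_fst _ _ _
      rw [e5]
      have e6 : (toUnit (Red.bc T.hom G)).left = (snd G T).left := by
        rw [K408.OrbDim.toUnit_left]; rfl
      rw [e6]
      exact e3.symm
  simp only [← Category.assoc] at h2 ⊢
  rw [h2]

theorem orbitMap_left : ((bact T a).orbitMap (bpt f)).left = (GIT.psi a f).left := by
  apply pullback.hom_ext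
  · have h1 : (GIT.psi a f ≫ fst X T).left = ((G ◁ f) ≫ a.act).left := by rw [GIT.psi, lift_fst]
    exact (orbitMap_fst a f).trans h1.symm
  · have h1 : (GIT.psi a f ≫ snd X T).left = (snd G T).left := by rw [GIT.psi, lift_snd]
    refine Eq.trans ?_ h1.symm
    exact Over.w ((bact T a).orbitMap (bpt f))

/-- the stabiliser of a `T`-point is the stabiliser of the rational point of the base change -/
theorem exists_stabIso : ∃ e : (K408.OrbDim.stab (bact T a) (bpt f)).left ≅ GLinSh.stab a f,
    e.hom ≫ GLinSh.stabTo a f = (K408.OrbDim.stab (bact T a) (bpt f)).hom := by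
  let e : pullback ((bact T a).orbitMap (bpt f)).left (bpt f).left ≅
    pullback (GIT.psi a f).left (lift f (𝟙 T)).left :=
    pullback.congrHom (orbitMap_left a f) (bpt_left f)
  refine ⟨e, ?_⟩
  have h1 : e.hom ≫ pullback.snd (GIT.psi a f).left (lift f (𝟙 T)).left = pullback.snd _ _ := by
    rw [pullback.congrHom_hom]
    exact (pullback.lift_snd _ _ _).trans (Category.comp_id _)
  refine h1.trans ?_
  exact (K408.OrbDim.fst_hom (bact T a) (bpt f)).symm

variable {T' : Over S} (q : T' ⟶ T)

theorem isPullback_psi : IsPullback (G ◁ q) (GIT.psi a (q ≫ f)) (GIT.psi a f) (X ◁ q) := by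
  have h1 := K686.Whisk.isPullback_whiskerLeft q G
  have h2 := K686.Whisk.isPullback_whiskerLeft q X
  have h3 : GIT.psi a (q ≫ f) ≫ snd X T' = snd G T' := by simp [GIT.psi]
  have h4 : GIT.psi a f ≫ snd X T = snd G T := by simp [GIT.psi]
  refine IsPullback.of_bot ?_ ?_ h2
  · rw [h3, h4]; exact h1
  · apply CartesianMonoidalCategory.hom_ext
    · simp [GIT.psi]
    · simp [GIT.psi]

theorem exists_isPullback_stab : ∃ m : GLinSh.stab a (q ≫ f) ⟶ GLinSh.stab a f,
    IsPullback m (GLinSh.stabTo a (q ≫ f)) (GLinSh.stabTo a f) q.left := by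
  have h1 : IsPullback (pullback.fst (GIT.psi a (q ≫ f)).left (lift (q ≫ f) (𝟙 T')).left)
    (pullback.snd (GIT.psi a (q ≫ f)).left (lift (q ≫ f) (𝟙 T')).left)
    (GIT.psi a (q ≫ f)).left (lift (q ≫ f) (𝟙 T')).left := IsPullback.of_hasPullback _ _
  have h2 := (isPullback_psi a f q).map (Over.forget S)
  have h3 : IsPullback (pullback.fst (GIT.psi a f).left (lift f (𝟙 T)).left)
    (pullback.snd (GIT.psi a f).left (lift f (𝟙 T)).left)
    (GIT.psi a f).left (lift f (𝟙 T)).left := IsPullback.of_hasPullback _ _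
  have h4 := h1.paste_horiz h2
  have h5 : (lift (q ≫ f) (𝟙 T')).left ≫ (Over.forget S).map (X ◁ q) = q.left ≫ (lift f (𝟙 T)).left := by
    change (lift (q ≫ f) (𝟙 T')).left ≫ (X ◁ q).left = _
    rw [← Over.comp_left, ← Over.comp_left]
    congr 1
    apply CartesianMonoidalCategory.hom_ext <;> simp
  rw [h5] at h4
  have hw : (pullback.fst (GIT.psi a (q ≫ f)).left (lift (q ≫ f) (𝟙 T')).left ≫ (G ◁ q).left) ≫
      (GIT.psi a f).left =
      (pullback.snd (GIT.psi a (q ≫ f)).left (lift (q ≫ f) (𝟙 T')).left ≫ q.left) ≫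
      (lift f (𝟙 T)).left :=
    h4.w.trans (Category.assoc _ _ _).symm
  let m : GLinSh.stab a (q ≫ f) ⟶ GLinSh.stab a f :=
    pullback.lift (pullback.fst (GIT.psi a (q ≫ f)).left (lift (q ≫ f) (𝟙 T')).left ≫ (G ◁ q).left)
      (pullback.snd (GIT.psi a (q ≫ f)).left (lift (q ≫ f) (𝟙 T')).left ≫ q.left) hw
  have hm1 : m ≫ pullback.fst _ _ = pullback.fst _ _ ≫ (G ◁ q).left := pullback.lift_fst _ _ _
  have hm2 : m ≫ pullback.snd _ _ = pullback.snd _ _ ≫ q.left := pullback.lift_snd _ _ _
  refine ⟨m, IsPullback.of_right ?_ hm2 h3⟩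
  rw [hm1]
  exact h4

end K689.StabBC
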