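import Groth.Prelude.Def_AlgGrp
import Mathlib.AlgebraicGeometry.PullbackCarrier

/-!
# Basic facts on actions of group objects: shearing, cartesian squares, invariant opens
-/

set_option autoImplicit false

universe u

open CategoryTheory CategoryTheory.Limits MonoidalCategory CartesianMonoidalCategory MonObj GrpObj AlgebraicGeometry

namespace K689.ActBasic

variable {S : Scheme.{u}} {G X V : Over S} [GrpObj G]

section

omit [GrpObj G] in
/-- the square of the second projections is cartesian -/
theorem isPullback_snd (π : V ⟶ X) : IsPullback (snd G V) (G ◁ π) π (snd G X) := by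
  refine ⟨⟨by simp⟩, ⟨PullbackCone.IsLimit.mk _ (fun s => lift (s.snd ≫ fst G X) s.fst) ?_ ?_ ?_⟩⟩
  · intro s; simp
  · intro s
    apply CartesianMonoidalCategory.hom_ext
    · simp
    · simp [s.condition]
  · intro s m h1 h2
    apply CartesianMonoidalCategory.hom_ext
    · rw [lift_fst, ← h2]; simp
    · rw [lift_snd, ← h1]

end

variable (a : AlgGrp.Action G X) (Φ : AlgGrp.Action G V) (π : V ⟶ X)

theorem lift_one_act {T : Over S} (x : T ⟶ X) : lift (1 : T ⟶ G) x ≫ a.act = x := by
  have h := a.one_act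
  have e1 : lift (1 : T ⟶ G) x = lift (toUnit T) x ≫ (η[G] ▷ X) := by
    apply CartesianMonoidalCategory.hom_ext
    · simp [Hom.one_def]
    · simp
  rw [e1, Category.assoc, h]
  simp

theorem lift_mul_act {T : Over S} (g h : T ⟶ G) (x : T ⟶ X) :
    lift (g * h) x ≫ a.act = lift g (lift h x ≫ a.act) ≫ a.act := by
  have H := a.mul_act
  have e1 : lift (g * h) x = lift (lift g h) x ≫ (μ[G] ▷ X) := by
    apply CartesianMonoidalCategory.hom_ext
    · simp [Hom.mul_def]
    · simp
  rw [e1, Category.assoc, H]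
  simp only [← Category.assoc]
  congr 1
  apply CartesianMonoidalCategory.hom_ext
  · simp
  · simp only [Category.assoc, whiskerLeft_snd, lift_snd]
    rw [← Category.assoc, ← Category.assoc]
    congr 1
    apply CartesianMonoidalCategory.hom_ext <;> simp

/-- `(g, x) ↦ (g⁻¹, g x)` -/
noncomputable def shear : G ⊗ X ⟶ G ⊗ X := lift (fst G X)⁻¹ a.act

theorem shear_fst : shear a ≫ fst G X = (fst G X)⁻¹ := lift_fst _ _

theorem shear_snd : shear a ≫ snd G X = a.act := lift_snd _ _

theorem shear_shear : shear a ≫ shear a = 𝟙 _ := by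
  apply CartesianMonoidalCategory.hom_ext
  · rw [Category.assoc, shear_fst, GrpObj.comp_inv, shear_fst, _root_.inv_inv, Category.id_comp]
  · rw [Category.assoc, shear_snd, Category.id_comp]
    have h2 : a.act = lift (fst G X) (snd G X) ≫ a.act := by simp
    have h3 : shear a ≫ a.act = lift (fst G X)⁻¹ (lift (fst G X) (snd G X) ≫ a.act) ≫ a.act := by
      rw [← h2]; rfl
    rw [h3, ← lift_mul_act, inv_mul_cancel, lift_one_act]

instance : IsIso (shear a) := ⟨shear a, shear_shear a, shear_shear a⟩

theorem act_shear : shear a ≫ a.act = snd G X := by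
  have h1 : a.act = shear a ≫ snd G X := (shear_snd a).symm
  conv_lhs => rw [h1]
  rw [← Category.assoc, shear_shear, Category.id_comp]

theorem shear_whisker (hπ : Φ.act ≫ π = (G ◁ π) ≫ a.act) : shear Φ ≫ (G ◁ π) = (G ◁ π) ≫ shear a := by
  apply CartesianMonoidalCategory.hom_ext
  · rw [Category.assoc, Category.assoc, whiskerLeft_fst, shear_fst, shear_fst, GrpObj.comp_inv, whiskerLeft_fst]
  · rw [Category.assoc, Category.assoc, whiskerLeft_snd, ← Category.assoc, shear_snd, shear_snd, hπ]

/-- the square of the actions is cartesian -/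
theorem isPullback_act (hπ : Φ.act ≫ π = (G ◁ π) ≫ a.act) : IsPullback Φ.act (G ◁ π) π a.act := by
  have h1 : IsPullback (shear Φ) (G ◁ π) (G ◁ π) (shear a) :=
    IsPullback.of_horiz_isIso ⟨shear_whisker a Φ π hπ⟩
  have h2 := h1.paste_horiz (isPullback_snd (G := G) π)
  rwa [shear_snd, shear_snd] at h2

theorem isPullback_act_left (hπ : Φ.act ≫ π = (G ◁ π) ≫ a.act) :
    IsPullback Φ.act.left (G ◁ π).left π.left a.act.left :=
  (isPullback_act a Φ π hπ).map (Over.forget S)

omit [GrpObj G] in
theorem isPullback_snd_left : IsPullback (snd G V).left (G ◁ π).left π.left (snd G X).left :=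
  (isPullback_snd π).map (Over.forget S)

/-- points of a cartesian square -/
theorem exists_point {P Y Z W : Scheme.{u}} {f : P ⟶ Y} {g : P ⟶ Z} {h : Y ⟶ W} {k : Z ⟶ W}
    (H : IsPullback f g h k) (y : Y) (z : Z) (e : h y = k z) : ∃ w : P, f w = y ∧ g w = z := by
  obtain ⟨w, hw1, hw2⟩ := Scheme.Pullback.exists_preimage_pullback (f := h) (g := k) y z e
  refine ⟨H.isoPullback.inv w, ?_, ?_⟩
  · rw [← hw1, ← Scheme.Hom.comp_apply, H.isoPullback_inv_fst]
  · rw [← hw2, ← Scheme.Hom.comp_apply, H.isoPullback_inv_snd]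

/-- the non-vanishing locus downstairs of an invariant function upstairs is invariant -/
theorem preimage_image_basicOpen (hπ : Φ.act ≫ π = (G ◁ π) ≫ a.act) (f : Γ(V.left, ⊤))
    (hf : Φ.act.left.appTop f = (snd G V).left.appTop f) (z : (G ⊗ X).left) :
    a.act.left z ∈ π.left '' (V.left.basicOpen f : Set V.left) ↔
      (snd G X).left z ∈ π.left '' (V.left.basicOpen f : Set V.left) := by
  have e0 : Φ.act.left ⁻¹ᵁ V.left.basicOpen f = (snd G V).left ⁻¹ᵁ V.left.basicOpen f := by
    have e1 := Scheme.preimage_basicOpen_top Φ.act.left f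
    have e2 := Scheme.preimage_basicOpen_top (snd G V).left f
    rw [e1, e2, hf]
  constructor
  · rintro ⟨v, hv, hvz⟩
    obtain ⟨w, hw1, hw2⟩ := exists_point (isPullback_act_left a Φ π hπ) v z hvz
    have h1 : w ∈ Φ.act.left ⁻¹ᵁ V.left.basicOpen f := by
      change Φ.act.left w ∈ V.left.basicOpen f
      rw [hw1]; exact hv
    rw [e0] at h1
    refine ⟨(snd G V).left w, h1, ?_⟩
    rw [← hw2, ← Scheme.Hom.comp_apply, ← Scheme.Hom.comp_apply, (isPullback_snd_left (G := G) π).w]
  · rintro ⟨v, hv, hvz⟩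
    obtain ⟨w, hw1, hw2⟩ := exists_point (isPullback_snd_left (G := G) π) v z hvz
    have h1 : w ∈ (snd G V).left ⁻¹ᵁ V.left.basicOpen f := by
      change (snd G V).left w ∈ V.left.basicOpen f
      rw [hw1]; exact hv
    rw [← e0] at h1
    refine ⟨Φ.act.left w, h1, ?_⟩
    rw [← hw2, ← Scheme.Hom.comp_apply, ← Scheme.Hom.comp_apply, (isPullback_act_left a Φ π hπ).w]

end K689.ActBasic
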