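import Groth.Agent.GIT.K689.FromBase
import Groth.Agent.GIT.K688.SepCover

/-!
# A scheme with an ample sheaf is separated
-/

set_option autoImplicit false

universe u

open CategoryTheory CategoryTheory.Limits MonoidalCategory CartesianMonoidalCategory AlgebraicGeometry
  TopologicalSpace Opposite

namespace K689.AmpSep

open K689.SchGlue K689.Coord K689.CoordUP K689.Weight K689.Ratio K689.ActBasic K689.LinBunBasic K689.PullBun
  K689.Compat K689.LineBun K689.FromBase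

open Groth.Agent.Fdesc.LocGen Groth.Agent.Vancyc.H545.Taut
open Groth.Agent.CohqB.AlgSys Groth.Agent.CohqB.AlgSym Groth.Agent.Ega2.H280.RelSpecAlg

theorem isSeparated_of_weights {V X S : Scheme.{u}} [IsAffine S] (p : V ⟶ X) [IsAffineHom p]
    {chart : ∀ U : X.Opens, Set (Γ(V, p ⁻¹ᵁ U))} (A : Atl p chart) [CompactSpace X] (f : X ⟶ S)
    (h : ∀ x : X, ∃ (n : ℕ) (F : Γ(V, ⊤)) (U : X.Opens), 1 ≤ n ∧ Wt p chart n ⊤ (tt p F) ∧
      nv p (tt p F) = U ∧ x ∈ U ∧ IsAffineOpen U) : IsSeparated f := by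
  choose n F U hn hF hU hx ha using h
  obtain ⟨t, ht⟩ := isCompact_univ.elim_finite_subcover (fun x => (U x : Set X)) (fun x => (U x).2)
    (fun x _ => Set.mem_iUnion.2 ⟨x, hx x⟩)
  let N : ℕ := ∏ x ∈ t, n x
  have hN : ∀ x ∈ t, ∃ m, n x * m = N ∧ m ≠ 0 := by
    intro x hxt
    have h1 : n x ∣ N := Finset.dvd_prod_of_mem n hxt
    obtain ⟨m, hm⟩ := h1
    refine ⟨m, hm.symm, ?_⟩
    rintro rfl
    have : N ≠ 0 := Finset.prod_ne_zero_iff.2 fun x _ => Nat.one_le_iff_ne_zero.1 (hn x)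
    exact this (by simpa using hm)
  choose m hm hm0 using hN
  let g : t → Γ(V, ⊤) := fun i => F i.1 ^ m i.1 i.2
  have hg : ∀ i : t, Wt p chart N ⊤ (tt p (g i)) := by
    intro i
    have h1 := (hF i.1).pow (m i.1 i.2)
    rw [hm] at h1
    have h2 : tt p (g i) = tt p (F i.1) ^ m i.1 i.2 := map_pow _ _ _
    rw [h2]
    exact h1
  have hgU : ∀ i : t, nv p (tt p (g i)) = U i.1 := by
    intro i
    have h2 : tt p (g i) = tt p (F i.1) ^ m i.1 i.2 := map_pow _ _ _
    rw [h2, nv_pow A (hF i.1) _ (hm0 _ _), hU]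
  have hr : ∀ i j : t, ∃ r : Γ(X, U i.1),
      rs p le_top (tt p (g j)) = p.app (U i.1) r * rs p le_top (tt p (g i)) := by
    intro i j
    refine exists_ratio A ((hg j).restrict le_top) ((hg i).restrict le_top) ?_
    rw [nv_rs, hgU]
    exact fun x hx => ⟨hx, hx⟩
  choose r hr using hr
  refine K688.SepCover.isSeparated_of_cocycle f (fun i : t => U i.1) (fun i => ha i.1) ?_ r ?_ ?_
  · intro y
    obtain ⟨x, hxt⟩ := Set.mem_iUnion.1 (ht (Set.mem_univ y))
    obtain ⟨hx1, hx2⟩ := Set.mem_iUnion.1 hxt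
    exact ⟨⟨x, hx1⟩, hx2⟩
  · intro i j
    apply Opens.ext
    rw [basicOpen_ratio A ((hg i).restrict le_top) (by
      rw [nv_rs, hgU]
      exact fun x hx => ⟨hx, hx⟩) (r i j) (hr i j), nv_rs, hgU, Opens.coe_inf, Set.inter_comm]
  · intro i j
    refine ratio_unique A ((hg i).restrict (le_top : U i.1 ≤ ⊤)) (W := U i.1 ⊓ U j.1) inf_le_left (by
      rw [nv_rs, hgU]
      exact fun x hx => ⟨hx.1, hx.1⟩) _ _ ?_
    have e1 := congrArg (rs p (inf_le_left : U i.1 ⊓ U j.1 ≤ U i.1)) (hr i j)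
    have e2 := congrArg (rs p (inf_le_right : U i.1 ⊓ U j.1 ≤ U j.1)) (hr j i)
    rw [rs_mul, rs_app, rs_rs, rs_rs] at e1 e2
    rw [rs_rs, map_one, one_mul, map_mul]
    have e3 : p.app (U i.1 ⊓ U j.1) (rsec inf_le_left (r i j)) * p.app (U i.1 ⊓ U j.1) (rsec inf_le_right (r j i)) *
        rs p le_top (tt p (g i)) = rs p le_top (tt p (g i)) := by
      rw [mul_comm (p.app _ _) (p.app _ _), mul_assoc, ← e1, ← e2]
    exact e3

/-- a scheme with an ample sheaf is separated -/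
theorem isSeparated_of_isAmple {Y S : Scheme.{u}} [IsAffine S] (f : Y ⟶ S) {M : Y.Modules} (h : CohB1.IsAmple M) :
    IsSeparated f := by
  have hM : Coh.IsQCoh M := Groth.Agent.Ega2.QCohLocal.isQCoh_of_isInvertible h.1
  have : CompactSpace Y := h.2.1
  have : IsAffineHom (toX hM) := isAffineHom_toX hM
  exact isSeparated_of_weights _ (atlM hM h.1) f fun x => by
    obtain ⟨n, F, U, h1, h2, h3, h4, h5⟩ := exists_weight_of_isAmple hM h x
    exact ⟨n, F, U, h1, h2, h3, h4, h5⟩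

end K689.AmpSep
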