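import Groth.Agent.GIT.K689.LinBunBasic

/-!
# Homogeneous prime avoidance for invariant sections
-/

set_option autoImplicit false

universe u

open CategoryTheory CategoryTheory.Limits MonoidalCategory CartesianMonoidalCategory AlgebraicGeometry
  TopologicalSpace Opposite

namespace K689.Avoid

open K689.SchGlue K689.Coord K689.CoordUP K689.Weight K689.Ratio K689.ActBasic K689.LinBunBasic

/-- homogeneous prime avoidance -/
theorem avoid {R Pt : Type*} [CommRing R] (Inv Good : ℕ → R → Prop) (nv : R → Set Pt)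
    (inv_one : Inv 0 1) (nv_one : nv 1 = Set.univ)
    (inv_mul : ∀ n m f g, Inv n f → Inv m g → Inv (n + m) (f * g))
    (good_inv : ∀ n f, Good n f → Inv n f ∧ n ≠ 0)
    (good_mul : ∀ n m f g, Inv m g → Good n f → Good (m + n) (g * f))
    (good_add : ∀ n f g, Good n f → Good n g → Good n (f + g))
    (nv_mul : ∀ n m f g, Inv n f → Inv m g → nv (f * g) = nv f ∩ nv g)
    (nv_add : ∀ n f g x, Inv n f → Inv n g → x ∈ nv f → x ∉ nv g → x ∈ nv (f + g))
    (good_ex : ∃ n f, Good n f) (s : Finset Pt) (hs : ∀ x ∈ s, ∃ n f, Good n f ∧ x ∈ nv f) :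
    ∃ n f, Good n f ∧ ∀ x ∈ s, x ∈ nv f := by
  classical
  -- powers
  have good_pow : ∀ n f, Good n f → ∀ m, Good (n * (m + 1)) (f ^ (m + 1)) ∧ nv (f ^ (m + 1)) = nv f := by
    intro n f hf m
    induction m with
    | zero => simpa using hf
    | succ m ih =>
      have h1 := good_mul n (n * (m + 1)) f (f ^ (m + 1)) (good_inv _ _ ih.1).1 hf
      have e : n * (m + 1) + n = n * (m + 1 + 1) := by ring
      rw [e, ← pow_succ] at h1
      refine ⟨h1, ?_⟩
      rw [pow_succ, nv_mul _ _ _ _ (good_inv _ _ ih.1).1 (good_inv _ _ hf).1, ih.2, Set.inter_self]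
  induction s using Finset.strongInduction with
  | H s ih =>
    by_cases hse : s = ∅
    · obtain ⟨n, f, hf⟩ := good_ex
      exact ⟨n, f, hf, by simp [hse]⟩
    · obtain ⟨x, hx⟩ := Finset.nonempty_iff_ne_empty.2 hse
      by_cases hA : ∃ y ∈ s.erase x, ∀ n f, Inv n f → y ∉ nv f → x ∉ nv f
      · obtain ⟨y, hy, hyx⟩ := hA
        have hyx' : y ≠ x := (Finset.mem_erase.1 hy).1
        have hys : y ∈ s := (Finset.mem_erase.1 hy).2
        obtain ⟨n, f, hf, hf'⟩ := ih (s.erase y) (Finset.erase_ssubset hys)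
          (fun z hz => hs z (Finset.mem_of_mem_erase hz))
        refine ⟨n, f, hf, ?_⟩
        intro z hz
        by_cases hzy : z = y
        · subst hzy
          by_contra hzf
          exact hyx n f (good_inv _ _ hf).1 hzf (hf' x (Finset.mem_erase.2 ⟨hyx'.symm, hx⟩))
        · exact hf' z (Finset.mem_erase.2 ⟨hzy, hz⟩)
      · push Not at hA
        obtain ⟨n, f, hf, hf'⟩ := ih (s.erase x) (Finset.erase_ssubset hx)
          (fun z hz => hs z (Finset.mem_of_mem_erase hz))
        by_cases hxf : x ∈ nv f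
        · refine ⟨n, f, hf, ?_⟩
          intro z hz
          by_cases hzx : z = x
          · rwa [hzx]
          · exact hf' z (Finset.mem_erase.2 ⟨hzx, hz⟩)
        · -- a homogeneous element vanishing on `s \ {x}` and not at `x`
          have hprod : ∀ t : Finset Pt, t ⊆ s.erase x → ∃ m h, Inv m h ∧ x ∈ nv h ∧ ∀ y ∈ t, y ∉ nv h := by
            intro t
            induction t using Finset.induction with
            | empty => intro _; exact ⟨0, 1, inv_one, by rw [nv_one]; trivial, by simp⟩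
            | insert y t hyt iht =>
              intro hts
              obtain ⟨m, h, h1, h2, h3⟩ := iht (fun z hz => hts (Finset.mem_insert_of_mem hz))
              obtain ⟨m', h', h1', h2', h3'⟩ := hA y (hts (Finset.mem_insert_self _ _))
              refine ⟨m + m', h * h', inv_mul _ _ _ _ h1 h1', ?_, ?_⟩
              · rw [nv_mul _ _ _ _ h1 h1']; exact ⟨h2, h3'⟩
              · intro z hz
                rw [nv_mul _ _ _ _ h1 h1']
                rcases Finset.mem_insert.1 hz with rfl | hz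
                · exact fun h => h2' h.2
                · exact fun h => h3 z hz h.1
          obtain ⟨m, h, h1, h2, h3⟩ := hprod _ (Finset.Subset.refl _)
          obtain ⟨l, g, hg, hxg⟩ := hs x hx
          have hG := good_mul _ _ _ _ h1 hg
          have hGx : x ∈ nv (h * g) := by rw [nv_mul _ _ _ _ h1 (good_inv _ _ hg).1]; exact ⟨h2, hxg⟩
          have hGs : ∀ y ∈ s.erase x, y ∉ nv (h * g) := by
            intro y hy
            rw [nv_mul _ _ _ _ h1 (good_inv _ _ hg).1]
            exact fun h => h3 y hy h.1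
          obtain ⟨n', hn'⟩ := Nat.exists_eq_succ_of_ne_zero (good_inv _ _ hf).2
          obtain ⟨k, hk⟩ := Nat.exists_eq_succ_of_ne_zero (good_inv _ _ hG).2
          have p1 := good_pow n f hf k
          have p2 := good_pow (m + l) (h * g) hG n'
          have e : n * (k + 1) = (m + l) * (n' + 1) := by
            rw [hk, hn', mul_comm]
          rw [e] at p1
          refine ⟨_, f ^ (k + 1) + (h * g) ^ (n' + 1), good_add _ _ _ p1.1 p2.1, ?_⟩
          intro z hz
          by_cases hzx : z = x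
          · subst hzx
            rw [add_comm]
            refine nv_add _ _ _ _ (good_inv _ _ p2.1).1 (good_inv _ _ p1.1).1 ?_ ?_
            · rw [p2.2]; exact hGx
            · rw [p1.2]; exact hxf
          · refine nv_add _ _ _ _ (good_inv _ _ p1.1).1 (good_inv _ _ p2.1).1 ?_ ?_
            · rw [p1.2]; exact hf' z (Finset.mem_erase.2 ⟨hzx, hz⟩)
            · rw [p2.2]; exact hGs z (Finset.mem_erase.2 ⟨hzx, hz⟩)

/-- adding a function of the same weight vanishing at `x` does not change non-vanishing at `x` -/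
theorem mem_nv_add {X V : Scheme.{u}} {p : V ⟶ X} [IsAffineHom p] {chart : ∀ U : X.Opens, Set (Γ(V, p ⁻¹ᵁ U))}
    (A : Atl p chart) {n : ℕ} {O : X.Opens} {f g : Γ(V, p ⁻¹ᵁ O)} (hf : Wt p chart n O f)
    (hg : Wt p chart n O g) {x : X} (hx : x ∈ nv p f) (hx' : x ∉ nv p g) : x ∈ nv p (f + g) := by
  have hxO : x ∈ O := nv_subset f hx
  obtain ⟨W, hW, y, -, hxW, hy⟩ := A.exists_adm hxO
  obtain ⟨c, hc⟩ := hf W hW y hy
  obtain ⟨d, hd⟩ := hg W hW y hy
  have h1 : nv p f ∩ W = X.basicOpen c := by rw [← nv_rs hW, hc, nv_adm A hy]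
  have h2 : nv p g ∩ W = X.basicOpen d := by rw [← nv_rs hW, hd, nv_adm A hy]
  have h3 : nv p (f + g) ∩ W = X.basicOpen (c + d) := by
    rw [← nv_rs hW, rs_add, hc, hd, ← add_mul, ← map_add, nv_adm A hy]
  have e1 : x ∈ X.basicOpen c := by
    change x ∈ (X.basicOpen c : Set X)
    rw [← h1]; exact ⟨hx, hxW⟩
  have e2 : x ∉ X.basicOpen d := by
    change x ∉ (X.basicOpen d : Set X)
    rw [← h2]; exact fun h => hx' h.1
  have e3 : x ∈ X.basicOpen (c + d) := by
    rw [X.mem_basicOpen _ x hxW] at e1 e2 ⊢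
    rw [map_add]
    by_contra hc'
    have e4 : ¬ IsUnit ((X.presheaf.germ W x hxW c + X.presheaf.germ W x hxW d) + -X.presheaf.germ W x hxW d) :=
      IsLocalRing.nonunits_add hc' (by
        change ¬ IsUnit (- _)
        rwa [IsUnit.neg_iff])
    rw [add_neg_cancel_right] at e4
    exact e4 e1
  have : x ∈ nv p (f + g) ∩ W := by rw [h3]; exact e3
  exact this.1

section Bun

variable {S : Scheme.{u}} {G X : Over S} [GrpObj G] {a : AlgGrp.Action G X} {B : GLinSh.LinBun G a}

theorem mem_nonvanishing_add {n : ℕ} {f g : Γ(B.V.left, ⊤)} (hf : GLinSh.HasWeight B.atlas.chart n f)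
    (hg : GLinSh.HasWeight B.atlas.chart n g) {x : X.left} (hx : x ∈ GLinSh.nonvanishing B.π f)
    (hx' : x ∉ GLinSh.nonvanishing B.π g) : x ∈ GLinSh.nonvanishing B.π (f + g) := by
  rw [nonvanishing_eq] at *
  have : tt B.π.left (f + g) = tt B.π.left f + tt B.π.left g := map_add _ _ _
  rw [this]
  exact mem_nv_add (atl B.atlas) ((hasWeight_iff _ _ _).1 hf) ((hasWeight_iff _ _ _).1 hg) hx hx'

theorem invSection_one : B.IsInvSection 0 1 := by
  refine ⟨?_, ?_⟩
  · rw [hasWeight_iff]
    have : tt B.π.left (1 : Γ(B.V.left, ⊤)) = 1 := map_one _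
    rw [this]
    exact Wt.one
  · change B.lift.act.left.appTop 1 = (snd G B.V).left.appTop 1
    rw [map_one, map_one]

theorem nonvanishing_one : GLinSh.nonvanishing B.π (1 : Γ(B.V.left, ⊤)) = Set.univ := by
  rw [nonvanishing_eq]
  have : tt B.π.left (1 : Γ(B.V.left, ⊤)) = 1 := map_one _
  rw [this, nv_one (atl B.atlas)]
  rfl

theorem invSection_zero (n : ℕ) : B.IsInvSection n 0 := by
  refine ⟨?_, ?_⟩
  · rw [hasWeight_iff]
    have : tt B.π.left (0 : Γ(B.V.left, ⊤)) = 0 := map_zero _
    rw [this]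
    exact Wt.zero
  · change B.lift.act.left.appTop 0 = (snd G B.V).left.appTop 0
    rw [map_zero, map_zero]

theorem nonvanishing_zero : GLinSh.nonvanishing B.π (0 : Γ(B.V.left, ⊤)) = ∅ := by
  rw [GLinSh.nonvanishing, Scheme.basicOpen_zero]
  simp

/-- the good invariant sections: positive weight, affine locus, and closed orbits if `Q` -/
def Good (B : GLinSh.LinBun G a) (Q : Prop) (n : ℕ) (f : Γ(B.V.left, ⊤)) : Prop :=
  B.IsInvSection n f ∧ n ≠ 0 ∧ ∃ U : X.left.Opens, (U : Set X.left) = GLinSh.nonvanishing B.π f ∧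
    IsAffineOpen U ∧ (Q → GLinSh.ClosedOrbitsOn a U)

theorem Good.mul {Q : Prop} {n m : ℕ} {f g : Γ(B.V.left, ⊤)} (hg : B.IsInvSection m g) (hf : Good B Q n f) :
    Good B Q (m + n) (g * f) := by
  obtain ⟨h1, h2, U, hU, hUa, hQ⟩ := hf
  let U' : X.left.Opens := ⟨GLinSh.nonvanishing B.π (g * f), isOpen_nonvanishing (weight_mul B hg.1 h1.1)⟩
  refine ⟨invSection_mul B hg h1, by omega, U', rfl, ?_, ?_⟩
  · exact LinBunBasic.isAffineOpen_mul hg.1 h1.1 h2 U hU hUa U' rfl
  · intro q
    refine closedOrbitsOn_mono a ?_ (hQ q)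
    intro x hx
    have : x ∈ GLinSh.nonvanishing B.π (g * f) := hx
    rw [nonvanishing_mul hg.1 h1.1] at this
    change x ∈ (U : Set X.left)
    rw [hU]
    exact this.2

theorem Good.add {Q : Prop} {n : ℕ} {f g : Γ(B.V.left, ⊤)} (hf : Good B Q n f) (hg : Good B Q n g) :
    Good B Q n (f + g) := by
  have hf' := hf
  have hg' := hg
  obtain ⟨h1, h2, U, hU, hUa, hQ⟩ := hf
  obtain ⟨h1', h2', U', hU', hUa', hQ'⟩ := hg
  have hs := invSection_add B h1 h1'
  let Z : X.left.Opens := ⟨GLinSh.nonvanishing B.π (f + g), isOpen_nonvanishing hs.1⟩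
  refine ⟨hs, h2, Z, rfl, LinBunBasic.isAffineOpen_add h1.1 h1'.1 h2 U hU hUa U' hU' hUa' Z rfl, ?_⟩
  intro q
  -- `Z` is covered by the loci of `(f+g) f` and `(f+g) g`
  obtain ⟨-, -, W, hW, -, hWc⟩ := Good.mul hs hf'
  obtain ⟨-, -, W', hW', -, hWc'⟩ := Good.mul hs hg'
  have i1 : (W : Set X.left) = (Z : Set X.left) ∩ GLinSh.nonvanishing B.π f := by
    rw [hW, nonvanishing_mul hs.1 h1.1]; rfl
  have i2 : (W' : Set X.left) = (Z : Set X.left) ∩ GLinSh.nonvanishing B.π g := by
    rw [hW', nonvanishing_mul hs.1 h1'.1]; rfl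
  refine closedOrbitsOn_of_cover a Z (fun b : Bool => cond b W W') ?_ ?_ ?_ ?_
  · rintro (_ | _)
    · intro x hx
      have : x ∈ (W' : Set X.left) := hx
      rw [i2] at this; exact this.1
    · intro x hx
      have : x ∈ (W : Set X.left) := hx
      rw [i1] at this; exact this.1
  · intro x hx
    by_cases hxf : x ∈ GLinSh.nonvanishing B.π f
    · refine ⟨true, ?_⟩
      change x ∈ (W : Set X.left)
      rw [i1]; exact ⟨hx, hxf⟩
    · refine ⟨false, ?_⟩
      change x ∈ (W' : Set X.left)
      rw [i2]; refine ⟨hx, ?_⟩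
      by_contra hxg
      -- `f`, `g` vanish at `x`, hence so does `f + g`
      have hneg : B.IsInvSection n (-f) := by
        refine ⟨?_, ?_⟩
        · have := h1.1
          rw [hasWeight_iff] at *
          have e : tt B.π.left (-f) = - tt B.π.left f := map_neg _ _
          rw [e]; exact this.neg
        · change B.lift.act.left.appTop (-f) = (snd G B.V).left.appTop (-f)
          rw [map_neg, map_neg, h1.2]
      have hxf' : x ∉ GLinSh.nonvanishing B.π (-f) := by
        have e : B.V.left.basicOpen (-f) = B.V.left.basicOpen f := by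
          have e1 : -f = (-1) * f := by ring
          rw [e1, Scheme.basicOpen_mul, B.V.left.basicOpen_of_isUnit (by simp)]
          simp
        rw [GLinSh.nonvanishing, e]
        exact hxf
      have := mem_nonvanishing_add hs.1 hneg.1 (x := x) hx hxf'
      rw [add_neg_cancel_comm] at this
      exact hxg this
  · rintro (_ | _) z hz
    · have h3 : a.act.left z ∈ GLinSh.nonvanishing B.π ((f + g) * g) := by rw [← hW']; exact hz
      have h4 := (nonvanishing_invariant (invSection_mul B hs h1').2 z).1 h3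
      change (snd G X).left z ∈ (W' : Set X.left)
      rw [hW']; exact h4
    · have h3 : a.act.left z ∈ GLinSh.nonvanishing B.π ((f + g) * f) := by rw [← hW]; exact hz
      have h4 := (nonvanishing_invariant (invSection_mul B hs h1).2 z).1 h3
      change (snd G X).left z ∈ (W : Set X.left)
      rw [hW]; exact h4
  · rintro (_ | _)
    · exact hWc' q
    · exact hWc q

theorem good_zero {Q : Prop} : Good B Q 1 0 := by
  refine ⟨invSection_zero 1, one_ne_zero, ⊥, ?_, isAffineOpen_bot _, ?_⟩
  · rw [nonvanishing_zero]; rfl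
  · intro _ Ω _ _ T e f hf
    exfalso
    have : Nonempty T.left := ⟨e.inv (IsLocalRing.closedPoint Ω)⟩
    obtain ⟨t⟩ := this
    exact hf ⟨t, rfl⟩

theorem exists_good {Q : Prop} (s : Finset X.left)
    (hs : ∀ x ∈ s, ∃ n f, Good B Q n f ∧ x ∈ GLinSh.nonvanishing B.π f) :
    ∃ n f, Good B Q n f ∧ ∀ x ∈ s, x ∈ GLinSh.nonvanishing B.π f :=
  avoid (fun n f => B.IsInvSection n f) (Good B Q) (GLinSh.nonvanishing B.π) invSection_one nonvanishing_one
    (fun _ _ _ _ hf hg => invSection_mul B hf hg) (fun _ _ hf => ⟨hf.1, hf.2.1⟩)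
    (fun _ _ _ _ hg hf => Good.mul hg hf) (fun _ _ _ hf hg => Good.add hf hg)
    (fun _ _ _ _ hf hg => nonvanishing_mul hf.1 hg.1)
    (fun _ _ _ _ hf hg h h' => mem_nonvanishing_add hf.1 hg.1 h h') ⟨1, 0, good_zero⟩ s hs

end Bun

end K689.Avoid
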