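import Groth.Agent.GIT.K689.PullBun

/-!
# Morphisms of line bundles over a morphism of bases

`q : V' ⟶ V` over `h : X' ⟶ X` pulling admissible coordinates back to admissible coordinates: weights, loci `X_f`,
invariant sections are pulled back.
-/

set_option autoImplicit false

universe u

open CategoryTheory CategoryTheory.Limits MonoidalCategory CartesianMonoidalCategory MonObj GrpObj AlgebraicGeometry
  TopologicalSpace Opposite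

namespace K689.Compat

open K689.SchGlue K689.Coord K689.CoordUP K689.Weight K689.Ratio K689.ActBasic K689.LinBunBasic K689.PullBun

section Sch

variable {X X' V V' : Scheme.{u}} {p : V ⟶ X} {p' : V' ⟶ X'} {h : X' ⟶ X} {q : V' ⟶ V}

theorem sqle (hc : p' ≫ h = q ≫ p) (U : X.Opens) : p' ⁻¹ᵁ (h ⁻¹ᵁ U) ≤ q ⁻¹ᵁ (p ⁻¹ᵁ U) := by
  have e1 : p' ⁻¹ᵁ (h ⁻¹ᵁ U) = (p' ≫ h) ⁻¹ᵁ U := rfl
  have e2 : q ⁻¹ᵁ (p ⁻¹ᵁ U) = (q ≫ p) ⁻¹ᵁ U := rfl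
  rw [e1, e2, hc]

theorem appLE_tt (hc : p' ≫ h = q ≫ p) (U : X.Opens) (f : Γ(V, ⊤)) :
    q.appLE (p ⁻¹ᵁ U) (p' ⁻¹ᵁ (h ⁻¹ᵁ U)) (sqle hc U) (rs p le_top (tt p f)) =
      rs p' le_top (tt p' (q.appTop f)) := by
  rw [rs_tt, rs_tt]
  have e1 := appLE_rsec q (le_top : p ⁻¹ᵁ U ≤ ⊤) (sqle hc U) (fun x _ => trivial) f
  have e2 := rsec_appLE q (le_top : p' ⁻¹ᵁ (h ⁻¹ᵁ U) ≤ ⊤) (le_refl (q ⁻¹ᵁ ⊤)) (fun x _ => trivial) f
  refine e1.trans (e2.symm.trans ?_)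
  exact congrArg _ (appLE_self_app q le_rfl f)

theorem appLE_base (hc : p' ≫ h = q ≫ p) (U : X.Opens) (c : Γ(X, U)) :
    q.appLE (p ⁻¹ᵁ U) (p' ⁻¹ᵁ (h ⁻¹ᵁ U)) (sqle hc U) (p.app U c) =
      p'.app (h ⁻¹ᵁ U) (h.app U c) := by
  have l1 : p' ⁻¹ᵁ (h ⁻¹ᵁ U) ≤ (q ≫ p) ⁻¹ᵁ U := sqle hc U
  have l2 : p' ⁻¹ᵁ (h ⁻¹ᵁ U) ≤ (p' ≫ h) ⁻¹ᵁ U := le_rfl
  rw [app_appLE q p (sqle hc U) l1, appLE_hom_congr hc.symm l1 l2]
  have := app_appLE p' h (le_refl (p' ⁻¹ᵁ (h ⁻¹ᵁ U))) l2 c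
  rw [← this, appLE_self_app]

theorem local_pull (hc : p' ≫ h = q ≫ p) {U : X.Opens} {y : Γ(V, p ⁻¹ᵁ U)} {f : Γ(V, ⊤)} {n : ℕ} {c : Γ(X, U)}
    (e : rs p le_top (tt p f) = p.app U c * y ^ n) :
    rs p' le_top (tt p' (q.appTop f)) =
      p'.app (h ⁻¹ᵁ U) (h.app U c) * (q.appLE (p ⁻¹ᵁ U) (p' ⁻¹ᵁ (h ⁻¹ᵁ U)) (sqle hc U) y) ^ n := by
  rw [← appLE_tt hc, e, map_mul, map_pow, appLE_base hc]

variable [IsAffineHom p'] {chart : ∀ U : X.Opens, Set (Γ(V, p ⁻¹ᵁ U))}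
  {chart' : ∀ U : X'.Opens, Set (Γ(V', p' ⁻¹ᵁ U))}

theorem wt_pull (hc : p' ≫ h = q ≫ p) (A : Atl p chart) (A' : Atl p' chart')
    (hch : ∀ (U : X.Opens) (y : Γ(V, p ⁻¹ᵁ U)), y ∈ chart U →
      q.appLE (p ⁻¹ᵁ U) (p' ⁻¹ᵁ (h ⁻¹ᵁ U)) (sqle hc U) y ∈ chart' (h ⁻¹ᵁ U)) {n : ℕ} {f : Γ(V, ⊤)}
    (hf : Wt p chart n ⊤ (tt p f)) : Wt p' chart' n ⊤ (tt p' (q.appTop f)) := by
  apply Wt.of_local A'
  intro x _
  obtain ⟨U, hxU, y, hy⟩ := A.cover (h x)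
  obtain ⟨c, e⟩ := hf U le_top y (adm_of_mem hy)
  refine ⟨h ⁻¹ᵁ U, le_top, hxU, ?_⟩
  rw [local_pull hc e]
  exact Wt.of_adm A' (adm_of_mem (hch U y hy)) _

theorem nv_pull [IsAffineHom p] (hc : p' ≫ h = q ≫ p) (A : Atl p chart) (A' : Atl p' chart')
    (hch : ∀ (U : X.Opens) (y : Γ(V, p ⁻¹ᵁ U)), y ∈ chart U →
      q.appLE (p ⁻¹ᵁ U) (p' ⁻¹ᵁ (h ⁻¹ᵁ U)) (sqle hc U) y ∈ chart' (h ⁻¹ᵁ U)) {n : ℕ} {f : Γ(V, ⊤)}
    (hf : Wt p chart n ⊤ (tt p f)) : nv p' (tt p' (q.appTop f)) = h ⁻¹' nv p (tt p f) := by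
  ext x
  obtain ⟨U, hxU, y, hy⟩ := A.cover (h x)
  obtain ⟨c, e⟩ := hf U le_top y (adm_of_mem hy)
  have e1 : nv p (tt p f) ∩ U = X.basicOpen c := by
    rw [← nv_rs le_top, e]
    exact nv_adm A (adm_of_mem hy) c
  have e2 : nv p' (tt p' (q.appTop f)) ∩ (h ⁻¹ᵁ U : X'.Opens) = X'.basicOpen (h.app U c) := by
    rw [← nv_rs le_top, local_pull hc e]
    exact nv_adm A' (adm_of_mem (hch U y hy)) _
  have e3 : X'.basicOpen (h.app U c) = h ⁻¹ᵁ (X.basicOpen c) := (Scheme.preimage_basicOpen h c).symm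
  constructor
  · intro hx
    have h1 : x ∈ nv p' (tt p' (q.appTop f)) ∩ (h ⁻¹ᵁ U : X'.Opens) := ⟨hx, hxU⟩
    rw [e2, e3] at h1
    have h2 : h x ∈ nv p (tt p f) ∩ U := by rw [e1]; exact h1
    exact h2.1
  · intro hx
    have h2 : h x ∈ nv p (tt p f) ∩ U := ⟨hx, hxU⟩
    rw [e1] at h2
    have h1 : x ∈ nv p' (tt p' (q.appTop f)) ∩ (h ⁻¹ᵁ U : X'.Opens) := by rw [e2, e3]; exact h2
    exact h1.1

end Sch

section Bun

variable {S : Scheme.{u}} {G X X' : Over S} [GrpObj G] {a : AlgGrp.Action G X} {a' : AlgGrp.Action G X'}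

/-- `q` is a morphism of linearised line bundles over `h` -/
structure Mor (h : X' ⟶ X) (B : GLinSh.LinBun G a) (B' : GLinSh.LinBun G a') (q : B'.V ⟶ B.V) : Prop where
  comm : B'.π ≫ h = q ≫ B.π
  lift : B'.lift.act ≫ q = (G ◁ q) ≫ B.lift.act
  chart : ∀ (U : X.left.Opens) (le : B'.π.left ⁻¹ᵁ (h.left ⁻¹ᵁ U) ≤ q.left ⁻¹ᵁ (B.π.left ⁻¹ᵁ U))
    (y : Γ(B.V.left, B.π.left ⁻¹ᵁ U)), y ∈ B.atlas.chart U →
      q.left.appLE (B.π.left ⁻¹ᵁ U) (B'.π.left ⁻¹ᵁ (h.left ⁻¹ᵁ U)) le y ∈ B'.atlas.chart (h.left ⁻¹ᵁ U)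

variable {h : X' ⟶ X} {B : GLinSh.LinBun G a} {B' : GLinSh.LinBun G a'} {q : B'.V ⟶ B.V}

theorem Mor.comm_left (m : Mor h B B' q) : B'.π.left ≫ h.left = q.left ≫ B.π.left :=
  congrArg Over.Hom.left m.comm

theorem Mor.hasWeight (m : Mor h B B' q) {n : ℕ} {f : Γ(B.V.left, ⊤)} (hf : GLinSh.HasWeight B.atlas.chart n f) :
    GLinSh.HasWeight B'.atlas.chart n (q.left.appTop f) := by
  rw [hasWeight_iff] at hf ⊢
  exact wt_pull m.comm_left (atl B.atlas) (atl B'.atlas) (fun U y hy => m.chart U _ y hy) hf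

theorem Mor.nonvanishing (m : Mor h B B' q) {n : ℕ} {f : Γ(B.V.left, ⊤)} (hf : GLinSh.HasWeight B.atlas.chart n f) :
    GLinSh.nonvanishing B'.π (q.left.appTop f) = h.left.base ⁻¹' GLinSh.nonvanishing B.π f := by
  rw [hasWeight_iff] at hf
  rw [nonvanishing_eq, nonvanishing_eq]
  exact nv_pull m.comm_left (atl B.atlas) (atl B'.atlas) (fun U y hy => m.chart U _ y hy) hf

theorem Mor.isInvFn (m : Mor h B B' q) {f : Γ(B.V.left, ⊤)} (hf : GLinSh.IsInvFn B.lift f) :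
    GLinSh.IsInvFn B'.lift (q.left.appTop f) := by
  have e1 : (B'.lift.act ≫ q).left = ((G ◁ q) ≫ B.lift.act).left := congrArg Over.Hom.left m.lift
  have e2 : (snd G B'.V ≫ q).left = ((G ◁ q) ≫ snd G B.V).left := by rw [whiskerLeft_snd]
  have e3 := congrArg (fun φ : (G ⊗ B'.V).left ⟶ B.V.left => φ.appTop f) e1
  have e4 := congrArg (fun φ : (G ⊗ B'.V).left ⟶ B.V.left => φ.appTop f) e2
  simp only [Over.comp_left, Scheme.Hom.comp_appTop, CommRingCat.comp_apply] at e3 e4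
  change B'.lift.act.left.appTop (q.left.appTop f) = (snd G B'.V).left.appTop (q.left.appTop f)
  rw [e3, e4]
  exact congrArg _ hf

theorem Mor.isInvSection (m : Mor h B B' q) {n : ℕ} {f : Γ(B.V.left, ⊤)} (hf : B.IsInvSection n f) :
    B'.IsInvSection n (q.left.appTop f) :=
  ⟨m.hasWeight hf.1, m.isInvFn hf.2⟩

/-- the projection of the pull-back is a morphism of linearised line bundles -/
theorem mor_pull (h : X' ⟶ X) (he : a'.act ≫ h = (G ◁ h) ≫ a.act) (B : GLinSh.LinBun G a) :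
    Mor h B (pull a' h he B) (pq h B) where
  comm := by
    change pπ h B ≫ h = _
    exact pullback.condition.symm
  lift := pact_q a' h he B
  chart U le y hy := ⟨U, le_rfl, y, hy, rfl⟩

/-- pull-back of semi-stable points along an affine equivariant morphism -/
theorem Mor.isSemistablePt (m : Mor h B B' q) [IsAffineHom h.left] {x : X'.left}
    (hx : B.IsSemistablePt (h.left x)) : B'.IsSemistablePt x := by
  obtain ⟨n, f, hn, hf, hxf, U, hU, hUa⟩ := hx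
  refine ⟨n, _, hn, m.isInvSection hf, ?_, h.left ⁻¹ᵁ U, ?_, hUa.preimage _⟩
  · rw [m.nonvanishing hf.1]; exact hxf
  · rw [m.nonvanishing hf.1, ← hU]; rfl

end Bun

end K689.Compat
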