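import Groth.Agent.GIT.K689.SchGlue
import Mathlib.Algebra.Polynomial.Eval.Defs
import Mathlib.RingTheory.Polynomial.Basic

/-!
# Fibre coordinates of an affine morphism

`p : V ⟶ X` affine, `y` a function on `p⁻¹U`.  `IsCoord p U y` says that `p⁻¹U` is the affine line over `U`
with coordinate `y`; the universal property, sections, restriction and base change.
-/

set_option autoImplicit false

universe u

open CategoryTheory CategoryTheory.Limits AlgebraicGeometry TopologicalSpace Opposite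

namespace K689.Coord

open K689.SchGlue

variable {X V : Scheme.{u}} (p : V ⟶ X)

/-- restriction of functions over preimages of opens of the base -/
abbrev rs {U W : X.Opens} (h : W ≤ U) (y : Γ(V, p ⁻¹ᵁ U)) : Γ(V, p ⁻¹ᵁ W) :=
  V.presheaf.map (homOfLE (p.preimage_mono h)).op y

/-- `y` is a fibre coordinate for `p` over `U` -/
def IsCoord (U : X.Opens) (y : Γ(V, p ⁻¹ᵁ U)) : Prop :=
  ∀ (W : X.Opens), IsAffineOpen W → ∀ (hWU : W ≤ U),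
    Function.Bijective (Polynomial.eval₂RingHom (p.app W).hom (rs p hWU y))

variable {p}

theorem rs_rs {U W W' : X.Opens} (h : W ≤ U) (h' : W' ≤ W) (y : Γ(V, p ⁻¹ᵁ U)) :
    rs p h' (rs p h y) = rs p (h'.trans h) y := by
  simp only [rs]
  rw [← CommRingCat.comp_apply, ← V.presheaf.map_comp]
  rfl

theorem rs_self {U : X.Opens} (y : Γ(V, p ⁻¹ᵁ U)) : rs p le_rfl y = y := by
  simp [rs]

theorem rs_app {U W : X.Opens} (h : W ≤ U) (c : Γ(X, U)) : rs p h (p.app U c) = p.app W (rsec h c) := by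
  simp only [rs, rsec]
  rw [← CommRingCat.comp_apply, ← CommRingCat.comp_apply]
  congr 2
  exact (p.naturality _).symm

theorem IsCoord.restrict {U W : X.Opens} {y : Γ(V, p ⁻¹ᵁ U)} (hy : IsCoord p U y) (h : W ≤ U) :
    IsCoord p W (rs p h y) := by
  intro W' hW' h'
  rw [rs_rs]
  exact hy W' hW' _

/-- evaluation of a function on `p⁻¹U` along a morphism `s` with `s ≫ p` landing in `U` -/
noncomputable abbrev ev {T : Scheme.{u}} (s : T ⟶ V) {U : X.Opens} (h : ⊤ ≤ s ⁻¹ᵁ (p ⁻¹ᵁ U)) (y : Γ(V, p ⁻¹ᵁ U)) :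
    Γ(T, ⊤) := s.appLE (p ⁻¹ᵁ U) ⊤ h y

theorem ev_rs {T : Scheme.{u}} (s : T ⟶ V) {U W : X.Opens} (h : ⊤ ≤ s ⁻¹ᵁ (p ⁻¹ᵁ W)) (h' : W ≤ U)
    (y : Γ(V, p ⁻¹ᵁ U)) : ev s h (rs p h' y) = ev s (h.trans (s.preimage_mono (p.preimage_mono h'))) y := by
  simp only [ev, rs]
  rw [← CommRingCat.comp_apply, Scheme.Hom.map_appLE]

theorem ev_comp {T T' : Scheme.{u}} (v : T' ⟶ T) (s : T ⟶ V) {U : X.Opens} (h : ⊤ ≤ s ⁻¹ᵁ (p ⁻¹ᵁ U))
    (h' : ⊤ ≤ (v ≫ s) ⁻¹ᵁ (p ⁻¹ᵁ U)) (y : Γ(V, p ⁻¹ᵁ U)) : ev (v ≫ s) h' y = v.appTop (ev s h y) := by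
  have e : s.appLE (p ⁻¹ᵁ U) ⊤ h ≫ v.appLE ⊤ ⊤ le_top = (v ≫ s).appLE (p ⁻¹ᵁ U) ⊤ h' :=
    Scheme.Hom.appLE_comp_appLE _ _ _ _ _ _ _
  have e' : v.appLE ⊤ ⊤ le_top = v.appTop := Scheme.Hom.appLE_eq_app _
  rw [e'] at e
  exact (congrArg (fun f => f.hom y) e).symm

theorem ev_app {T : Scheme.{u}} (s : T ⟶ V) {U : X.Opens} (h : ⊤ ≤ s ⁻¹ᵁ (p ⁻¹ᵁ U)) (b : T ⟶ X) (hb : s ≫ p = b)
    (hb' : ⊤ ≤ b ⁻¹ᵁ U) (c : Γ(X, U)) : ev s h (p.app U c) = b.appLE U ⊤ hb' c := by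
  subst hb
  simp only [ev]
  rw [← CommRingCat.comp_apply]
  exact congrArg (fun f => f.hom c) (Scheme.Hom.comp_appLE s p U ⊤ h).symm

theorem hom_ext_aux [IsAffineHom p] {U : X.Opens} {y : Γ(V, p ⁻¹ᵁ U)} (hy : IsCoord p U y) (hU : IsAffineOpen U)
    {T : Scheme.{u}} (s s' : T ⟶ V) (h : ⊤ ≤ s ⁻¹ᵁ (p ⁻¹ᵁ U)) (h' : ⊤ ≤ s' ⁻¹ᵁ (p ⁻¹ᵁ U))
    (hp : s ≫ p = s' ≫ p) (he : ev s h y = ev s' h' y) : s = s' := by
  have hV : IsAffineOpen (p ⁻¹ᵁ U) := hU.preimage p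
  apply eq_of_appLE_eq s s' hV h h'
  have hsurj := (hy U hU le_rfl).2
  ext b
  obtain ⟨q, rfl⟩ := hsurj b
  have e1 : ((s.appLE (p ⁻¹ᵁ U) ⊤ h).hom.comp (Polynomial.eval₂RingHom (p.app U).hom (rs p le_rfl y))) =
      ((s'.appLE (p ⁻¹ᵁ U) ⊤ h').hom.comp (Polynomial.eval₂RingHom (p.app U).hom (rs p le_rfl y))) := by
    apply Polynomial.ringHom_ext
    · intro c
      simp only [RingHom.comp_apply, Polynomial.coe_eval₂RingHom, Polynomial.eval₂_C]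
      have e2 : p.app U ≫ s.appLE (p ⁻¹ᵁ U) ⊤ h = p.app U ≫ s'.appLE (p ⁻¹ᵁ U) ⊤ h' := by
        refine (Scheme.Hom.comp_appLE s p U ⊤ h).symm.trans (Eq.trans ?_ (Scheme.Hom.comp_appLE s' p U ⊤ h'))
        congr 1
      exact congrArg (fun f => f.hom c) e2
    · simp only [RingHom.comp_apply, Polynomial.coe_eval₂RingHom, Polynomial.eval₂_X]
      have := he
      rw [← ev_rs s h le_rfl, ← ev_rs s' h' le_rfl] at this
      exact this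
  exact congrArg (fun f => f q) e1

/-- the ring map out of the functions on `p⁻¹U` (`U` affine) given by a map on `Γ(U)` and the value at `y` -/
noncomputable def ringLift {U : X.Opens} {y : Γ(V, p ⁻¹ᵁ U)} (hy : IsCoord p U y) (hU : IsAffineOpen U)
    {R : CommRingCat.{u}} (ψ : Γ(X, U) ⟶ R) (t : R) : Γ(V, p ⁻¹ᵁ U) ⟶ R :=
  CommRingCat.ofHom ((Polynomial.eval₂RingHom ψ.hom t).comp
    (RingEquiv.ofBijective _ (hy U hU le_rfl)).symm.toRingHom)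

theorem ringLift_eval₂ {U : X.Opens} {y : Γ(V, p ⁻¹ᵁ U)} (hy : IsCoord p U y) (hU : IsAffineOpen U)
    {R : CommRingCat.{u}} (ψ : Γ(X, U) ⟶ R) (t : R) (q : Polynomial Γ(X, U)) :
    ringLift hy hU ψ t (q.eval₂ (p.app U).hom (rs p le_rfl y)) = q.eval₂ ψ.hom t := by
  have h : (RingEquiv.ofBijective _ (hy U hU le_rfl)).symm (q.eval₂ (p.app U).hom (rs p le_rfl y)) = q := by
    rw [RingEquiv.symm_apply_eq]; rfl
  change Polynomial.eval₂RingHom ψ.hom t ((RingEquiv.ofBijective _ (hy U hU le_rfl)).symm _) = _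
  rw [h]
  rfl

theorem ringLift_app {U : X.Opens} {y : Γ(V, p ⁻¹ᵁ U)} (hy : IsCoord p U y) (hU : IsAffineOpen U)
    {R : CommRingCat.{u}} (ψ : Γ(X, U) ⟶ R) (t : R) : p.app U ≫ ringLift hy hU ψ t = ψ := by
  ext c
  have := ringLift_eval₂ hy hU ψ t (Polynomial.C c)
  simpa using this

theorem ringLift_coord {U : X.Opens} {y : Γ(V, p ⁻¹ᵁ U)} (hy : IsCoord p U y) (hU : IsAffineOpen U)
    {R : CommRingCat.{u}} (ψ : Γ(X, U) ⟶ R) (t : R) : ringLift hy hU ψ t y = t := by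
  have := ringLift_eval₂ hy hU ψ t Polynomial.X
  rw [Polynomial.eval₂_X, Polynomial.eval₂_X, rs_self] at this
  exact this

theorem exists_lift_aux [IsAffineHom p] {U : X.Opens} {y : Γ(V, p ⁻¹ᵁ U)} (hy : IsCoord p U y) (hU : IsAffineOpen U)
    {T : Scheme.{u}} (b : T ⟶ X) (hb : ⊤ ≤ b ⁻¹ᵁ U) (t : Γ(T, ⊤)) :
    ∃ (s : T ⟶ V) (h : ⊤ ≤ s ⁻¹ᵁ (p ⁻¹ᵁ U)), s ≫ p = b ∧ ev s h y = t := by
  refine ⟨ofRing (hU.preimage p) (ringLift hy hU (b.appLE U ⊤ hb) t), ofRing_le _ _, ?_, ?_⟩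
  · have h1 : ofRing (hU.preimage p) (ringLift hy hU (b.appLE U ⊤ hb) t) ≫ p =
        T.toSpecΓ ≫ Spec.map (ringLift hy hU (b.appLE U ⊤ hb) t) ≫ (hU.preimage p).fromSpec ≫ p := by
      simp only [ofRing, Category.assoc]
    have h2 := IsAffineOpen.SpecMap_appLE_fromSpec p hU (hU.preimage p) le_rfl
    rw [Scheme.Hom.appLE_eq_app] at h2
    rw [h1, ← h2, ← Spec.map_comp_assoc, ringLift_app, toSpecΓ_map_appLE_fromSpec]
  · simp only [ev]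
    rw [appLE_ofRing, ringLift_coord]

theorem exists_affine_le {U : X.Opens} {x : X} (hx : x ∈ U) : ∃ W : X.Opens, IsAffineOpen W ∧ W ≤ U ∧ x ∈ W := by
  obtain ⟨_, ⟨W, hW, rfl⟩, htW, hWU⟩ := X.isBasis_affineOpens.exists_subset_of_mem_open hx U.2
  exact ⟨W, hW, hWU, htW⟩

/-- uniqueness in the universal property of a fibre coordinate -/
theorem IsCoord.hom_ext [IsAffineHom p] {U : X.Opens} {y : Γ(V, p ⁻¹ᵁ U)} (hy : IsCoord p U y)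
    {T : Scheme.{u}} (s s' : T ⟶ V) (h : ⊤ ≤ s ⁻¹ᵁ (p ⁻¹ᵁ U)) (h' : ⊤ ≤ s' ⁻¹ᵁ (p ⁻¹ᵁ U))
    (hp : s ≫ p = s' ≫ p) (he : ev s h y = ev s' h' y) : s = s' := by
  have hcov : ∀ t : T, ∃ W : X.Opens, IsAffineOpen W ∧ W ≤ U ∧ (s ≫ p) t ∈ W := fun t =>
    exists_affine_le (h (Set.mem_univ t))
  choose W hW hWU htW using hcov
  let O : T → T.Opens := fun t => (s ≫ p) ⁻¹ᵁ (W t)
  apply hom_ext_opens O (fun t => ⟨t, htW t⟩)
  intro t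
  have k1 : ⊤ ≤ ((O t).ι ≫ s) ⁻¹ᵁ (p ⁻¹ᵁ (W t)) := by
    rintro ⟨x, hx⟩ _
    exact hx
  have k2 : ⊤ ≤ ((O t).ι ≫ s') ⁻¹ᵁ (p ⁻¹ᵁ (W t)) := by
    rintro ⟨x, hx⟩ _
    have : (s ≫ p) x ∈ W t := hx
    rw [hp] at this
    exact this
  refine hom_ext_aux (hy.restrict (hWU t)) (hW t) ((O t).ι ≫ s) ((O t).ι ≫ s') k1 k2 (by simp [hp]) ?_
  rw [ev_rs, ev_rs, ev_comp (O t).ι s h, ev_comp (O t).ι s' h', he]

/-- existence in the universal property of a fibre coordinate -/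
theorem IsCoord.exists_lift [IsAffineHom p] {U : X.Opens} {y : Γ(V, p ⁻¹ᵁ U)} (hy : IsCoord p U y)
    {T : Scheme.{u}} (b : T ⟶ X) (hb : ⊤ ≤ b ⁻¹ᵁ U) (t : Γ(T, ⊤)) :
    ∃ (s : T ⟶ V) (h : ⊤ ≤ s ⁻¹ᵁ (p ⁻¹ᵁ U)), s ≫ p = b ∧ ev s h y = t := by
  have hcov : ∀ t : T, ∃ W : X.Opens, IsAffineOpen W ∧ W ≤ U ∧ b t ∈ W := fun t =>
    exists_affine_le (hb (Set.mem_univ t))
  choose W hW hWU htW using hcov
  let O : T → T.Opens := fun t => b ⁻¹ᵁ (W t)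
  have hloc : ∀ i : T, ∃ (s : (O i : Scheme.{u}) ⟶ V) (h : ⊤ ≤ s ⁻¹ᵁ (p ⁻¹ᵁ U)), s ≫ p = (O i).ι ≫ b ∧
      ev s h y = (O i).ι.appTop t := by
    intro i
    have k1 : ⊤ ≤ ((O i).ι ≫ b) ⁻¹ᵁ (W i) := by
      rintro ⟨x, hx⟩ _
      exact hx
    obtain ⟨s, h, h1, h2⟩ := exists_lift_aux (hy.restrict (hWU i)) (hW i) ((O i).ι ≫ b) k1 ((O i).ι.appTop t)
    refine ⟨s, h.trans (s.preimage_mono (p.preimage_mono (hWU i))), h1, ?_⟩
    rw [← h2, ev_rs]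
  choose s h h1 h2 using hloc
  obtain ⟨σ, hσ⟩ := glue_opens O (fun t => ⟨t, htW t⟩) s (by
    intro i j
    have q1 : ⊤ ≤ (T.homOfLE (inf_le_left : O i ⊓ O j ≤ O i) ≫ s i) ⁻¹ᵁ (p ⁻¹ᵁ U) :=
      fun x _ => h i (Set.mem_univ _)
    have q2 : ⊤ ≤ (T.homOfLE (inf_le_right : O i ⊓ O j ≤ O j) ≫ s j) ⁻¹ᵁ (p ⁻¹ᵁ U) :=
      fun x _ => h j (Set.mem_univ _)
    refine hy.hom_ext _ _ q1 q2 ?_ ?_
    · rw [Category.assoc, Category.assoc, h1, h1]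
      simp
    · rw [ev_comp _ _ (h i), ev_comp _ _ (h j), h2, h2]
      have e : T.homOfLE (inf_le_left : O i ⊓ O j ≤ O i) ≫ (O i).ι =
          T.homOfLE (inf_le_right : O i ⊓ O j ≤ O j) ≫ (O j).ι := by simp
      have e' := congrArg (fun f => Scheme.Hom.appTop f) e
      simp only [Scheme.Hom.comp_appTop] at e'
      exact congrArg (fun f => f.hom t) e')
  have hσp : σ ≫ p = b := by
    apply hom_ext_opens O (fun t => ⟨t, htW t⟩)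
    intro i
    rw [← Category.assoc, hσ, h1]
  have hle : ⊤ ≤ σ ⁻¹ᵁ (p ⁻¹ᵁ U) := by
    intro x _
    change (σ ≫ p) x ∈ U
    rw [hσp]
    exact hb (Set.mem_univ x)
  refine ⟨σ, hle, hσp, ?_⟩
  apply section_ext
  intro x _
  refine ⟨O x, le_top, htW x, ?_⟩
  apply rsec_eq_of_ι_appTop
  have hle' : ⊤ ≤ ((O x).ι ≫ σ) ⁻¹ᵁ (p ⁻¹ᵁ U) := fun z _ => hle (Set.mem_univ _)
  rw [← ev_comp (O x).ι σ hle hle', ← h2 x]
  simp only [ev, hσ]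

end K689.Coord
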