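import Groth.Agent.GIT.K689.Coord

/-!
# Fibre coordinates: the universal property characterises them; base change; sections
-/

set_option autoImplicit false

universe u

open CategoryTheory CategoryTheory.Limits AlgebraicGeometry TopologicalSpace Opposite

namespace K689.CoordUP

open K689.SchGlue K689.Coord

variable {X V : Scheme.{u}} {p : V ⟶ X}

/-- the universal property of the affine line with coordinate `y` -/
def HasUP (p : V ⟶ X) (U : X.Opens) (y : Γ(V, p ⁻¹ᵁ U)) : Prop :=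
  (∀ {T : Scheme.{u}} (b : T ⟶ X) (_ : ⊤ ≤ b ⁻¹ᵁ U) (t : Γ(T, ⊤)),
      ∃ (s : T ⟶ V) (h : ⊤ ≤ s ⁻¹ᵁ (p ⁻¹ᵁ U)), s ≫ p = b ∧ ev s h y = t) ∧
    ∀ {T : Scheme.{u}} (s s' : T ⟶ V) (h : ⊤ ≤ s ⁻¹ᵁ (p ⁻¹ᵁ U)) (h' : ⊤ ≤ s' ⁻¹ᵁ (p ⁻¹ᵁ U)),
      s ≫ p = s' ≫ p → ev s h y = ev s' h' y → s = s'

theorem IsCoord.up [IsAffineHom p] {U : X.Opens} {y : Γ(V, p ⁻¹ᵁ U)} (hy : IsCoord p U y) : HasUP p U y :=
  ⟨fun b hb t => hy.exists_lift b hb t, fun s s' h h' => hy.hom_ext s s' h h'⟩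

theorem ι_appLE_top (O : V.Opens) (h : ⊤ ≤ O.ι ⁻¹ᵁ O) : O.ι.appLE O ⊤ h = O.topIso.inv := by
  rw [Scheme.Opens.ι_appLE]
  simp [Scheme.Opens.topIso]
  rfl

theorem HasUP.isCoord {U : X.Opens} {y : Γ(V, p ⁻¹ᵁ U)} (hy : HasUP p U y) : IsCoord p U y := by
  intro W hW hWU
  -- the affine line over `W`
  let R : CommRingCat.{u} := CommRingCat.of (Polynomial Γ(X, W))
  let T : Scheme.{u} := Spec R
  let i : R ≅ Γ(T, ⊤) := (Scheme.ΓSpecIso R).symm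
  let c : Γ(X, W) ⟶ Γ(T, ⊤) := CommRingCat.ofHom Polynomial.C ≫ i.hom
  let b : T ⟶ X := ofRing hW c
  have hbW : ⊤ ≤ b ⁻¹ᵁ W := ofRing_le hW c
  obtain ⟨s, hs, hsp, hsy⟩ := hy.1 b (hbW.trans (b.preimage_mono hWU)) (i.hom Polynomial.X)
  have hsW : ⊤ ≤ s ⁻¹ᵁ (p ⁻¹ᵁ W) := by
    intro x hx
    change (s ≫ p) x ∈ W
    rw [hsp]
    exact hbW hx
  let e : R ⟶ Γ(V, p ⁻¹ᵁ W) := CommRingCat.ofHom (Polynomial.eval₂RingHom (p.app W).hom (rs p hWU y))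
  let r : Γ(V, p ⁻¹ᵁ W) ⟶ Γ(T, ⊤) := s.appLE (p ⁻¹ᵁ W) ⊤ hsW
  have h1 : e ≫ r = i.hom := by
    apply CommRingCat.hom_ext
    apply Polynomial.ringHom_ext
    · intro a
      have k1 : p.app W ≫ r = c := by
        have k2 : p.app W ≫ r = (s ≫ p).appLE W ⊤ hsW := (Scheme.Hom.comp_appLE s p W ⊤ hsW).symm
        have k3 : (s ≫ p).appLE W ⊤ hsW = b.appLE W ⊤ hbW := by
          congr 1
        rw [k2, k3]
        exact appLE_ofRing hW c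
      have k4 : (e ≫ r).hom (Polynomial.C a) = (p.app W ≫ r).hom a := by
        change r (Polynomial.eval₂ (p.app W).hom (rs p hWU y) (Polynomial.C a)) = r (p.app W a)
        rw [Polynomial.eval₂_C]
      rw [k4, k1]
      rfl
    · have k5 : (e ≫ r).hom Polynomial.X = ev s hsW (rs p hWU y) := by
        change r (Polynomial.eval₂ (p.app W).hom (rs p hWU y) Polynomial.X) = _
        rw [Polynomial.eval₂_X]
      rw [k5, ev_rs, hsy]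
  -- the other composite
  let O : V.Opens := p ⁻¹ᵁ W
  have hTop : IsAffineOpen (⊤ : T.Opens) := isAffineOpen_top T
  let φ : Γ(T, ⊤) ⟶ Γ((O : Scheme.{u}), ⊤) := i.inv ≫ e ≫ O.topIso.inv
  let g : (O : Scheme.{u}) ⟶ T := ofRing hTop φ
  have hg : g.appTop = φ := by
    have := appLE_ofRing hTop φ
    rw [← this]
    exact (Scheme.Hom.appLE_eq_app _).symm
  have hgs : g ≫ s = O.ι := by
    have m1 : ⊤ ≤ (g ≫ s) ⁻¹ᵁ (p ⁻¹ᵁ U) := fun x _ => hs (Set.mem_univ _)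
    have m2 : ⊤ ≤ O.ι ⁻¹ᵁ (p ⁻¹ᵁ U) := fun x _ => hWU x.2
    refine hy.2 (g ≫ s) O.ι m1 m2 ?_ ?_
    · have m3 : ⊤ ≤ ((g ≫ s) ≫ p) ⁻¹ᵁ W := fun x _ => hsW (Set.mem_univ _)
      have m4 : ⊤ ≤ (O.ι ≫ p) ⁻¹ᵁ W := fun x _ => x.2
      refine eq_of_appLE_eq _ _ hW m3 m4 ?_
      have n1 : ((g ≫ s) ≫ p).appLE W ⊤ m3 = c ≫ φ := by
        have n2 : ((g ≫ s) ≫ p).appLE W ⊤ m3 = (g ≫ b).appLE W ⊤ (fun x _ => hbW (Set.mem_univ _)) := by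
          congr 1
          rw [Category.assoc, hsp]
        rw [n2]
        have n3 := Scheme.Hom.appLE_comp_appLE g b W ⊤ ⊤ hbW le_top
        have n4 : g.appLE ⊤ ⊤ le_top = g.appTop := Scheme.Hom.appLE_eq_app _
        rw [n4, hg] at n3
        rw [← n3]
        congr 1
        exact appLE_ofRing hW c
      have n5 : (O.ι ≫ p).appLE W ⊤ m4 = p.app W ≫ O.topIso.inv := by
        have n6 : ⊤ ≤ O.ι ⁻¹ᵁ O := fun x _ => x.2
        have n7 : (O.ι ≫ p).appLE W ⊤ m4 = p.app W ≫ O.ι.appLE O ⊤ n6 := Scheme.Hom.comp_appLE O.ι p W ⊤ m4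
        rw [n7, ι_appLE_top]
      rw [n1, n5]
      simp only [φ, c, Category.assoc, Iso.hom_inv_id_assoc]
      have n8 : CommRingCat.ofHom Polynomial.C ≫ e = p.app W := by
        apply CommRingCat.hom_ext
        ext a
        simp [e]
      rw [← n8, Category.assoc]
    · rw [ev_comp g s hs m1, hsy, hg]
      have n9 : ev O.ι m2 y = O.topIso.inv (rs p hWU y) := by
        have n6 : ⊤ ≤ O.ι ⁻¹ᵁ O := fun x _ => x.2
        have n10 : ev O.ι n6 (rs p hWU y) = ev O.ι m2 y := ev_rs _ _ _ _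
        rw [← n10]
        simp only [ev]
        exact congrArg (fun f => f.hom (rs p hWU y)) (ι_appLE_top O n6)
      rw [n9]
      have n11 : i.hom ≫ φ = e ≫ O.topIso.inv := by simp only [φ, Iso.hom_inv_id_assoc]
      have n12 : (i.hom ≫ φ).hom Polynomial.X = (e ≫ O.topIso.inv).hom Polynomial.X := by rw [n11]
      refine n12.trans ?_
      change O.topIso.inv (Polynomial.eval₂ (p.app W).hom (rs p hWU y) Polynomial.X) = _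
      rw [Polynomial.eval₂_X]
  have h2 : r ≫ i.inv ≫ e = 𝟙 _ := by
    have n6 : ⊤ ≤ O.ι ⁻¹ᵁ O := fun x _ => x.2
    have q1 : r ≫ φ = O.topIso.inv := by
      have q2 := Scheme.Hom.appLE_comp_appLE g s (p ⁻¹ᵁ W) ⊤ ⊤ hsW le_top
      have n4 : g.appLE ⊤ ⊤ le_top = g.appTop := Scheme.Hom.appLE_eq_app _
      rw [n4, hg] at q2
      rw [← ι_appLE_top O n6]
      refine q2.trans ?_
      congr 1
    have q3 : r ≫ φ ≫ O.topIso.hom = 𝟙 _ := by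
      rw [← Category.assoc, q1, Iso.inv_hom_id]
    simpa only [φ, Category.assoc, Iso.inv_hom_id, Category.comp_id] using q3
  have hiso : IsIso e := by
    refine ⟨r ≫ i.inv, ?_, ?_⟩
    · rw [← Category.assoc, h1, Iso.hom_inv_id]
    · rw [Category.assoc, h2]
  exact ConcreteCategory.bijective_of_isIso e

/-- base change of a fibre coordinate -/
theorem HasUP.baseChange {U : X.Opens} {y : Γ(V, p ⁻¹ᵁ U)} (hy : HasUP p U y) {X' V' : Scheme.{u}} {q' : V' ⟶ V}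
    {p' : V' ⟶ X'} {q : X' ⟶ X} (hpb : IsPullback q' p' p q) (U' : X'.Opens) (hU' : U' ≤ q ⁻¹ᵁ U)
    (hle : p' ⁻¹ᵁ U' ≤ q' ⁻¹ᵁ (p ⁻¹ᵁ U)) :
    HasUP p' U' (q'.appLE (p ⁻¹ᵁ U) (p' ⁻¹ᵁ U') hle y) := by
  have key : ∀ {T : Scheme.{u}} (s : T ⟶ V') (h : ⊤ ≤ s ⁻¹ᵁ (p' ⁻¹ᵁ U')) (h' : ⊤ ≤ (s ≫ q') ⁻¹ᵁ (p ⁻¹ᵁ U)),
      ev s h (q'.appLE (p ⁻¹ᵁ U) (p' ⁻¹ᵁ U') hle y) = ev (s ≫ q') h' y := by
    intro T s h h'
    have := Scheme.Hom.appLE_comp_appLE s q' (p ⁻¹ᵁ U) (p' ⁻¹ᵁ U') ⊤ hle h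
    exact congrArg (fun f => f.hom y) this
  have hle2 : ∀ {T : Scheme.{u}} (s : T ⟶ V') (h : ⊤ ≤ s ⁻¹ᵁ (p' ⁻¹ᵁ U')), ⊤ ≤ (s ≫ q') ⁻¹ᵁ (p ⁻¹ᵁ U) :=
    fun s h x hx => hle (h hx)
  refine ⟨?_, ?_⟩
  · intro T b hb t
    have hb' : ⊤ ≤ (b ≫ q) ⁻¹ᵁ U := fun x hx => hU' (hb hx)
    obtain ⟨s, hs, hsp, hst⟩ := hy.1 (b ≫ q) hb' t
    have hl : hpb.lift s b hsp ≫ p' = b := hpb.lift_snd _ _ _
    have hl' : hpb.lift s b hsp ≫ q' = s := hpb.lift_fst _ _ _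
    have hk : ⊤ ≤ (hpb.lift s b hsp) ⁻¹ᵁ (p' ⁻¹ᵁ U') := by
      intro x hx
      change (hpb.lift s b hsp ≫ p') x ∈ U'
      rw [hl]
      exact hb hx
    refine ⟨hpb.lift s b hsp, hk, hl, ?_⟩
    rw [key _ hk (hle2 _ hk), ← hst]
    simp only [ev, hl']
  · intro T s s' h h' h1 h2
    rw [key s h (hle2 s h), key s' h' (hle2 s' h')] at h2
    have h3 : s ≫ q' = s' ≫ q' := by
      refine hy.2 _ _ (hle2 s h) (hle2 s' h') ?_ h2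
      rw [Category.assoc, Category.assoc, hpb.w, reassoc_of% h1]
    exact hpb.hom_ext h3 h1

theorem _root_.K689.Coord.IsCoord.baseChange [IsAffineHom p] {U : X.Opens} {y : Γ(V, p ⁻¹ᵁ U)} (hy : IsCoord p U y)
    {X' V' : Scheme.{u}} {q' : V' ⟶ V} {p' : V' ⟶ X'} {q : X' ⟶ X} (hpb : IsPullback q' p' p q) (U' : X'.Opens)
    (hU' : U' ≤ q ⁻¹ᵁ U) (hle : p' ⁻¹ᵁ U' ≤ q' ⁻¹ᵁ (p ⁻¹ᵁ U)) :
    IsCoord p' U' (q'.appLE (p ⁻¹ᵁ U) (p' ⁻¹ᵁ U') hle y) :=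
  (HasUP.baseChange (IsCoord.up hy) hpb U' hU' hle).isCoord

end K689.CoordUP
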