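import Groth.Agent.GIT.K689.LocGeom
import Mathlib.AlgebraicGeometry.Morphisms.QuasiSeparated

/-!
# Extension of functions on `X_f` to sections of powers
-/

set_option autoImplicit false

universe u

open CategoryTheory CategoryTheory.Limits MonoidalCategory CartesianMonoidalCategory MonObj AlgebraicGeometry
  TopologicalSpace Topology

namespace K689.ExtSec

open K689.SchGlue K689.Coord K689.CoordUP K689.Weight K689.Ratio K689.ActBasic K689.LinBunBasic K689.PullBun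
  K689.LocGeom

section Gen

variable {T : Scheme.{u}}

theorem rsec_mul {U W : T.Opens} (h : W ≤ U) (f g : Γ(T, U)) : rsec h (f * g) = rsec h f * rsec h g := map_mul _ _ _

theorem rsec_sub {U W : T.Opens} (h : W ≤ U) (f g : Γ(T, U)) : rsec h (f - g) = rsec h f - rsec h g := map_sub _ _ _

theorem rsec_pow {U W : T.Opens} (h : W ≤ U) (f : Γ(T, U)) (n : ℕ) : rsec h (f ^ n) = rsec h f ^ n := map_pow _ _ _

theorem exists_ext {U : T.Opens} (hU : IsCompact (U : Set T)) (hU' : IsQuasiSeparated (U : Set T)) (f : Γ(T, U))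
    (x : Γ(T, T.basicOpen f)) :
    ∃ (n : ℕ) (y : Γ(T, U)), rsec (T.basicOpen_le f) y = rsec (T.basicOpen_le f) f ^ n * x :=
  exists_eq_pow_mul_of_isCompact_of_isQuasiSeparated T U hU hU' f x

theorem exists_pow_mul_eq_zero {U : T.Opens} (hU : IsCompact (U : Set T)) (x f : Γ(T, U))
    (h : rsec (T.basicOpen_le f) x = 0) : ∃ n : ℕ, f ^ n * x = 0 :=
  exists_pow_mul_eq_zero_of_res_basicOpen_eq_zero_of_isCompact T hU x f h

end Gen

section Sch

variable {X V : Scheme.{u}} {p : V ⟶ X} [IsAffineHom p] {chart : ∀ U : X.Opens, Set (Γ(V, p ⁻¹ᵁ U))}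

theorem basicOpen_le_preimage {F : Γ(V, p ⁻¹ᵁ ⊤)} {O : X.Opens} (hO : (O : Set X) = nv p F) :
    V.basicOpen F ≤ p ⁻¹ᵁ O := by
  intro v hv
  have : p v ∈ (O : Set X) := by
    rw [hO]
    exact ⟨v, hv, rfl⟩
  exact this

theorem local_step (A : Atl p chart) {n : ℕ} {F : Γ(V, p ⁻¹ᵁ ⊤)} (hF : Wt p chart n ⊤ F) {O : X.Opens}
    (hO : (O : Set X) = nv p F) (r : Γ(X, O)) {n₁ : ℕ} {h₁ : Γ(V, p ⁻¹ᵁ ⊤)}
    (e₁ : rsec (V.basicOpen_le F) h₁ =
      rsec (V.basicOpen_le F) F ^ n₁ * rsec (basicOpen_le_preimage hO) (p.app O r))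
    {W : X.Opens} (hWa : IsAffineOpen W) {y : Γ(V, p ⁻¹ᵁ W)} (hy : Adm p chart W y) :
    ∃ (M : ℕ) (b : Γ(X, W)), rs p (le_top : W ≤ ⊤) (F ^ M * h₁) = p.app W b * y ^ (n * (n₁ + M)) := by
  obtain ⟨c, hc⟩ := hF W le_top y hy
  have hD : (X.basicOpen c : Set X) = nv p F ∩ W := by
    rw [← nv_rs le_top, hc, nv_adm A hy]
  have hDO : X.basicOpen c ≤ O := by
    intro x hx
    have h1 : x ∈ (X.basicOpen c : Set X) := hx
    rw [hD] at h1
    have h2 : x ∈ (O : Set X) := by rw [hO]; exact h1.1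
    exact h2
  obtain ⟨l, b, hb⟩ := exists_ext hWa.isCompact hWa.isQuasiSeparated c (rsec hDO r)
  -- the difference
  let Fw : Γ(V, p ⁻¹ᵁ W) := rs p le_top F
  let hw : Γ(V, p ⁻¹ᵁ W) := rs p le_top h₁
  have hWc : IsCompact ((p ⁻¹ᵁ W : V.Opens) : Set V) := (hWa.preimage p).isCompact
  -- restriction to the basic open
  let D' : V.Opens := V.basicOpen Fw
  have hD1 : D' ≤ V.basicOpen F := by
    have : D' = (p ⁻¹ᵁ W) ⊓ V.basicOpen F := V.basicOpen_res _ _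
    rw [this]; exact inf_le_right
  have hD2 : D' ≤ p ⁻¹ᵁ W := V.basicOpen_le Fw
  have hD3 : D' ≤ p ⁻¹ᵁ (X.basicOpen c) := by
    intro v hv
    have h1 : p v ∈ (X.basicOpen c : Set X) := by
      rw [hD]
      exact ⟨⟨v, hD1 hv, rfl⟩, hD2 hv⟩
    exact h1
  have hD4 : D' ≤ p ⁻¹ᵁ O := hD3.trans (p.preimage_mono hDO)
  -- values on `D'`
  have v1 : rsec hD2 Fw = rsec hD2 (p.app W c) * rsec hD2 y ^ n := by
    have : Fw = p.app W c * y ^ n := hc
    rw [this, rsec_mul, rsec_pow]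
  have v2 : rsec hD2 hw = rsec hD2 Fw ^ n₁ * rsec hD4 (p.app O r) := by
    have h1 := congrArg (rsec hD1) e₁
    rw [rsec_mul, rsec_pow, rsec_rsec, rsec_rsec, rsec_rsec] at h1
    have h2 : rsec hD2 hw = rsec (hD1.trans (V.basicOpen_le F)) h₁ := rsec_rsec _ _ _
    have h3 : rsec hD2 Fw = rsec (hD1.trans (V.basicOpen_le F)) F := rsec_rsec _ _ _
    rw [h2, h3]
    exact h1
  have v3 : rsec hD2 (p.app W b) = rsec hD2 (p.app W c) ^ l * rsec hD4 (p.app O r) := by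
    have h1 : rsec hD3 (p.app (X.basicOpen c) (rsec (X.basicOpen_le c) b)) =
        rsec hD3 (p.app (X.basicOpen c) (rsec (X.basicOpen_le c) c ^ l * rsec hDO r)) := by rw [hb]
    rw [map_mul, map_pow, rsec_mul, rsec_pow, app_rsec, app_rsec, app_rsec, rsec_rsec, rsec_rsec, rsec_rsec] at h1
    exact h1
  have hz : rsec hD2 (Fw ^ l * hw - p.app W b * y ^ (n * l) * Fw ^ n₁) = 0 := by
    rw [rsec_sub, rsec_mul, rsec_mul, rsec_mul, rsec_pow, rsec_pow, rsec_pow, v2, v3, v1]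
    ring
  obtain ⟨M', hM'⟩ := exists_pow_mul_eq_zero hWc _ Fw hz
  refine ⟨M' + l, b * c ^ (n₁ + M'), ?_⟩
  have h5 : rs p (le_top : W ≤ ⊤) (F ^ (M' + l) * h₁) = Fw ^ (M' + l) * hw := by
    rw [rs_mul, rs_pow]
  rw [h5]
  have h6 : Fw ^ (M' + l) * hw = Fw ^ M' * (p.app W b * y ^ (n * l) * Fw ^ n₁) := by
    rw [mul_sub, sub_eq_zero] at hM'
    rw [← hM', pow_add]
    ring
  rw [h6]
  have h7 : Fw = p.app W c * y ^ n := hc
  rw [h7, map_mul, map_pow]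
  ring

/-- extension of a function on `X_F` to a weight function -/
theorem exists_ext_wt (A : Atl p chart) [CompactSpace X] [QuasiSeparatedSpace V] {n : ℕ} {F : Γ(V, p ⁻¹ᵁ ⊤)}
    (hF : Wt p chart n ⊤ F) {O : X.Opens} (hO : (O : Set X) = nv p F) (r : Γ(X, O)) :
    ∃ (N : ℕ) (s : Γ(V, p ⁻¹ᵁ ⊤)), Wt p chart (n * N) ⊤ s ∧ rsec (V.basicOpen_le F) s =
      rsec (V.basicOpen_le F) F ^ N * rsec (basicOpen_le_preimage hO) (p.app O r) := by
  have hc : IsCompact ((p ⁻¹ᵁ (⊤ : X.Opens) : V.Opens) : Set V) := p.isCompact_preimage isCompact_univ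
  obtain ⟨n₁, h₁, e₁⟩ := exists_ext hc isQuasiSeparated_univ F
    (rsec (basicOpen_le_preimage hO) (p.app O r))
  have hloc : ∀ x : X, ∃ (M : ℕ) (W : X.Opens) (y : Γ(V, p ⁻¹ᵁ W)) (b : Γ(X, W)), x ∈ W ∧ Adm p chart W y ∧
      rs p (le_top : W ≤ ⊤) (F ^ M * h₁) = p.app W b * y ^ (n * (n₁ + M)) := by
    intro x
    obtain ⟨W, -, y, hWa, hxW, hy⟩ := A.exists_adm (O := ⊤) (x := x) trivial
    obtain ⟨M, b, h⟩ := local_step A hF hO r e₁ hWa hy
    exact ⟨M, W, y, b, hxW, hy, h⟩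
  choose M W y b hxW hy hb using hloc
  obtain ⟨t, ht⟩ := isCompact_univ.elim_finite_subcover (fun x => (W x : Set X)) (fun x => (W x).2)
    (fun x _ => Set.mem_iUnion.2 ⟨x, hxW x⟩)
  let K : ℕ := ∑ x ∈ t, M x
  have hK : ∀ x ∈ t, M x ≤ K := fun x hx => Finset.single_le_sum (fun _ _ => Nat.zero_le _) hx
  refine ⟨n₁ + K, F ^ K * h₁, ?_, ?_⟩
  · apply Wt.of_local A
    intro x _
    obtain ⟨z, hz⟩ := Set.mem_iUnion.1 (ht (Set.mem_univ x))
    obtain ⟨hzt, hxz⟩ := Set.mem_iUnion.1 hz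
    refine ⟨W z, le_top, hxz, ?_⟩
    obtain ⟨c, hc⟩ := hF (W z) le_top (y z) (hy z)
    have h1 : rs p (le_top : W z ≤ ⊤) (F ^ K * h₁) =
        p.app (W z) (c ^ (K - M z) * b z) * y z ^ (n * (n₁ + K)) := by
      have h2 : F ^ K * h₁ = F ^ (K - M z) * (F ^ M z * h₁) := by
        rw [← _root_.mul_assoc, ← pow_add, Nat.sub_add_cancel (hK z hzt)]
      rw [h2, rs_mul, hb, rs_pow, hc, map_mul, map_pow, mul_pow, ← pow_mul]
      have h3 : n * (n₁ + K) = n * (K - M z) + n * (n₁ + M z) := by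
        rw [← mul_add]
        congr 1
        have := hK z hzt
        omega
      rw [h3, pow_add]
      ring
    rw [h1]
    exact Wt.of_adm A (hy z) _
  · rw [rsec_mul, e₁, rsec_pow]
    ring

theorem mem_basicOpen_iff_of_ext {F : Γ(V, p ⁻¹ᵁ ⊤)} {O : X.Opens} (hO : (O : Set X) = nv p F) (r : Γ(X, O)) {N : ℕ}
    {s : Γ(V, p ⁻¹ᵁ ⊤)} (e : rsec (V.basicOpen_le F) s =
      rsec (V.basicOpen_le F) F ^ N * rsec (basicOpen_le_preimage hO) (p.app O r)) {v : V} (hv : v ∈ V.basicOpen F) :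
    v ∈ V.basicOpen s ↔ p v ∈ X.basicOpen r := by
  have h1 : V.basicOpen (rsec (V.basicOpen_le F) s) = V.basicOpen F ⊓ V.basicOpen s := V.basicOpen_res _ _
  have h2 : V.basicOpen (rsec (basicOpen_le_preimage hO) (p.app O r)) = V.basicOpen F ⊓ V.basicOpen (p.app O r) :=
    V.basicOpen_res _ _
  have h3 : V.basicOpen (p.app O r) = p ⁻¹ᵁ X.basicOpen r := (p.preimage_basicOpen r).symm
  have h4 : V.basicOpen (rsec (V.basicOpen_le F) F ^ N) = V.basicOpen F := by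
    apply V.basicOpen_of_isUnit
    exact (RingedSpace.isUnit_res_basicOpen _ F).pow N
  have h5 : V.basicOpen (rsec (V.basicOpen_le F) F ^ N * rsec (basicOpen_le_preimage hO) (p.app O r)) =
      V.basicOpen (rsec (V.basicOpen_le F) F ^ N) ⊓ V.basicOpen (rsec (basicOpen_le_preimage hO) (p.app O r)) :=
    V.basicOpen_mul _ _
  rw [e, h5, h4, h2, h3] at h1
  constructor
  · intro h
    have h6 : v ∈ V.basicOpen F ⊓ V.basicOpen s := ⟨hv, h⟩
    rw [← h1] at h6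
    exact h6.2.2
  · intro h
    have h6 : v ∈ V.basicOpen F ⊓ (V.basicOpen F ⊓ p ⁻¹ᵁ X.basicOpen r) := ⟨hv, hv, h⟩
    rw [h1] at h6
    exact h6.2

theorem top_le_preimage (p : V ⟶ X) : (⊤ : V.Opens) ≤ p ⁻¹ᵁ ⊤ := fun _ _ => trivial

theorem tt_surjective (p : V ⟶ X) (s : Γ(V, p ⁻¹ᵁ ⊤)) : ∃ s₁ : Γ(V, ⊤), tt p s₁ = s := by
  refine ⟨rsec (top_le_preimage p) s, ?_⟩
  have h1 : tt p (rsec (top_le_preimage p) s) = rsec le_top (rsec (top_le_preimage p) s) := rfl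
  rw [h1, rsec_rsec]
  exact rsec_self s

end Sch

section Bun

variable {S : Scheme.{u}} {G X : Over S} [GrpObj G] {a : AlgGrp.Action G X} (B : GLinSh.LinBun G a)

/-- an invariant function on `X_f` extends to an invariant section of a power after multiplication by a power of `f` -/
theorem exists_ext_inv [CompactSpace X.left] [QuasiSeparatedSpace B.V.left] [CompactSpace (G ⊗ B.V).left]
    {n : ℕ} {f : Γ(B.V.left, ⊤)} (hf : B.IsInvSection n f) {O : X.left.Opens}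
    (hO : (O : Set X.left) = GLinSh.nonvanishing B.π f) (r : Γ(X.left, O))
    (hr : ∀ (W : (G ⊗ X).left.Opens) (h1 : W ≤ a.act.left ⁻¹ᵁ O) (h2 : W ≤ (snd G X).left ⁻¹ᵁ O),
      a.act.left.appLE O W h1 r = (snd G X).left.appLE O W h2 r) :
    ∃ (N : ℕ) (s : Γ(B.V.left, ⊤)), 1 ≤ N ∧ B.IsInvSection (n * N) s ∧
      GLinSh.nonvanishing B.π s = X.left.basicOpen r := by
  have hπ : IsAffineHom B.π.left := B.atlas.affine
  have A := atl B.atlas
  have hF := (hasWeight_iff B.atlas n f).1 hf.1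
  have hO' : (O : Set X.left) = nv B.π.left (tt B.π.left f) := by rw [hO, nonvanishing_eq]
  obtain ⟨N, s', hs', e⟩ := exists_ext_wt A hF hO' r
  obtain ⟨s₁, rfl⟩ := tt_surjective B.π.left s'
  -- the invariance
  let Φ := B.lift.act.left
  let q := (snd G B.V).left
  let W : B.V.left.Opens := B.V.left.basicOpen (tt B.π.left f)
  have hWf : W = B.V.left.basicOpen f := by
    have h1 : W = (B.π.left ⁻¹ᵁ ⊤) ⊓ B.V.left.basicOpen f := B.V.left.basicOpen_res _ _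
    rw [h1]
    exact inf_eq_right.2 fun x _ => trivial
  have hinv : Φ.appTop f = q.appTop f := hf.2
  let D : (G ⊗ B.V).left.Opens := (G ⊗ B.V).left.basicOpen (Φ.appTop f)
  have hD1 : D = Φ ⁻¹ᵁ W := by
    rw [hWf]
    exact (Φ.preimage_basicOpen f).symm
  have hD2 : D = q ⁻¹ᵁ W := by
    rw [hWf]
    have h1 : D = (G ⊗ B.V).left.basicOpen (q.appTop f) := by
      change (G ⊗ B.V).left.basicOpen (Φ.appTop f) = _
      rw [hinv]
    rw [h1]
    exact (q.preimage_basicOpen f).symm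
  have hWO : W ≤ B.π.left ⁻¹ᵁ O := basicOpen_le_preimage hO'
  have hW : W ≤ B.π.left ⁻¹ᵁ ⊤ := B.V.left.basicOpen_le _
  -- pull-back of the ratio
  let E := (G ◁ B.π).left
  have m1 : Φ ≫ B.π.left = E ≫ a.act.left := congrArg Over.Hom.left B.lift_π
  have m2 : q ≫ B.π.left = E ≫ (snd G X).left := by
    have : (snd G B.V ≫ B.π).left = ((G ◁ B.π) ≫ snd G X).left := by rw [whiskerLeft_snd]
    exact this
  have dO1 : D ≤ Φ ⁻¹ᵁ (B.π.left ⁻¹ᵁ O) := hD1.le.trans (Φ.preimage_mono hWO)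
  have dO2 : D ≤ q ⁻¹ᵁ (B.π.left ⁻¹ᵁ O) := hD2.le.trans (q.preimage_mono hWO)
  have dE1 : D ≤ E ⁻¹ᵁ (a.act.left ⁻¹ᵁ O) := by
    have h1 : E ⁻¹ᵁ (a.act.left ⁻¹ᵁ O) = Φ ⁻¹ᵁ (B.π.left ⁻¹ᵁ O) := by
      change (E ≫ a.act.left) ⁻¹ᵁ O = (Φ ≫ B.π.left) ⁻¹ᵁ O
      rw [m1]
    rw [h1]; exact dO1
  have dE2 : D ≤ E ⁻¹ᵁ ((snd G X).left ⁻¹ᵁ O) := by
    have h1 : E ⁻¹ᵁ ((snd G X).left ⁻¹ᵁ O) = q ⁻¹ᵁ (B.π.left ⁻¹ᵁ O) := by
      change (E ≫ (snd G X).left) ⁻¹ᵁ O = (q ≫ B.π.left) ⁻¹ᵁ O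
      rw [m2]
    rw [h1]; exact dO2
  let W₀ : (G ⊗ X).left.Opens := a.act.left ⁻¹ᵁ O ⊓ (snd G X).left ⁻¹ᵁ O
  have dE : D ≤ E ⁻¹ᵁ W₀ := fun z hz => ⟨dE1 hz, dE2 hz⟩
  have hρ : Φ.appLE W D hD1.le (rsec hWO (B.π.left.app O r)) = q.appLE W D hD2.le (rsec hWO (B.π.left.app O r)) := by
    rw [appLE_rsec Φ hWO hD1.le dO1, appLE_rsec q hWO hD2.le dO2, app_appLE Φ B.π.left dO1 dO1,
      app_appLE q B.π.left dO2 dO2, appLE_hom_congr m1 dO1 dE1, appLE_hom_congr m2 dO2 dE2,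
      ← appLE_appLE E a.act.left (W := W₀) inf_le_left dE dE1, hr W₀ inf_le_left inf_le_right,
      appLE_appLE E (snd G X).left (W := W₀) inf_le_right dE dE2]
  have htop : ∀ (g : (G ⊗ B.V).left ⟶ B.V.left) (hg : D ≤ g ⁻¹ᵁ W) (t : Γ(B.V.left, ⊤)),
      rsec (le_top : D ≤ ⊤) (g.appTop t) = g.appLE W D hg (rsec hW (tt B.π.left t)) := by
    intro g hg t
    have h1 : rsec hW (tt B.π.left t) = rsec (le_top : W ≤ ⊤) t := rsec_rsec _ _ _
    have l1 : D ≤ g ⁻¹ᵁ ⊤ := fun _ _ => trivial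
    have l2 : (⊤ : (G ⊗ B.V).left.Opens) ≤ g ⁻¹ᵁ ⊤ := fun _ _ => trivial
    rw [h1, appLE_rsec g le_top hg l1]
    have h2 : g.appTop t = g.appLE ⊤ ⊤ l2 t := by
      have := g.appLE_eq_app (U := ⊤)
      exact (congrArg (fun φ => φ.hom t) this).symm
    rw [h2]
    exact rsec_appLE g le_top l2 l1 t
  have hf' : ∀ (g : (G ⊗ B.V).left ⟶ B.V.left) (hg : D ≤ g ⁻¹ᵁ W), rsec (le_top : D ≤ ⊤) (g.appTop s₁) =
      rsec (le_top : D ≤ ⊤) (g.appTop f) ^ N * g.appLE W D hg (rsec hWO (B.π.left.app O r)) := by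
    intro g hg
    rw [htop g hg s₁, htop g hg f]
    have : rsec hW (tt B.π.left s₁) = rsec hW (tt B.π.left f) ^ N * rsec hWO (B.π.left.app O r) := e
    rw [this, map_mul, map_pow]
  have hz : rsec ((G ⊗ B.V).left.basicOpen_le (Φ.appTop f)) (Φ.appTop s₁ - q.appTop s₁) = 0 := by
    rw [rsec_sub, sub_eq_zero]
    have h1 := hf' Φ hD1.le
    have h2 := hf' q hD2.le
    rw [hinv, hρ] at h1
    exact h1.trans h2.symm
  obtain ⟨K, hK⟩ := exists_pow_mul_eq_zero (U := ⊤) isCompact_univ _ _ hz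
  have hinv₂ : GLinSh.IsInvFn B.lift (f ^ K * s₁) := by
    change Φ.appTop (f ^ K * s₁) = q.appTop (f ^ K * s₁)
    rw [map_mul, map_mul, map_pow, map_pow, ← hinv]
    rw [mul_sub, sub_eq_zero] at hK
    exact hK
  have hw₁ : GLinSh.HasWeight B.atlas.chart (n * N) s₁ := (hasWeight_iff B.atlas _ _).2 hs'
  have hw₂ : GLinSh.HasWeight B.atlas.chart (n * K + n * N) (f ^ K * s₁) := weight_mul B (weight_pow B hf.1 K) hw₁
  have hs₂ : B.IsInvSection (n * K + n * N) (f ^ K * s₁) := ⟨hw₂, hinv₂⟩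
  have hs₃ : B.IsInvSection (n + (n * K + n * N)) (f * (f ^ K * s₁)) := invSection_mul B hf hs₂
  refine ⟨1 + K + N, f * (f ^ K * s₁), by omega, ?_, ?_⟩
  · have : n * (1 + K + N) = n + (n * K + n * N) := by ring
    rw [this]
    exact hs₃
  · have hb : B.V.left.basicOpen (f * (f ^ K * s₁)) =
        B.V.left.basicOpen f ⊓ (B.V.left.basicOpen (f ^ K) ⊓ B.V.left.basicOpen s₁) := by
      rw [Scheme.basicOpen_mul, Scheme.basicOpen_mul]
    have hs₁ : B.V.left.basicOpen (tt B.π.left s₁) = B.V.left.basicOpen s₁ := by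
      have h1 : B.V.left.basicOpen (tt B.π.left s₁) = (B.π.left ⁻¹ᵁ ⊤) ⊓ B.V.left.basicOpen s₁ :=
        B.V.left.basicOpen_res _ _
      rw [h1]
      exact inf_eq_right.2 fun x _ => trivial
    have hfK : B.V.left.basicOpen f ≤ B.V.left.basicOpen (f ^ K) := by
      rcases Nat.eq_zero_or_pos K with h0 | h0
      · subst h0
        rw [pow_zero, B.V.left.basicOpen_of_isUnit isUnit_one]
        exact le_top
      · rw [B.V.left.basicOpen_pow f h0]
    have key := fun v (hv : v ∈ W) => mem_basicOpen_iff_of_ext hO' r e hv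
    change B.π.left.base '' (B.V.left.basicOpen (f * (f ^ K * s₁)) : Set B.V.left) = _
    ext x
    constructor
    · rintro ⟨v, hv, rfl⟩
      have h1 : v ∈ B.V.left.basicOpen (f * (f ^ K * s₁)) := hv
      rw [hb] at h1
      have h2 : v ∈ W := by rw [hWf]; exact h1.1
      have h3 : v ∈ B.V.left.basicOpen (tt B.π.left s₁) := by rw [hs₁]; exact h1.2.2
      exact (key v h2).1 h3
    · intro hx
      have hxO : x ∈ (O : Set X.left) := X.left.basicOpen_le r hx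
      rw [hO'] at hxO
      obtain ⟨v, hv, rfl⟩ := hxO
      refine ⟨v, ?_, rfl⟩
      have h1 := (key v hv).2 hx
      have h2 : v ∈ B.V.left.basicOpen f := by rw [← hWf]; exact hv
      have h3 : v ∈ B.V.left.basicOpen (f * (f ^ K * s₁)) := by
        rw [hb]
        refine ⟨h2, hfK h2, ?_⟩
        rw [← hs₁]
        exact h1
      exact h3

end Bun

end K689.ExtSec
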