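import Groth.Agent.GIT.K689.PullBun
import Groth.Agent.Vancyc.H545.Taut
import Groth.Agent.Ega2.GlobGenCrit
import Mathlib.LinearAlgebra.SymmetricAlgebra.Basis
import Mathlib.Algebra.MvPolynomial.Equiv

/-!
# The total space of an invertible sheaf as a line bundle with a linear atlas

`V hM = Spec Sym M`; local generators of `M` give the admissible fibre coordinates.
-/

set_option autoImplicit false

universe u

open CategoryTheory CategoryTheory.Limits AlgebraicGeometry TopologicalSpace Opposite
open AlgebraicGeometry.Scheme.AffineZariskiSite AlgebraicGeometry.Scheme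
open MonoidalCategory CartesianMonoidalCategory MonObj

namespace K689.LineBun

open K689.SchGlue K689.Coord

open Groth.Agent.Fdesc.LocGen Groth.Agent.Vancyc.H545.Taut
open Groth.Agent.CohqB.AlgSys Groth.Agent.CohqB.AlgSym Groth.Agent.Ega2.H280.RelSpecAlg

theorem eval₂_symm_bijective {R M : Type*} [CommRing R] [AddCommGroup M] [Module R M] (e : M)
    (he : Function.Bijective (fun a : R => a • e)) :
    Function.Bijective (Polynomial.eval₂RingHom (algebraMap R (SymmetricAlgebra R M))
      (SymmetricAlgebra.ι R M e)) := by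
  let l : R ≃ₗ[R] M := LinearEquiv.ofBijective (LinearMap.toSpanSingleton R M e) he
  let b : Module.Basis PUnit.{1} R M := (Module.Basis.singleton PUnit.{1} R).map l
  have hb : b PUnit.unit = e := by
    have : b PUnit.unit = l 1 := by simp [b]
    rw [this]
    exact one_smul R e
  let E : SymmetricAlgebra R M ≃ₐ[R] Polynomial R :=
    (SymmetricAlgebra.equivMvPolynomial b).trans (MvPolynomial.uniqueAlgEquiv R PUnit.{1})
  have hE : E (SymmetricAlgebra.ι R M e) = Polynomial.X := by
    have h1 : SymmetricAlgebra.equivMvPolynomial b (SymmetricAlgebra.ι R M e) = MvPolynomial.X PUnit.unit := by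
      rw [← SymmetricAlgebra.equivMvPolynomial_ι_apply b PUnit.unit, hb]
    simp only [E, AlgEquiv.trans_apply, h1]
    exact MvPolynomial.eval₂_X _ _ _
  have h2 : Polynomial.eval₂RingHom (algebraMap R (SymmetricAlgebra R M)) (SymmetricAlgebra.ι R M e) =
      (E.symm : Polynomial R ≃ₐ[R] SymmetricAlgebra R M).toRingEquiv.toRingHom := by
    apply Polynomial.ringHom_ext
    · intro a
      simp
    · simp
      rw [← hE]
      exact (E.symm_apply_apply _).symm
  rw [h2]
  exact E.symm.bijective

section

variable {X : Scheme.{u}} {M : X.Modules} (hM : Coh.IsQCoh M)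

/-- the linear function on the total space attached to a section of `M` -/
noncomputable def yy {U : X.Opens} (e : Γ(M, U)) : Γ(V hM, toX hM ⁻¹ᵁ U) :=
  toFun (toX hM) U ((taut hM).app U e)

theorem rs_yy {U W : X.Opens} (h : W ≤ U) (e : Γ(M, U)) :
    rs (toX hM) h (yy hM e) = yy hM (res M h e) := by
  unfold yy
  rw [app_res]
  rfl

theorem yy_smul {U : X.Opens} (a : Γ(X, U)) (e : Γ(M, U)) :
    yy hM (a • e) = (toX hM).app U a * yy hM e := by
  unfold yy
  rw [Scheme.Modules.Hom.app_smul, toFun_smul]

theorem yy_add {U : X.Opens} (e e' : Γ(M, U)) :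
    yy hM (e + e') = yy hM e + yy hM e' := by
  unfold yy
  rw [map_add, map_add]

theorem isCoord_yy {U : X.Opens} {e : Γ(M, U)} (he : IsGen e) : IsCoord (toX hM) U (yy hM e) := by
  intro W hW hWU
  rw [rs_yy]
  let W' : X.AffineZariskiSite := ⟨W, hW⟩
  have h1 := eval₂_symm_bijective (R := Γ(X, W)) (M := Γ(M, W)) (res M hWU e) (he W hWU)
  have h2 : Polynomial.eval₂RingHom (algebraMap Γ(X, W) (SymmetricAlgebra Γ(X, W) Γ(M, W)))
      (SymmetricAlgebra.ι Γ(X, W) Γ(M, W) (res M hWU e)) =
      (sc hM W').comp (Polynomial.eval₂RingHom ((toX hM).app W).hom (yy hM (res M hWU e))) := by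
    apply Polynomial.ringHom_ext
    · intro a
      simp only [Polynomial.coe_eval₂RingHom, Polynomial.eval₂_C, RingHom.comp_apply]
      exact (sc_app hM W' a).symm
    · simp only [Polynomial.coe_eval₂RingHom, Polynomial.eval₂_X, RingHom.comp_apply]
      exact (sc_taut hM W' _).symm
  rw [h2, RingHom.coe_comp] at h1
  exact (Function.Bijective.of_comp_iff' (sc_bijective hM W') _).1 h1

/-- the admissible coordinates -/
def chartM (U : X.Opens) : Set (Γ(V hM, toX hM ⁻¹ᵁ U)) := {y | ∃ e : Γ(M, U), IsGen e ∧ y = yy hM e}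

theorem atlM (hinv : PicF.IsInvertible M) : Weight.Atl (toX hM) (chartM hM) where
  cover x := by
    obtain ⟨U, e, hx, he⟩ := (isInvertible_iff M).1 hinv x
    exact ⟨U, hx, _, e, he, rfl⟩
  coord U y hy := by
    obtain ⟨e, he, rfl⟩ := hy
    exact isCoord_yy hM he
  linear U U' y y' hy hy' := by
    obtain ⟨e, he, rfl⟩ := hy
    obtain ⟨e', he', rfl⟩ := hy'
    obtain ⟨c, hc, h⟩ := (he.res (inf_le_left : U ⊓ U' ≤ U)).exists_unit
      (he'.res (inf_le_right : U ⊓ U' ≤ U'))
    refine ⟨c, hc, ?_⟩
    have h3 := rs_yy hM (inf_le_right : U ⊓ U' ≤ U') e'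
    have h4 := rs_yy hM (inf_le_left : U ⊓ U' ≤ U) e
    rw [h, yy_smul, ← h4] at h3
    exact h3

end

section

variable {S : Scheme.{u}} (Y : Over S) {M : Y.left.Modules} (hM : Coh.IsQCoh M)

/-- the total space as a scheme over `S` -/
noncomputable def VM : Over S := Over.mk (toX hM ≫ Y.hom)

/-- its projection -/
noncomputable def πM : VM Y hM ⟶ Y := Over.homMk (toX hM) rfl

/-- the linear atlas of the total space of an invertible sheaf -/
noncomputable def atlas (hinv : PicF.IsInvertible M) : GLinSh.LinAtlas (πM Y hM) where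
  affine := isAffineHom_toX hM
  chart := chartM hM
  cover := (atlM hM hinv).cover
  coord := (atlM hM hinv).coord
  linear := (atlM hM hinv).linear

end

end K689.LineBun
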