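import Groth.Agent.GIT.K689.Compat
import Groth.Agent.GIT.K689.LineBun
import Groth.Agent.Flat2H.FamDict
import Groth.Agent.Ega2.QCohLocal

/-!
# Linearised bundles pulled back from an ample sheaf on the target of an invariant affine morphism
-/

set_option autoImplicit false

universe u

open CategoryTheory CategoryTheory.Limits MonoidalCategory CartesianMonoidalCategory AlgebraicGeometry
  TopologicalSpace Opposite

namespace K689.FromBase

open K689.SchGlue K689.Coord K689.CoordUP K689.Weight K689.Ratio K689.ActBasic K689.LinBunBasic K689.PullBun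
  K689.Compat K689.LineBun

open Groth.Agent.Fdesc.LocGen Groth.Agent.Vancyc.H545.Taut
open Groth.Agent.CohqB.AlgSys Groth.Agent.CohqB.AlgSym Groth.Agent.Ega2.H280.RelSpecAlg

section

variable {Y : Scheme.{u}} {M : Y.Modules} (hM : Coh.IsQCoh M) (hinv : PicF.IsInvertible M)

include hinv in
/-- the weight function of a family -/
theorem exists_weight {I : Type*} (W : I → Y.Opens) (hW : ∀ x : Y, ∃ i, x ∈ W i)
    (e : ∀ j, Γ(M, W j)) (he : ∀ j, IsGen (e j)) (g : ∀ i j, Γ(Y, W i ⊓ W j))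
    (hg : ∀ i j, res M inf_le_left (e i) = g i j • res M inf_le_right (e j)) (n : ℕ)
    (b : ∀ j, Γ(Y, W j)) (hb : Groth.Agent.Flat2H.FamExt.IsFam W (fun i j ↦ g i j ^ n) b) :
    ∃ F : Γ(V hM, ⊤), Wt (toX hM) (chartM hM) n ⊤ (tt (toX hM) F) ∧
      nv (toX hM) (tt (toX hM) F) = (⨆ j, Y.basicOpen (b j) : Y.Opens) := by
  have : IsAffineHom (toX hM) := isAffineHom_toX hM
  have hcov : (⊤ : (V hM).Opens) ≤ ⨆ j, toX hM ⁻¹ᵁ (W j) := by
    intro x _
    obtain ⟨i, hi⟩ := hW (toX hM x)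
    exact Opens.mem_iSup.2 ⟨i, hi⟩
  let s : ∀ j, Γ(V hM, toX hM ⁻¹ᵁ (W j)) := fun j => (toX hM).app (W j) (b j) * yy hM (e j) ^ n
  have hs : ∀ i j, ores (inf_le_left : toX hM ⁻¹ᵁ (W i) ⊓ toX hM ⁻¹ᵁ (W j) ≤ toX hM ⁻¹ᵁ (W i)) (s i) =
      ores inf_le_right (s j) := by
    intro i j
    have h1 : rs (toX hM) (inf_le_left : W i ⊓ W j ≤ W i) (s i) =
        rs (toX hM) (inf_le_right : W i ⊓ W j ≤ W j) (s j) := by
      have k1 : rs (toX hM) (inf_le_left : W i ⊓ W j ≤ W i) (s i) =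
          (toX hM).app (W i ⊓ W j) (rsec inf_le_left (b i)) *
            ((toX hM).app (W i ⊓ W j) (g i j) * yy hM (res M inf_le_right (e j))) ^ n := by
        simp only [s]
        rw [rs_mul, rs_app, rs_pow, rs_yy, hg i j, yy_smul]
      have k2 : rs (toX hM) (inf_le_right : W i ⊓ W j ≤ W j) (s j) =
          (toX hM).app (W i ⊓ W j) (rsec inf_le_right (b j)) * (yy hM (res M inf_le_right (e j))) ^ n := by
        simp only [s]
        rw [rs_mul, rs_app, rs_pow, rs_yy]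
      rw [k1, k2, mul_pow, ← map_pow, ← mul_assoc, ← map_mul]
      congr 2
      exact hb i j
    exact h1
  obtain ⟨F, hF⟩ := ores_glue (X := V hM) (V := ⊤) (fun j => toX hM ⁻¹ᵁ (W j)) (fun _ => le_top) hcov s hs
  have hF' : ∀ j, rs (toX hM) le_top (tt (toX hM) F) = s j := by
    intro j
    rw [rs_tt]
    exact hF j
  have hadm : ∀ j, Adm (toX hM) (chartM hM) (W j) (yy hM (e j)) := fun j =>
    adm_of_mem ⟨e j, he j, rfl⟩
  have A := atlM hM hinv
  refine ⟨F, ?_, ?_⟩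
  · apply Wt.of_local A
    intro x _
    obtain ⟨i, hi⟩ := hW x
    refine ⟨W i, le_top, hi, ?_⟩
    rw [hF']
    exact Wt.of_adm A (hadm i) _
  · have h1 : ∀ j, nv (toX hM) (tt (toX hM) F) ∩ W j = Y.basicOpen (b j) := by
      intro j
      rw [← nv_rs le_top, hF' j]
      exact nv_adm A (hadm j) _
    ext x
    rw [Opens.coe_iSup, Set.mem_iUnion]
    obtain ⟨i, hi⟩ := hW x
    constructor
    · intro hx
      refine ⟨i, ?_⟩
      rw [← h1 i]
      exact ⟨hx, hi⟩
    · rintro ⟨j, hj⟩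
      rw [← h1 j] at hj
      exact hj.1

/-- an ample sheaf has many weight functions with affine non-vanishing locus -/
theorem exists_weight_of_isAmple (hA : CohB1.IsAmple M) (x : Y) :
    ∃ (n : ℕ) (F : Γ(V hM, ⊤)) (U : Y.Opens), 1 ≤ n ∧ Wt (toX hM) (chartM hM) n ⊤ (tt (toX hM) F) ∧
      nv (toX hM) (tt (toX hM) F) = U ∧ x ∈ U ∧ IsAffineOpen U := by
  have : CompactSpace Y := hA.2.1
  obtain ⟨N, W, g, -, hW⟩ := Groth.Agent.Flat2H.FamDict.exists_trivs hA.1 (fun _ ↦ True)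
    (fun U x hx ↦ ⟨U, hx, le_rfl, trivial⟩)
  obtain ⟨-, h⟩ := hW.isAmple_iff.1 hA
  obtain ⟨n, b, hb, hxb, hba⟩ := h x
  obtain ⟨h0, e, he, hg⟩ := hW
  obtain ⟨F, hF, hF'⟩ := exists_weight hM hA.1 W h0 e he g hg (n + 1) b hb
  exact ⟨n + 1, F, _, Nat.le_add_left _ _, hF, hF', hxb, hba⟩

end

section triv

variable {S : Scheme.{u}} {G : Over S} [GrpObj G]

/-- the trivial action -/
noncomputable def trivAct (Y : Over S) : AlgGrp.Action G Y where
  act := snd G Y
  one_act := by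
    rw [whiskerRight_snd, leftUnitor_hom]
  mul_act := by
    rw [whiskerRight_snd, whiskerLeft_snd, associator_hom_snd_snd]

/-- the total space of an invertible sheaf with the trivial linearisation -/
noncomputable def trivBun (Y : Over S) {M : Y.left.Modules} (hM : Coh.IsQCoh M) (hinv : PicF.IsInvertible M) :
    GLinSh.LinBun G (trivAct (G := G) Y) where
  V := VM Y hM
  π := πM Y hM
  atlas := atlas Y hM hinv
  lift := trivAct (VM Y hM)
  lift_π := (whiskerLeft_snd _ _).symm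
  lift_linear := by
    intro U U' y y' hy hy'
    obtain ⟨c, hc, e⟩ := (atlas Y hM hinv).linear U U' y y' hy hy'
    have hle : (snd G Y).left ⁻¹ᵁ U' ⊓ (snd G Y).left ⁻¹ᵁ U ≤ (snd G Y).left ⁻¹ᵁ (U ⊓ U') := fun x hx => ⟨hx.2, hx.1⟩
    refine ⟨(snd G Y).left.appLE (U ⊓ U') _ hle c, ?_⟩
    have hl : GLinSh.liftOpen (trivAct (G := G) Y) (πM Y hM) U U' ≤
        (snd G (VM Y hM)).left ⁻¹ᵁ ((πM Y hM).left ⁻¹ᵁ (U ⊓ U')) := by
      intro x hx
      exact ⟨GLinSh.liftOpen_le_snd (trivAct (G := G) Y) (πM Y hM) hx,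
        GLinSh.liftOpen_le_act (trivAct (G := G) Y) (πM Y hM) (trivAct (VM Y hM)) (whiskerLeft_snd _ _).symm hx⟩
    have e' := congrArg ((snd G (VM Y hM)).left.appLE _
      (GLinSh.liftOpen (trivAct (G := G) Y) (πM Y hM) U U') hl) e
    rw [map_mul] at e'
    have t1 := appLE_rsec (snd G (VM Y hM)).left
      ((πM Y hM).left.preimage_mono (inf_le_right : U ⊓ U' ≤ U')) hl
      (hl.trans ((snd G (VM Y hM)).left.preimage_mono ((πM Y hM).left.preimage_mono inf_le_right))) y'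
    have t2 := appLE_rsec (snd G (VM Y hM)).left
      ((πM Y hM).left.preimage_mono (inf_le_left : U ⊓ U' ≤ U)) hl
      (hl.trans ((snd G (VM Y hM)).left.preimage_mono ((πM Y hM).left.preimage_mono inf_le_left))) y
    have q1 : GLinSh.liftOpen (trivAct (G := G) Y) (πM Y hM) U U' ≤
        ((snd G (VM Y hM)).left ≫ (πM Y hM).left) ⁻¹ᵁ (U ⊓ U') := hl
    have m1 : (snd G (VM Y hM)).left ≫ (πM Y hM).left = (G ◁ (πM Y hM)).left ≫ (snd G Y).left := by
      rw [← Over.comp_left, ← Over.comp_left, whiskerLeft_snd]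
    have q2 : GLinSh.liftOpen (trivAct (G := G) Y) (πM Y hM) U U' ≤
        ((G ◁ (πM Y hM)).left ≫ (snd G Y).left) ⁻¹ᵁ (U ⊓ U') := by rw [← m1]; exact q1
    have t3 := (app_appLE (snd G (VM Y hM)).left (πM Y hM).left hl q1 c).trans (appLE_hom_congr m1 q1 q2 c)
    have t4 := appLE_appLE (G ◁ (πM Y hM)).left (snd G Y).left hle
      (GLinSh.liftOpen_le_base (trivAct (G := G) Y) (πM Y hM) (U := U) (U' := U')) q2 c
    exact t1.symm.trans (e'.trans (congrArg₂ (· * ·) (t3.trans t4.symm) t2))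

variable {X Y : Over S} {M : Y.left.Modules} (hM : Coh.IsQCoh M) (hA : CohB1.IsAmple M)

include hM hA in
/-- an invariant affine morphism to a scheme with an ample sheaf: every point is semi-stable for the pulled back bundle,
and if moreover orbits are closed every point is stable -/
theorem exists_linBun (a : AlgGrp.Action G X) (φ : X ⟶ Y) (hφ : GIT.IsInvariant a φ) [IsAffineHom φ.left] :
    ∃ B : GLinSh.LinBun G a, B.ssLocus = Set.univ ∧
      (GIT.IsClosedAction a → B.sLocus = Set.univ) := by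
  have he : a.act ≫ φ = (G ◁ φ) ≫ (trivAct Y).act := hφ.trans (whiskerLeft_snd _ _).symm
  have hinv : PicF.IsInvertible M := hA.1
  let BY : GLinSh.LinBun G (trivAct (G := G) Y) := trivBun Y hM hinv
  let B := pull a φ he BY
  have m : Compat.Mor φ BY B (pq φ BY) := mor_pull φ he _
  have key : ∀ x : X.left, ∃ (n : ℕ) (f : Γ(B.V.left, ⊤)) (U : X.left.Opens), 1 ≤ n ∧ B.IsInvSection n f ∧
      GLinSh.nonvanishing B.π f = U ∧ x ∈ U ∧ IsAffineOpen U := by
    intro x
    obtain ⟨n, F, U, hn, hF, hFU, hxU, hU⟩ := exists_weight_of_isAmple hM hA (φ.left x)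
    have hw : GLinSh.HasWeight BY.atlas.chart n (F : Γ(BY.V.left, ⊤)) :=
      (hasWeight_iff BY.atlas n (F : Γ(BY.V.left, ⊤))).2 hF
    have h1 := m.nonvanishing hw
    have h2 : GLinSh.nonvanishing BY.π (F : Γ(BY.V.left, ⊤)) = U :=
      (nonvanishing_eq (π := BY.π) (F : Γ(BY.V.left, ⊤))).trans hFU
    refine ⟨n, _, φ.left ⁻¹ᵁ U, hn, m.isInvSection ⟨hw, rfl⟩, ?_, hxU, hU.preimage _⟩
    rw [h1, h2]
    rfl
  refine ⟨B, ?_, ?_⟩
  · refine Set.eq_univ_of_forall fun x => ?_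
    obtain ⟨n, f, U, hn, hf, hfU, hxU, hU⟩ := key x
    exact ⟨n, f, hn, hf, by rw [hfU]; exact hxU, U, hfU.symm, hU⟩
  · intro hcl
    refine Set.eq_univ_of_forall fun x => ?_
    obtain ⟨n, f, U, hn, hf, hfU, hxU, hU⟩ := key x
    refine ⟨n, f, hn, hf, by rw [hfU]; exact hxU, U, hfU.symm, hU, ?_⟩
    intro Ω _ _ T e t ht
    exact (hcl Ω T e t).preimage continuous_subtype_val

end triv

end K689.FromBase
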