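import Groth.Agent.GIT.K689.Ifc
import Groth.Agent.GIT.K686.RedQuot
import Groth.Agent.S8082

/-!
# The affine ingredients, from S8082
-/

set_option autoImplicit false

universe u

open CategoryTheory CategoryTheory.Limits MonoidalCategory CartesianMonoidalCategory MonObj AlgebraicGeometry
  TopologicalSpace Topology

namespace K689.Have

open K689.Ifc

theorem redLR (k : Type u) [Field k] [CharZero k] : K686.RedQuot.RedLR k :=
  fun A _ _ _ _ h => (Groth.Agent.S8082.result k A).mp h

theorem st31 : St11431.{u} := by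
  intro k _ _ G X _ hG _ a
  exact K686.RedQuot.exists_univCatQuot (redLR k) hG a

theorem st32 : St11432.{u} := by
  intro k _ _ G X _ hG _ a W₁ W₂ h₁ h₂ hi₁ hi₂ hd
  exact K686.RedQuot.exists_separating (redLR k) hG a W₁ W₂ h₁ h₂ hi₁ hi₂ hd

theorem st33 : St11433.{u} := by
  intro k _ _ G X Y _ hG _ a φ hq
  exact K686.RedQuot.isGeomQuot_iff (redLR k) hG a hq

end K689.Have
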