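import Groth.Prelude.Def_W4bk4git07Quot
import Groth.Prelude.Def_GLinSh
import Groth.Prelude.Def_Red
import Groth.Prelude.Def_CohB1
import Mathlib.AlgebraicGeometry.Morphisms.QuasiFinite
import Mathlib.AlgebraicGeometry.Morphisms.Proper

/-!
# Statements used as hypotheses

The statements of the rows S11431, S11432, S11433, S14713, S11437, S11429 as propositions, so that results depending on
them can be developed independently of their proofs.
-/

set_option autoImplicit false

universe u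

open CategoryTheory MonoidalCategory CartesianMonoidalCategory MonObj GrpObj AlgebraicGeometry Topology

namespace K689.Ifc

/-- S11431 -/
def St11431 : Prop := ∀ (k : Type u) [Field k] [CharZero k]
    (G X : Over (Spec (CommRingCat.of k))) [GrpObj G] (_ : Red.IsReductive G) [IsAffine X.left]
    (a : AlgGrp.Action G X),
    ∃ (Y : Over (Spec (CommRingCat.of k))) (φ : X ⟶ Y), IsAffine Y.left ∧
      Function.Injective φ.left.appTop ∧
      Set.range φ.left.appTop = {f : Γ(X.left, ⊤) | a.act.left.appTop f = (snd G X).left.appTop f} ∧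
      GIT.IsUnivCatQuot a φ ∧ GIT.IsUnivSubmersive φ.left ∧
      (IsNoetherian X.left → IsNoetherian Y.left) ∧
      (LocallyOfFiniteType X.hom → LocallyOfFiniteType Y.hom)

/-- S11432 -/
def St11432 : Prop := ∀ (k : Type u) [Field k] [CharZero k]
    (G X : Over (Spec (CommRingCat.of k))) [GrpObj G] (_ : Red.IsReductive G) [IsAffine X.left]
    (a : AlgGrp.Action G X) (W₁ W₂ : Set X.left) (_ : IsClosed W₁) (_ : IsClosed W₂)
    (_ : a.act.left.base '' ((snd G X).left.base ⁻¹' W₁) ⊆ W₁)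
    (_ : a.act.left.base '' ((snd G X).left.base ⁻¹' W₂) ⊆ W₂) (_ : Disjoint W₁ W₂),
    ∃ f : Γ(X.left, ⊤), a.act.left.appTop f = (snd G X).left.appTop f ∧
      W₁ ⊆ X.left.zeroLocus (U := ⊤) {f} ∧ W₂ ⊆ X.left.zeroLocus (U := ⊤) {1 - f}

/-- S11433 -/
def St11433 : Prop := ∀ (k : Type u) [Field k] [CharZero k]
    (G X Y : Over (Spec (CommRingCat.of k))) [GrpObj G] (_ : Red.IsReductive G) [IsAffine X.left]
    (a : AlgGrp.Action G X) (φ : X ⟶ Y) (_ : GIT.IsCatQuot a φ),
    (GIT.IsGeomQuot a φ ↔ GIT.IsClosedAction a) ∧ (GIT.IsClosedAction a → GIT.IsUnivGeomQuot a φ)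

/-- S14713 -/
def St14713 : Prop := ∀ (k : Type u) [Field k] [CharZero k]
    (G X : Over (Spec (CommRingCat.of k))) [GrpObj G] (_ : Red.IsReductive G)
    [LocallyOfFiniteType X.hom] [QuasiCompact X.hom]
    (a : AlgGrp.Action G X) (B : GLinSh.LinBun G a)
    (U : X.left.Opens) (_ : (U : Set X.left) = B.ssLocus)
    (aU : AlgGrp.Action G (Over.mk (U.ι ≫ X.hom)))
    (jU : Over.mk (U.ι ≫ X.hom) ⟶ X) (_ : jU.left = U.ι)
    (_ : aU.act ≫ jU = (G ◁ jU) ≫ a.act),
    ∃ (Y : Over (Spec (CommRingCat.of k))) (φ : Over.mk (U.ι ≫ X.hom) ⟶ Y),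
      GIT.IsUnifCatQuot aU φ ∧ IsAffineHom φ.left ∧ GIT.IsUnivSubmersive φ.left ∧
      IsSeparated Y.hom ∧ LocallyOfFiniteType Y.hom ∧
      ∃ M : Y.left.Modules, CohB1.IsAmple M

/-- S11437 -/
def St11437 : Prop := ∀ (k : Type u) [Field k] [CharZero k]
    (G X Y : Over (Spec (CommRingCat.of k))) [GrpObj G] (_ : Red.IsReductive G)
    [LocallyOfFiniteType X.hom] [QuasiCompact X.hom] [IsSeparated X.hom]
    [LocallyOfFiniteType Y.hom] [QuasiCompact Y.hom] [IsSeparated Y.hom]
    (a : AlgGrp.Action G X)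
    [LocallyQuasiFinite (Limits.pullback.snd (GIT.psi a (𝟙 X)).left (lift (𝟙 X) (𝟙 X)).left)]
    (φ : X ⟶ Y) (_ : GIT.IsGeomQuot a φ) [IsAffineHom φ.left],
    IsProper (GIT.psi a (𝟙 X)).left

/-- S11429 -/
def St11429 : Prop := ∀ (k : Type u) [Field k] (G X Y : Over (Spec (CommRingCat.of k)))
    [GrpObj G] [IsAffine G.left] [LocallyOfFiniteType G.hom]
    [LocallyOfFiniteType X.hom] [QuasiCompact X.hom] [IsSeparated X.hom]
    [LocallyOfFiniteType Y.hom] [QuasiCompact Y.hom] [IsSeparated Y.hom]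
    (a : AlgGrp.Action G X) (_ : IsProper (GIT.psi a (𝟙 X)).left) (φ : X ⟶ Y) (_ : GIT.IsGeomQuot a φ),
    IsAffineHom φ.left

end K689.Ifc
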