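import Groth.Agent.GIT.K689.LocGeom

/-!
# Base change of atlases, invariance of ratios of invariant sections
-/

set_option autoImplicit false

universe u

open CategoryTheory CategoryTheory.Limits MonoidalCategory CartesianMonoidalCategory MonObj AlgebraicGeometry
  TopologicalSpace Topology

namespace K689.InvRatio

open K689.SchGlue K689.Coord K689.CoordUP K689.Weight K689.Ratio K689.ActBasic K689.LinBunBasic K689.PullBun
  K689.Compat

section Sch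

variable {X V X' V' : Scheme.{u}} {p : V ⟶ X} {p' : V' ⟶ X'} {q : V' ⟶ V} {h : X' ⟶ X}

/-- the pulled back charts -/
def bchart (hc : p' ≫ h = q ≫ p) (chart : ∀ U : X.Opens, Set (Γ(V, p ⁻¹ᵁ U))) (U' : X'.Opens) :
    Set (Γ(V', p' ⁻¹ᵁ U')) :=
  {y' | ∃ (U : X.Opens) (hU : U' ≤ h ⁻¹ᵁ U) (y : Γ(V, p ⁻¹ᵁ U)), y ∈ chart U ∧
    y' = q.appLE (p ⁻¹ᵁ U) (p' ⁻¹ᵁ U') ((p'.preimage_mono hU).trans (sqle hc U)) y}

theorem appLE_base' (hc : p' ≫ h = q ≫ p) {U : X.Opens} {U' : X'.Opens} (hU : U' ≤ h ⁻¹ᵁ U) (c : Γ(X, U)) :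
    q.appLE (p ⁻¹ᵁ U) (p' ⁻¹ᵁ U') ((p'.preimage_mono hU).trans (sqle hc U)) (p.app U c) =
      p'.app U' (h.appLE U U' hU c) := by
  have l1 : p' ⁻¹ᵁ U' ≤ (q ≫ p) ⁻¹ᵁ U := (p'.preimage_mono hU).trans (sqle hc U)
  have l2 : p' ⁻¹ᵁ U' ≤ (p' ≫ h) ⁻¹ᵁ U := p'.preimage_mono hU
  rw [app_appLE q p ((p'.preimage_mono hU).trans (sqle hc U)) l1, appLE_hom_congr hc.symm l1 l2]
  have := appLE_appLE p' h hU (le_refl (p' ⁻¹ᵁ U')) l2 c
  rw [← this, appLE_self_app]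

theorem bcAtl [IsAffineHom p] [IsAffineHom p'] (H : IsPullback q p' p h)
    {chart : ∀ U : X.Opens, Set (Γ(V, p ⁻¹ᵁ U))} (A : Atl p chart) : Atl p' (bchart H.w.symm chart) where
  cover := by
    intro x
    obtain ⟨U, hxU, y, hy⟩ := A.cover (h x)
    exact ⟨h ⁻¹ᵁ U, hxU, _, U, le_rfl, y, hy, rfl⟩
  coord := by
    rintro U' _ ⟨U, hU, y, hy, rfl⟩
    exact IsCoord.baseChange (A.coord U y hy) H U' hU _
  linear := by
    rintro U₁' U₂' _ _ ⟨U₁, hU₁, y₁, hy₁, rfl⟩ ⟨U₂, hU₂, y₂, hy₂, rfl⟩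
    obtain ⟨c, hc, e⟩ := A.linear U₁ U₂ y₁ y₂ hy₁ hy₂
    have hle : U₁' ⊓ U₂' ≤ h ⁻¹ᵁ (U₁ ⊓ U₂) := fun x hx => ⟨hU₁ hx.1, hU₂ hx.2⟩
    refine ⟨h.appLE (U₁ ⊓ U₂) (U₁' ⊓ U₂') hle c, hc.map _, ?_⟩
    have e' := congrArg (q.appLE (p ⁻¹ᵁ (U₁ ⊓ U₂)) (p' ⁻¹ᵁ (U₁' ⊓ U₂'))
      ((p'.preimage_mono hle).trans (sqle H.w.symm _))) e
    rw [map_mul] at e'
    have k1 := appLE_rsec q (p.preimage_mono (inf_le_right : U₁ ⊓ U₂ ≤ U₂))
      ((p'.preimage_mono hle).trans (sqle H.w.symm _))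
      ((p'.preimage_mono (inf_le_right.trans hU₂)).trans (sqle H.w.symm _)) y₂
    have k2 := appLE_rsec q (p.preimage_mono (inf_le_left : U₁ ⊓ U₂ ≤ U₁))
      ((p'.preimage_mono hle).trans (sqle H.w.symm _))
      ((p'.preimage_mono (inf_le_left.trans hU₁)).trans (sqle H.w.symm _)) y₁
    have k3 := appLE_base' H.w.symm hle c
    have k4 := rsec_appLE q (p'.preimage_mono (inf_le_right : U₁' ⊓ U₂' ≤ U₂'))
      ((p'.preimage_mono hU₂).trans (sqle H.w.symm _))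
      ((p'.preimage_mono (inf_le_right.trans hU₂)).trans (sqle H.w.symm _)) y₂
    have k5 := rsec_appLE q (p'.preimage_mono (inf_le_left : U₁' ⊓ U₂' ≤ U₁'))
      ((p'.preimage_mono hU₁).trans (sqle H.w.symm _))
      ((p'.preimage_mono (inf_le_left.trans hU₁)).trans (sqle H.w.symm _)) y₁
    refine k4.trans (k1.symm.trans (e'.trans ?_))
    exact congrArg₂ (· * ·) k3 (k2.trans k5.symm)

/-- pull-back of weight functions over opens -/
theorem wt_bchart [IsAffineHom p] [IsAffineHom p'] (H : IsPullback q p' p h)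
    {chart : ∀ U : X.Opens, Set (Γ(V, p ⁻¹ᵁ U))} (A : Atl p chart) {n : ℕ} {f : Γ(V, ⊤)}
    (hf : Wt p chart n ⊤ (tt p f)) : Wt p' (bchart H.w.symm chart) n ⊤ (tt p' (q.appTop f)) :=
  wt_pull H.w.symm A (bcAtl H A) (fun U y hy => ⟨U, le_rfl, y, hy, rfl⟩) hf

theorem nv_bchart [IsAffineHom p] [IsAffineHom p'] (H : IsPullback q p' p h)
    {chart : ∀ U : X.Opens, Set (Γ(V, p ⁻¹ᵁ U))} (A : Atl p chart) {n : ℕ} {f : Γ(V, ⊤)}
    (hf : Wt p chart n ⊤ (tt p f)) : nv p' (tt p' (q.appTop f)) = h ⁻¹' nv p (tt p f) :=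
  nv_pull H.w.symm A (bcAtl H A) (fun U y hy => ⟨U, le_rfl, y, hy, rfl⟩) hf

end Sch

section Inv

variable {S : Scheme.{u}} {G X : Over S} [GrpObj G] {a : AlgGrp.Action G X} (B : GLinSh.LinBun G a)

/-- the ratio of two invariant sections of the same weight is an invariant function -/
theorem ratio_inv {n : ℕ} {f g : Γ(B.V.left, ⊤)} (hf : B.IsInvSection n f) (hg : B.IsInvSection n g)
    {O : X.left.Opens} (hO : (O : Set X.left) ⊆ nv B.π.left (tt B.π.left g)) (r : Γ(X.left, O))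
    (e : rs B.π.left le_top (tt B.π.left f) = B.π.left.app O r * rs B.π.left le_top (tt B.π.left g))
    (W : (G ⊗ X).left.Opens) (h1 : W ≤ a.act.left ⁻¹ᵁ O) (h2 : W ≤ (snd G X).left ⁻¹ᵁ O) :
    a.act.left.appLE O W h1 r = (snd G X).left.appLE O W h2 r := by
  have : IsAffineHom (G ◁ B.π).left :=
    MorphismProperty.of_isPullback (isPullback_snd_left (G := G) B.π) inferInstance
  have H := isPullback_snd_left (G := G) B.π
  have H' := isPullback_act_left a B.lift B.π B.lift_π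
  have A := bcAtl H (atl B.atlas)
  have hwt := wt_bchart H (atl B.atlas) ((hasWeight_iff _ _ _).1 hg.1)
  have hnv := nv_bchart H (atl B.atlas) ((hasWeight_iff _ _ _).1 hg.1)
  have hW : (W : Set (G ⊗ X).left) ⊆ nv (G ◁ B.π).left (tt (G ◁ B.π).left ((snd G B.V).left.appTop g)) := by
    rw [hnv]
    intro z hz
    exact hO (h2 hz)
  apply ratio_unique A hwt le_top hW
  -- pull the relation back along the action and the projection
  have key : ∀ (σ : (G ⊗ B.V).left ⟶ B.V.left) (s : (G ⊗ X).left ⟶ X.left)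
      (hc : (G ◁ B.π).left ≫ s = σ ≫ B.π.left) (hs : W ≤ s ⁻¹ᵁ O),
      rs (G ◁ B.π).left le_top (tt (G ◁ B.π).left (σ.appTop f)) =
      (G ◁ B.π).left.app W (s.appLE O W hs r) *
        rs (G ◁ B.π).left (le_top : W ≤ ⊤) (tt (G ◁ B.π).left (σ.appTop g)) := by
    intro σ s hc hs
    have e1 := congrArg (σ.appLE (B.π.left ⁻¹ᵁ O) ((G ◁ B.π).left ⁻¹ᵁ W)
      (((G ◁ B.π).left.preimage_mono hs).trans (sqle hc O))) e
    rw [map_mul] at e1
    have t : ∀ φ : Γ(B.V.left, ⊤), σ.appLE (B.π.left ⁻¹ᵁ O) ((G ◁ B.π).left ⁻¹ᵁ W)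
        (((G ◁ B.π).left.preimage_mono hs).trans (sqle hc O)) (rs B.π.left le_top (tt B.π.left φ)) =
        rs (G ◁ B.π).left le_top (tt (G ◁ B.π).left (σ.appTop φ)) := by
      intro φ
      have t1 := rsec_appLE σ ((G ◁ B.π).left.preimage_mono hs) (sqle hc O)
        (((G ◁ B.π).left.preimage_mono hs).trans (sqle hc O)) (rs B.π.left le_top (tt B.π.left φ))
      rw [← t1, appLE_tt hc]
      exact rs_rs (p := (G ◁ B.π).left) le_top hs (tt (G ◁ B.π).left (σ.appTop φ))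
    rw [t, t] at e1
    rw [e1]
    congr 1
    exact appLE_base' hc hs r
  have k1 := key B.lift.act.left a.act.left H'.w.symm h1
  have k2 := key (snd G B.V).left (snd G X).left H.w.symm h2
  have i1 : B.lift.act.left.appTop f = (snd G B.V).left.appTop f := hf.2
  have i2 : B.lift.act.left.appTop g = (snd G B.V).left.appTop g := hg.2
  rw [i1, i2] at k1
  exact k1.symm.trans k2

end Inv

end K689.InvRatio
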