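import Groth.Agent.GIT.K689.Weight
import Mathlib.AlgebraicGeometry.Morphisms.Affine

/-!
# Ratios of functions of equal weight, affineness of loci `X_f`
-/

set_option autoImplicit false

universe u

open CategoryTheory CategoryTheory.Limits AlgebraicGeometry TopologicalSpace Opposite

namespace K689.Ratio

open K689.SchGlue K689.Coord K689.CoordUP K689.Weight

variable {X V : Scheme.{u}} {p : V ⟶ X} [IsAffineHom p] {chart : ∀ U : X.Opens, Set (Γ(V, p ⁻¹ᵁ U))}

/-- the open `X_f` -/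
def nvO (A : Atl p chart) {n : ℕ} {O : X.Opens} {f : Γ(V, p ⁻¹ᵁ O)} (hf : Wt p chart n O f) : X.Opens :=
  ⟨nv p f, isOpen_nv A hf⟩

theorem nvO_le (A : Atl p chart) {n : ℕ} {O : X.Opens} {f : Γ(V, p ⁻¹ᵁ O)} (hf : Wt p chart n O f) :
    nvO A hf ≤ O := nv_subset f

theorem exists_adm_unit (A : Atl p chart) {n : ℕ} {O : X.Opens} {g : Γ(V, p ⁻¹ᵁ O)} (hg : Wt p chart n O g)
    {x : X} (hx : x ∈ nv p g) {O' : X.Opens} (hx' : x ∈ O') :
    ∃ (W : X.Opens) (h : W ≤ O) (_ : W ≤ O') (y : Γ(V, p ⁻¹ᵁ W)) (d : Γ(X, W)), IsAffineOpen W ∧ x ∈ W ∧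
      Adm p chart W y ∧ IsUnit d ∧ (W : Set X) ⊆ nv p g ∧ rs p h g = p.app W d * y ^ n := by
  have hxO : x ∈ O := nv_subset g hx
  obtain ⟨W, hW, y, hWa, hxW, hy⟩ := A.exists_adm (O := O ⊓ O') (x := x) ⟨hxO, hx'⟩
  obtain ⟨d, hd⟩ := hg W (hW.trans inf_le_left) y hy
  have h1 : nv p g ∩ W = X.basicOpen d := by
    rw [← nv_rs (hW.trans inf_le_left), hd, nv_adm A hy]
  have hle : X.basicOpen d ≤ W := X.basicOpen_le d
  refine ⟨X.basicOpen d, hle.trans (hW.trans inf_le_left), hle.trans (hW.trans inf_le_right), rs p hle y,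
    rsec hle d, hWa.basicOpen d, ?_, hy.restrict hle, RingedSpace.isUnit_res_basicOpen _ d, ?_, ?_⟩
  · change x ∈ (X.basicOpen d : Set X)
    rw [← h1]
    exact ⟨hx, hxW⟩
  · rw [← h1]; exact Set.inter_subset_left
  · have := congrArg (rs p hle) hd
    rw [rs_rs, rs_mul, rs_pow, rs_app] at this
    exact this

/-- uniqueness of ratios -/
theorem ratio_unique (A : Atl p chart) {n : ℕ} {O : X.Opens} {g : Γ(V, p ⁻¹ᵁ O)} (hg : Wt p chart n O g)
    {W : X.Opens} (hW : W ≤ O) (hWg : (W : Set X) ⊆ nv p g) (r r' : Γ(X, W))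
    (e : p.app W r * rs p hW g = p.app W r' * rs p hW g) : r = r' := by
  apply section_ext
  intro x hx
  obtain ⟨W', h1, h2, y, d, -, hxW', hy, hd, -, e'⟩ := exists_adm_unit A hg (hWg hx) hx
  refine ⟨W', h2, hxW', ?_⟩
  have e1 := congrArg (rs p h2) e
  rw [rs_mul, rs_mul, rs_rs, rs_app, rs_app, e', ← mul_assoc, ← mul_assoc, ← map_mul, ← map_mul] at e1
  have e2 := IsCoord.mul_pow_injective (A.adm_coord hy) n e1
  exact hd.mul_right_cancel e2

/-- existence of ratios -/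
theorem exists_ratio (A : Atl p chart) {n : ℕ} {O : X.Opens} {f g : Γ(V, p ⁻¹ᵁ O)} (hf : Wt p chart n O f)
    (hg : Wt p chart n O g) (hO : (O : Set X) ⊆ nv p g) : ∃ r : Γ(X, O), f = p.app O r * g := by
  refine exists_glue f g ?_ ?_
  · intro x hx
    obtain ⟨W', h1, h2, y, d, -, hxW', hy, hd, -, e'⟩ := exists_adm_unit A hg (hO hx) hx
    obtain ⟨c, hc⟩ := hf W' h1 y hy
    refine ⟨W', h1, hxW', c * (hd.unit⁻¹ : Γ(X, W')ˣ), ?_⟩
    rw [hc, e', ← mul_assoc, ← map_mul, mul_assoc]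
    congr 2
    simp
  · intro W h r r' e
    exact ratio_unique A hg h (fun x hx => hO (h hx)) r r' e

/-- the non-vanishing locus of a ratio -/
theorem basicOpen_ratio (A : Atl p chart) {n : ℕ} {O : X.Opens} {f g : Γ(V, p ⁻¹ᵁ O)}
    (hg : Wt p chart n O g) (hO : (O : Set X) ⊆ nv p g) (r : Γ(X, O)) (e : f = p.app O r * g) :
    (X.basicOpen r : Set X) = nv p f := by
  ext x
  constructor
  · intro hx
    have hxO : x ∈ O := X.basicOpen_le r hx
    obtain ⟨W', h1, h2, y, d, -, hxW', hy, hd, -, e'⟩ := exists_adm_unit A hg (hO hxO) hxO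
    have h3 : nv p f ∩ W' = X.basicOpen (rsec h1 r * d) := by
      rw [← nv_rs h1, e, rs_mul, e', rs_app, ← mul_assoc, ← map_mul, nv_adm A hy]
    have h4 : X.basicOpen (rsec h1 r * d) = X.basicOpen (rsec h1 r) ⊓ X.basicOpen d := X.basicOpen_mul _ _
    have h5 : X.basicOpen d = W' := X.basicOpen_of_isUnit hd
    have h6 : X.basicOpen (rsec h1 r) = W' ⊓ X.basicOpen r := X.basicOpen_res _ _
    have : x ∈ nv p f ∩ W' := by
      rw [h3, h4, h5, h6]
      exact ⟨⟨hxW', hx⟩, hxW'⟩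
    exact this.1
  · intro hx
    have hxO : x ∈ O := nv_subset f hx
    obtain ⟨W', h1, h2, y, d, -, hxW', hy, hd, -, e'⟩ := exists_adm_unit A hg (hO hxO) hxO
    have h3 : nv p f ∩ W' = X.basicOpen (rsec h1 r * d) := by
      rw [← nv_rs h1, e, rs_mul, e', rs_app, ← mul_assoc, ← map_mul, nv_adm A hy]
    have h4 : X.basicOpen (rsec h1 r * d) = X.basicOpen (rsec h1 r) ⊓ X.basicOpen d := X.basicOpen_mul _ _
    have h5 : X.basicOpen d = W' := X.basicOpen_of_isUnit hd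
    have h6 : X.basicOpen (rsec h1 r) = W' ⊓ X.basicOpen r := X.basicOpen_res _ _
    have : x ∈ nv p f ∩ W' := ⟨hx, hxW'⟩
    rw [h3, h4, h5, h6] at this
    exact this.1.2

theorem nv_mul (A : Atl p chart) {n m : ℕ} {O : X.Opens} {f g : Γ(V, p ⁻¹ᵁ O)} (hf : Wt p chart n O f)
    (hg : Wt p chart m O g) : nv p (f * g) = nv p f ∩ nv p g := by
  ext x
  by_cases hxO : x ∈ O
  · obtain ⟨W, hW, y, -, hxW, hy⟩ := A.exists_adm hxO
    obtain ⟨c, hc⟩ := hf W hW y hy
    obtain ⟨d, hd⟩ := hg W hW y hy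
    have h1 : nv p f ∩ W = X.basicOpen c := by rw [← nv_rs hW, hc, nv_adm A hy]
    have h2 : nv p g ∩ W = X.basicOpen d := by rw [← nv_rs hW, hd, nv_adm A hy]
    have h3 : nv p (f * g) ∩ W = X.basicOpen (c * d) := by
      have e : p.app W c * y ^ n * (p.app W d * y ^ m) = p.app W (c * d) * y ^ (n + m) := by
        rw [map_mul, pow_add]; ring
      rw [← nv_rs hW, rs_mul, hc, hd, e, nv_adm A hy]
    have h4 : X.basicOpen (c * d) = X.basicOpen c ⊓ X.basicOpen d := X.basicOpen_mul _ _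
    have e1 : x ∈ nv p (f * g) ↔ x ∈ nv p (f * g) ∩ W := ⟨fun h => ⟨h, hxW⟩, fun h => h.1⟩
    have e2 : x ∈ nv p f ↔ x ∈ nv p f ∩ W := ⟨fun h => ⟨h, hxW⟩, fun h => h.1⟩
    have e3 : x ∈ nv p g ↔ x ∈ nv p g ∩ W := ⟨fun h => ⟨h, hxW⟩, fun h => h.1⟩
    rw [e1, h3, h4, Set.mem_inter_iff, e2, e3, h1, h2]
    exact Iff.rfl
  · constructor
    · intro h; exact absurd (nv_subset _ h) hxO
    · intro h; exact absurd (nv_subset _ h.1) hxO

theorem nv_one (A : Atl p chart) {O : X.Opens} : nv p (1 : Γ(V, p ⁻¹ᵁ O)) = O := by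
  ext x
  constructor
  · intro h; exact nv_subset _ h
  · intro hx
    obtain ⟨W, hW, y, -, hxW, hy⟩ := A.exists_adm hx
    have h1 : nv p (1 : Γ(V, p ⁻¹ᵁ O)) ∩ W = X.basicOpen (1 : Γ(X, W)) := by
      have e : rs p hW 1 = p.app W 1 * y ^ 0 := by rw [rs_one, map_one, pow_zero, one_mul]
      rw [← nv_rs hW, e, nv_adm A hy]
    have h2 : X.basicOpen (1 : Γ(X, W)) = W := X.basicOpen_of_isUnit isUnit_one
    have : x ∈ nv p (1 : Γ(V, p ⁻¹ᵁ O)) ∩ W := by rw [h1, h2]; exact hxW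
    exact this.1

theorem nv_pow (A : Atl p chart) {n : ℕ} {O : X.Opens} {f : Γ(V, p ⁻¹ᵁ O)} (hf : Wt p chart n O f) (m : ℕ)
    (hm : m ≠ 0) : nv p (f ^ m) = nv p f := by
  obtain ⟨m, rfl⟩ := Nat.exists_eq_succ_of_ne_zero hm
  induction m with
  | zero => simp
  | succ m ih =>
    rw [pow_succ, nv_mul A (hf.pow (m + 1)) hf, ih (Nat.succ_ne_zero m), Set.inter_self]

/-- `X_{fg}` is affine when `X_g` is -/
theorem isAffineOpen_mul (A : Atl p chart) {n m : ℕ} {O : X.Opens} {f g : Γ(V, p ⁻¹ᵁ O)}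
    (hf : Wt p chart m O f) (hg : Wt p chart n O g) (hn : n ≠ 0) (U : X.Opens) (hU : (U : Set X) = nv p g)
    (hUa : IsAffineOpen U) (U' : X.Opens) (hU' : (U' : Set X) = nv p (f * g)) : IsAffineOpen U' := by
  have hUO : U ≤ O := by
    intro x hx
    have : x ∈ (U : Set X) := hx
    rw [hU] at this
    exact nv_subset g this
  -- the ratio `f^n g / g^(m+1)` on `U`
  have hF : Wt p chart (m * n + n) U (rs p hUO (f ^ n * g)) := ((hf.pow n).mul hg).restrict hUO
  have hG : Wt p chart (m * n + n) U (rs p hUO (g ^ (m + 1))) := by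
    have := (hg.pow (m + 1)).restrict hUO
    have e : n * (m + 1) = m * n + n := by ring
    rwa [e] at this
  have hGU : (U : Set X) ⊆ nv p (rs p hUO (g ^ (m + 1))) := by
    rw [nv_rs, nv_pow A hg (m + 1) (Nat.succ_ne_zero m), ← hU, Set.inter_self]
  obtain ⟨r, hr⟩ := exists_ratio A hF hG hGU
  have h1 := basicOpen_ratio A hG hGU r hr
  rw [nv_rs, nv_mul A (hf.pow n) hg, nv_pow A hf n hn, ← nv_mul A hf hg] at h1
  have h2 : U' = X.basicOpen r := by
    ext x
    change x ∈ (U' : Set X) ↔ x ∈ (X.basicOpen r : Set X)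
    rw [h1, hU']
    constructor
    · intro hx
      refine ⟨hx, ?_⟩
      rw [nv_mul A hf hg] at hx
      rw [hU]
      exact hx.2
    · exact fun h => h.1
  rw [h2]
  exact hUa.basicOpen r

/-- `X_{f+g}` is affine when `X_f`, `X_g` are -/
theorem isAffineOpen_add (A : Atl p chart) {n : ℕ} {O : X.Opens} {f g : Γ(V, p ⁻¹ᵁ O)}
    (hf : Wt p chart n O f) (hg : Wt p chart n O g) (hn : n ≠ 0)
    (U : X.Opens) (hU : (U : Set X) = nv p f) (hUa : IsAffineOpen U)
    (W : X.Opens) (hW : (W : Set X) = nv p g) (hWa : IsAffineOpen W)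
    (Z : X.Opens) (hZ : (Z : Set X) = nv p (f + g)) : IsAffineOpen Z := by
  have hZO : Z ≤ O := by
    intro x hx
    have : x ∈ (Z : Set X) := hx
    rw [hZ] at this
    exact nv_subset _ this
  have hs : Wt p chart n O (f + g) := hf.add hg
  have hsZ : Wt p chart n Z (rs p hZO (f + g)) := hs.restrict hZO
  have hZs : (Z : Set X) ⊆ nv p (rs p hZO (f + g)) := by rw [nv_rs, ← hZ, Set.inter_self]
  obtain ⟨r, hr⟩ := exists_ratio A (hf.restrict hZO) hsZ hZs
  obtain ⟨t, ht⟩ := exists_ratio A (hg.restrict hZO) hsZ hZs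
  have h1 : r + t = 1 := by
    refine ratio_unique A hsZ le_rfl hZs _ _ ?_
    rw [rs_self, map_add, add_mul, ← hr, ← ht, map_one, one_mul, rs_add]
  have h2 := basicOpen_ratio A hsZ hZs r hr
  have h3 := basicOpen_ratio A hsZ hZs t ht
  refine isAffineOpen_of_isAffineOpen_basicOpen Z {r, t} ?_ ?_
  · rw [Ideal.eq_top_iff_one, ← h1]
    exact Ideal.add_mem _ (Ideal.subset_span (by simp)) (Ideal.subset_span (by simp))
  · intro i hi
    rcases hi with rfl | hi
    · refine isAffineOpen_mul A hs hf hn U hU hUa _ ?_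
      rw [h2, nv_rs, nv_mul A hs hf, hZ, Set.inter_comm]
    · rw [Set.mem_singleton_iff] at hi
      subst hi
      refine isAffineOpen_mul A hs hg hn W hW hWa _ ?_
      rw [h3, nv_rs, nv_mul A hs hg, hZ, Set.inter_comm]

end K689.Ratio
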