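import Groth.Prelude.Def_GLinSh
import Groth.Agent.GIT.K689.Ratio
import Groth.Agent.GIT.K689.ActBasic

/-!
# Linearised line bundles: the dictionary with scheme-level weights, invariant sections, closed orbits
-/

set_option autoImplicit false

universe u

open CategoryTheory CategoryTheory.Limits MonoidalCategory CartesianMonoidalCategory MonObj GrpObj AlgebraicGeometry
  TopologicalSpace Opposite

namespace K689.LinBunBasic

open K689.SchGlue K689.Coord K689.CoordUP K689.Weight K689.Ratio K689.ActBasic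

/-- a global function seen over the preimage of the whole base -/
abbrev tt {X V : Scheme.{u}} (p : V ⟶ X) (f : Γ(V, ⊤)) : Γ(V, p ⁻¹ᵁ ⊤) :=
  V.presheaf.map (homOfLE le_top).op f

section Atlas

variable {S : Scheme.{u}} {X V : Over S} {π : V ⟶ X}

theorem atl (A : GLinSh.LinAtlas π) : Atl π.left A.chart := ⟨A.cover, A.coord, A.linear⟩

theorem rs_tt {X V : Scheme.{u}} (p : V ⟶ X) {U : X.Opens} (f : Γ(V, ⊤)) :
    rs p (le_top : U ≤ ⊤) (tt p f) = V.presheaf.map (homOfLE le_top).op f := by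
  simp only [rs, tt]
  rw [← CommRingCat.comp_apply, ← V.presheaf.map_comp]
  rfl

theorem tt_injective {X V : Scheme.{u}} (p : V ⟶ X) {f g : Γ(V, ⊤)} (h : tt p f = tt p g) : f = g := by
  apply section_ext
  intro x _
  exact ⟨p ⁻¹ᵁ ⊤, le_top, trivial, h⟩

theorem hasWeight_iff (A : GLinSh.LinAtlas π) (n : ℕ) (f : Γ(V.left, ⊤)) :
    GLinSh.HasWeight A.chart n f ↔ Wt π.left A.chart n ⊤ (tt π.left f) := by
  constructor
  · rintro h W hW y ⟨U, hU, y₀, hy₀, rfl⟩
    obtain ⟨c, hc⟩ := h U y₀ hy₀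
    refine ⟨rsec hU c, ?_⟩
    have e : rs π.left hU (V.left.presheaf.map (homOfLE le_top).op f) =
        rs π.left hU (π.left.app U c * y₀ ^ n) := congrArg (rs π.left hU) hc
    rw [rs_mul, rs_pow, rs_app] at e
    rw [rs_tt]
    rw [← e]
    simp only [rs]
    rw [← CommRingCat.comp_apply, ← V.left.presheaf.map_comp]
    rfl
  · intro h U y hy
    obtain ⟨c, hc⟩ := h U le_top y (adm_of_mem hy)
    rw [rs_tt] at hc
    exact ⟨c, hc⟩

theorem nonvanishing_eq (f : Γ(V.left, ⊤)) : GLinSh.nonvanishing π f = nv π.left (tt π.left f) := by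
  have e : V.left.basicOpen (tt π.left f) = (π.left ⁻¹ᵁ ⊤) ⊓ V.left.basicOpen f := V.left.basicOpen_res _ _
  have e' : V.left.basicOpen (tt π.left f) = V.left.basicOpen f := by
    rw [e]
    exact inf_eq_right.2 (fun x _ => trivial)
  rw [nv, e']
  rfl

end Atlas

section Bun

variable {S : Scheme.{u}} {G X : Over S} [GrpObj G] {a : AlgGrp.Action G X} (B : GLinSh.LinBun G a)

instance : IsAffineHom B.π.left := B.atlas.affine

theorem weight_mul {n m : ℕ} {f g : Γ(B.V.left, ⊤)} (hf : GLinSh.HasWeight B.atlas.chart n f)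
    (hg : GLinSh.HasWeight B.atlas.chart m g) : GLinSh.HasWeight B.atlas.chart (n + m) (f * g) := by
  rw [hasWeight_iff] at *
  have : tt B.π.left (f * g) = tt B.π.left f * tt B.π.left g := map_mul _ _ _
  rw [this]
  exact hf.mul hg

theorem weight_add {n : ℕ} {f g : Γ(B.V.left, ⊤)} (hf : GLinSh.HasWeight B.atlas.chart n f)
    (hg : GLinSh.HasWeight B.atlas.chart n g) : GLinSh.HasWeight B.atlas.chart n (f + g) := by
  rw [hasWeight_iff] at *
  have : tt B.π.left (f + g) = tt B.π.left f + tt B.π.left g := map_add _ _ _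
  rw [this]
  exact hf.add hg

theorem weight_pow {n : ℕ} {f : Γ(B.V.left, ⊤)} (hf : GLinSh.HasWeight B.atlas.chart n f) (m : ℕ) :
    GLinSh.HasWeight B.atlas.chart (n * m) (f ^ m) := by
  rw [hasWeight_iff] at *
  have : tt B.π.left (f ^ m) = tt B.π.left f ^ m := map_pow _ _ _
  rw [this]
  exact hf.pow m

theorem invSection_mul {n m : ℕ} {f g : Γ(B.V.left, ⊤)} (hf : B.IsInvSection n f)
    (hg : B.IsInvSection m g) : B.IsInvSection (n + m) (f * g) :=
  ⟨weight_mul B hf.1 hg.1, by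
    change B.lift.act.left.appTop (f * g) = (snd G B.V).left.appTop (f * g)
    rw [map_mul, map_mul, hf.2, hg.2]⟩

theorem invSection_add {n : ℕ} {f g : Γ(B.V.left, ⊤)} (hf : B.IsInvSection n f)
    (hg : B.IsInvSection n g) : B.IsInvSection n (f + g) :=
  ⟨weight_add B hf.1 hg.1, by
    change B.lift.act.left.appTop (f + g) = (snd G B.V).left.appTop (f + g)
    rw [map_add, map_add, hf.2, hg.2]⟩

theorem invSection_pow {n : ℕ} {f : Γ(B.V.left, ⊤)} (hf : B.IsInvSection n f) (m : ℕ) :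
    B.IsInvSection (n * m) (f ^ m) :=
  ⟨weight_pow B hf.1 m, by
    change B.lift.act.left.appTop (f ^ m) = (snd G B.V).left.appTop (f ^ m)
    rw [map_pow, map_pow, hf.2]⟩

variable {B}

theorem nonvanishing_mul {n m : ℕ} {f g : Γ(B.V.left, ⊤)} (hf : GLinSh.HasWeight B.atlas.chart n f)
    (hg : GLinSh.HasWeight B.atlas.chart m g) :
    GLinSh.nonvanishing B.π (f * g) = GLinSh.nonvanishing B.π f ∩ GLinSh.nonvanishing B.π g := by
  rw [nonvanishing_eq, nonvanishing_eq, nonvanishing_eq]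
  have : tt B.π.left (f * g) = tt B.π.left f * tt B.π.left g := map_mul _ _ _
  rw [this]
  exact nv_mul (atl B.atlas) ((hasWeight_iff _ _ _).1 hf) ((hasWeight_iff _ _ _).1 hg)

theorem nonvanishing_pow {n : ℕ} {f : Γ(B.V.left, ⊤)} (hf : GLinSh.HasWeight B.atlas.chart n f) (m : ℕ)
    (hm : m ≠ 0) : GLinSh.nonvanishing B.π (f ^ m) = GLinSh.nonvanishing B.π f := by
  rw [nonvanishing_eq, nonvanishing_eq]
  have : tt B.π.left (f ^ m) = tt B.π.left f ^ m := map_pow _ _ _
  rw [this]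
  exact nv_pow (atl B.atlas) ((hasWeight_iff _ _ _).1 hf) m hm

theorem isOpen_nonvanishing {n : ℕ} {f : Γ(B.V.left, ⊤)} (hf : GLinSh.HasWeight B.atlas.chart n f) :
    IsOpen (GLinSh.nonvanishing B.π f) := by
  rw [nonvanishing_eq]
  exact isOpen_nv (atl B.atlas) ((hasWeight_iff _ _ _).1 hf)

theorem isAffineOpen_mul {n m : ℕ} {f g : Γ(B.V.left, ⊤)} (hf : GLinSh.HasWeight B.atlas.chart m f)
    (hg : GLinSh.HasWeight B.atlas.chart n g) (hn : n ≠ 0) (U : X.left.Opens)
    (hU : (U : Set X.left) = GLinSh.nonvanishing B.π g) (hUa : IsAffineOpen U) (U' : X.left.Opens)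
    (hU' : (U' : Set X.left) = GLinSh.nonvanishing B.π (f * g)) : IsAffineOpen U' := by
  rw [nonvanishing_eq] at hU hU'
  have : tt B.π.left (f * g) = tt B.π.left f * tt B.π.left g := map_mul _ _ _
  rw [this] at hU'
  exact Ratio.isAffineOpen_mul (atl B.atlas) ((hasWeight_iff _ _ _).1 hf) ((hasWeight_iff _ _ _).1 hg) hn U hU hUa
    U' hU'

theorem isAffineOpen_add {n : ℕ} {f g : Γ(B.V.left, ⊤)} (hf : GLinSh.HasWeight B.atlas.chart n f)
    (hg : GLinSh.HasWeight B.atlas.chart n g) (hn : n ≠ 0) (U : X.left.Opens)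
    (hU : (U : Set X.left) = GLinSh.nonvanishing B.π f) (hUa : IsAffineOpen U) (W : X.left.Opens)
    (hW : (W : Set X.left) = GLinSh.nonvanishing B.π g) (hWa : IsAffineOpen W) (Z : X.left.Opens)
    (hZ : (Z : Set X.left) = GLinSh.nonvanishing B.π (f + g)) : IsAffineOpen Z := by
  rw [nonvanishing_eq] at hU hW hZ
  have : tt B.π.left (f + g) = tt B.π.left f + tt B.π.left g := map_add _ _ _
  rw [this] at hZ
  exact Ratio.isAffineOpen_add (atl B.atlas) ((hasWeight_iff _ _ _).1 hf) ((hasWeight_iff _ _ _).1 hg) hn U hU hUa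
    W hW hWa Z hZ

/-- the locus of an invariant section is invariant -/
theorem nonvanishing_invariant {f : Γ(B.V.left, ⊤)} (hf : GLinSh.IsInvFn B.lift f) (z : (G ⊗ X).left) :
    a.act.left z ∈ GLinSh.nonvanishing B.π f ↔ (snd G X).left z ∈ GLinSh.nonvanishing B.π f :=
  preimage_image_basicOpen a B.lift B.π B.lift_π f hf z

end Bun

section Closed

variable {S : Scheme.{u}} {G X : Over S} [GrpObj G] (a : AlgGrp.Action G X)

theorem closedOrbitsOn_mono {U U' : X.left.Opens} (h : U' ≤ U) (hU : GLinSh.ClosedOrbitsOn a U) :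
    GLinSh.ClosedOrbitsOn a U' := by
  intro Ω _ _ T e f hf
  have h1 := hU Ω T e f (hf.trans h)
  have hj : Continuous (Set.inclusion (s := ((fst X T).left ⁻¹ᵁ U' : Set (X ⊗ T).left))
    (t := ((fst X T).left ⁻¹ᵁ U : Set (X ⊗ T).left)) (fun x hx => h hx)) := continuous_inclusion _
  exact h1.preimage hj

/-- closedness of orbits is local for covers by invariant opens -/
theorem closedOrbitsOn_of_cover {I : Type*} (U : X.left.Opens) (W : I → X.left.Opens) (hW : ∀ i, W i ≤ U)
    (hcov : ∀ x ∈ U, ∃ i, x ∈ W i)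
    (hinv : ∀ i (z : (G ⊗ X).left), a.act.left z ∈ W i → (snd G X).left z ∈ W i)
    (hcl : ∀ i, GLinSh.ClosedOrbitsOn a (W i)) : GLinSh.ClosedOrbitsOn a U := by
  intro Ω _ _ T e f hf
  -- `T` has one point
  have hsub : ∀ t t' : T.left, t = t' := by
    intro t t'
    have hinj : Function.Injective e.hom := (Scheme.homeoOfIso e).injective
    apply hinj
    exact Subsingleton.elim _ _
  rw [← isOpen_compl_iff, isOpen_iff_forall_mem_open]
  rintro ⟨z, hz⟩ hzO
  obtain ⟨i, hi⟩ := hcov _ hz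
  have hzi : z ∈ (fst X T).left ⁻¹ᵁ (W i) := hi
  by_cases hft : ∀ t : T.left, f.left t ∈ W i
  · have h1 := hcl i Ω T e f (by rintro _ ⟨t, rfl⟩; exact hft t)
    obtain ⟨C, hC, hCe⟩ := isClosed_induced_iff.1 h1
    refine ⟨{q | q.1 ∈ (fst X T).left ⁻¹ᵁ (W i) ∧ q.1 ∉ C}, ?_, ?_, ?_⟩
    · rintro ⟨q, hq⟩ ⟨hq1, hq2⟩ hq3
      apply hq2
      exact (Set.ext_iff.1 hCe ⟨q, hq1⟩).2 hq3
    · have k1 : IsOpen {q : (X ⊗ T).left | q ∈ (fst X T).left ⁻¹ᵁ (W i) ∧ q ∉ C} :=
        ((fst X T).left ⁻¹ᵁ (W i)).2.inter hC.isOpen_compl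
      exact k1.preimage continuous_subtype_val
    · refine ⟨hzi, fun hzC => hzO ?_⟩
      exact (Set.ext_iff.1 hCe ⟨z, hzi⟩).1 hzC
  · refine ⟨{q | q.1 ∈ (fst X T).left ⁻¹ᵁ (W i)}, ?_, ?_, hzi⟩
    · rintro ⟨q, hq⟩ hq1 ⟨w, hw⟩
      apply hft
      intro t
      have h2 : a.act.left ((G ◁ f).left w) ∈ W i := by
        have h3 : (fst X T).left ((GIT.psi a f).left w) ∈ W i := by
          have : (GIT.psi a f).left w = q := hw
          rw [this]; exact hq1
        rw [← Scheme.Hom.comp_apply, ← Over.comp_left, GIT.psi, lift_fst, Over.comp_left,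
          Scheme.Hom.comp_apply] at h3
        exact h3
      have h4 := hinv i _ h2
      rw [← Scheme.Hom.comp_apply, ← Over.comp_left, whiskerLeft_snd, Over.comp_left,
        Scheme.Hom.comp_apply] at h4
      rw [hsub t ((snd G T).left w)]
      exact h4
    · exact ((fst X T).left ⁻¹ᵁ (W i)).2.preimage continuous_subtype_val

end Closed

end K689.LinBunBasic
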