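import Groth.Agent.GIT.K688.SubmLocal
import Groth.Agent.GIT.K688.QuotLocal
import Groth.Agent.GIT.K689.Compat
import Groth.Agent.GIT.K686.Basic

/-!
# Geometric quotients are local on the target

`isLocalOnTarget_isGeomQuot`, `isUnivGeomQuot_of_charts`, `isUnifGeomQuot_of_charts`.
-/

set_option autoImplicit false

universe u

open CategoryTheory CategoryTheory.Limits MonoidalCategory CartesianMonoidalCategory MonObj AlgebraicGeometry
  TopologicalSpace Topology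

namespace K689.LocGeom

open K689.SchGlue K689.PullBun K688.ActRes K688.QuotLocal

variable {S : Scheme.{u}} {G X Y X' Y' : Over S} [GrpObj G]

/-- pull-back of invariant sections -/
theorem isInvSection_pull {a : AlgGrp.Action G X} {φ : X ⟶ Y} {a' : AlgGrp.Action G X'} {pr : X' ⟶ X}
    {φ' : X' ⟶ Y'} (ha' : a'.act ≫ pr = (G ◁ pr) ≫ a.act) {U : Y.left.Opens} {U' : Y'.left.Opens}
    (le : φ'.left ⁻¹ᵁ U' ≤ pr.left ⁻¹ᵁ (φ.left ⁻¹ᵁ U)) {f : Γ(X.left, φ.left ⁻¹ᵁ U)}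
    (hf : GIT.IsInvSection a φ U f) :
    GIT.IsInvSection a' φ' U' (pr.left.appLE (φ.left ⁻¹ᵁ U) (φ'.left ⁻¹ᵁ U') le f) := by
  have m1 : a'.act.left ≫ pr.left = (G ◁ pr).left ≫ a.act.left := by
    rw [← Over.comp_left, ← Over.comp_left, ha']
  have m2 : (snd G X').left ≫ pr.left = (G ◁ pr).left ≫ (snd G X).left := by
    rw [← Over.comp_left, ← Over.comp_left, whiskerLeft_snd]
  have q1 : a'.act.left ⁻¹ᵁ (φ'.left ⁻¹ᵁ U') ⊓ (snd G X').left ⁻¹ᵁ (φ'.left ⁻¹ᵁ U') ≤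
      (a'.act.left ≫ pr.left) ⁻¹ᵁ (φ.left ⁻¹ᵁ U) := fun z hz => le hz.1
  have q2 : a'.act.left ⁻¹ᵁ (φ'.left ⁻¹ᵁ U') ⊓ (snd G X').left ⁻¹ᵁ (φ'.left ⁻¹ᵁ U') ≤
      ((snd G X').left ≫ pr.left) ⁻¹ᵁ (φ.left ⁻¹ᵁ U) := fun z hz => le hz.2
  have q1' : a'.act.left ⁻¹ᵁ (φ'.left ⁻¹ᵁ U') ⊓ (snd G X').left ⁻¹ᵁ (φ'.left ⁻¹ᵁ U') ≤
      ((G ◁ pr).left ≫ a.act.left) ⁻¹ᵁ (φ.left ⁻¹ᵁ U) := by rw [← m1]; exact q1
  have q2' : a'.act.left ⁻¹ᵁ (φ'.left ⁻¹ᵁ U') ⊓ (snd G X').left ⁻¹ᵁ (φ'.left ⁻¹ᵁ U') ≤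
      ((G ◁ pr).left ≫ (snd G X).left) ⁻¹ᵁ (φ.left ⁻¹ᵁ U) := by rw [← m2]; exact q2
  have hle : a'.act.left ⁻¹ᵁ (φ'.left ⁻¹ᵁ U') ⊓ (snd G X').left ⁻¹ᵁ (φ'.left ⁻¹ᵁ U') ≤
      (G ◁ pr).left ⁻¹ᵁ (a.act.left ⁻¹ᵁ (φ.left ⁻¹ᵁ U) ⊓ (snd G X).left ⁻¹ᵁ (φ.left ⁻¹ᵁ U)) :=
    fun z hz => ⟨q1' hz, q2' hz⟩
  have e := congrArg ((G ◁ pr).left.appLE _ _ hle) hf
  have t1 := appLE_appLE a'.act.left pr.left le (W' := a'.act.left ⁻¹ᵁ (φ'.left ⁻¹ᵁ U') ⊓
    (snd G X').left ⁻¹ᵁ (φ'.left ⁻¹ᵁ U')) inf_le_left q1 f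
  have t2 := appLE_appLE (snd G X').left pr.left le (W' := a'.act.left ⁻¹ᵁ (φ'.left ⁻¹ᵁ U') ⊓
    (snd G X').left ⁻¹ᵁ (φ'.left ⁻¹ᵁ U')) inf_le_right q2 f
  have t3 := appLE_appLE (G ◁ pr).left a.act.left (W := a.act.left ⁻¹ᵁ (φ.left ⁻¹ᵁ U) ⊓
    (snd G X).left ⁻¹ᵁ (φ.left ⁻¹ᵁ U)) inf_le_left hle q1' f
  have t4 := appLE_appLE (G ◁ pr).left (snd G X).left (W := a.act.left ⁻¹ᵁ (φ.left ⁻¹ᵁ U) ⊓
    (snd G X).left ⁻¹ᵁ (φ.left ⁻¹ᵁ U)) inf_le_right hle q2' f
  have u1 := appLE_hom_congr m1 q1 q1' f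
  have u2 := appLE_hom_congr m2 q2 q2' f
  exact t1.trans (u1.trans (t3.symm.trans (e.trans (t4.trans (u2.symm.trans t2.symm)))))

/-- surjectivity of `PsiY` is local on the target -/
theorem surjective_PsiY_of_local {a : AlgGrp.Action G X} {φ : X ⟶ Y} (hφ : GIT.IsInvariant a φ)
    (H : ∀ y : Y.left, ∃ (X' Y' : Over S) (a' : AlgGrp.Action G X') (φ' : X' ⟶ Y') (pr : X' ⟶ X) (g : Y' ⟶ Y)
      (hinv : GIT.IsInvariant a' φ'), Chart a φ a' φ' pr g ∧ y ∈ Set.range g.left ∧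
        Function.Surjective (GIT.PsiY a' φ' hinv).base) : Function.Surjective (GIT.PsiY a φ hφ).base := by
  intro z
  obtain ⟨X', Y', a', φ', pr, g, hinv, hc, hy, hs⟩ := H ((pullback.fst φ.left φ.left ≫ φ.left) z)
  have := hc.open_g
  have hpb : IsPullback pr.left φ'.left φ.left g.left := hc.pb.map (Over.forget S)
  let P := pullback φ.left φ.left
  let ζ : Spec (P.residueField z) ⟶ P := P.fromSpecResidueField z
  have hr : Set.range (ζ ≫ pullback.fst φ.left φ.left ≫ φ.left) ⊆ Set.range g.left := by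
    rintro _ ⟨t, rfl⟩
    have : ζ t = z := by
      have h1 : ζ t ∈ Set.range ζ := ⟨t, rfl⟩
      have h2 : Set.range ζ = {z} := Scheme.range_fromSpecResidueField z
      rw [h2] at h1
      exact h1
    rw [Scheme.Hom.comp_apply, this]
    exact hy
  let v := IsOpenImmersion.lift g.left _ hr
  have hv : v ≫ g.left = ζ ≫ pullback.fst φ.left φ.left ≫ φ.left := IsOpenImmersion.lift_fac _ _ _
  let x₁ := hpb.lift (ζ ≫ pullback.fst φ.left φ.left) v (by rw [hv, Category.assoc])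
  let x₂ := hpb.lift (ζ ≫ pullback.snd φ.left φ.left) v (by rw [hv, Category.assoc, pullback.condition])
  have e1 : x₁ ≫ pr.left = ζ ≫ pullback.fst φ.left φ.left := hpb.lift_fst _ _ _
  have e2 : x₂ ≫ pr.left = ζ ≫ pullback.snd φ.left φ.left := hpb.lift_fst _ _ _
  have e3 : x₁ ≫ φ'.left = x₂ ≫ φ'.left := by rw [hpb.lift_snd, hpb.lift_snd]
  let w := pullback.lift x₁ x₂ e3
  let m : pullback φ'.left φ'.left ⟶ P := pullback.lift (pullback.fst _ _ ≫ pr.left) (pullback.snd _ _ ≫ pr.left)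
    (by rw [Category.assoc, Category.assoc, hpb.w, pullback.condition_assoc])
  have hw : w ≫ m = ζ := by
    apply pullback.hom_ext
    · rw [Category.assoc, pullback.lift_fst, pullback.lift_fst_assoc, e1]
    · rw [Category.assoc, pullback.lift_snd, pullback.lift_snd_assoc, e2]
  let t : Spec (P.residueField z) := IsLocalRing.closedPoint _
  obtain ⟨r, hr'⟩ := hs (w t)
  refine ⟨(G ◁ pr).left r, ?_⟩
  have hm : (G ◁ pr).left ≫ GIT.PsiY a φ hφ = GIT.PsiY a' φ' hinv ≫ m := by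
    apply pullback.hom_ext
    · rw [Category.assoc, Category.assoc, pullback.lift_fst, GIT.PsiY, GIT.PsiY, pullback.lift_fst,
        pullback.lift_fst_assoc, ← Over.comp_left, ← hc.act, Over.comp_left]
    · rw [Category.assoc, Category.assoc, pullback.lift_snd, GIT.PsiY, GIT.PsiY, pullback.lift_snd,
        pullback.lift_snd_assoc, ← Over.comp_left, whiskerLeft_snd, Over.comp_left]
  have h3 : GIT.PsiY a φ hφ ((G ◁ pr).left r) = m (GIT.PsiY a' φ' hinv r) := by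
    rw [← Scheme.Hom.comp_apply, hm, Scheme.Hom.comp_apply]
  refine h3.trans ?_
  have hr'' : GIT.PsiY a' φ' hinv r = w t := hr'
  rw [hr'', ← Scheme.Hom.comp_apply, hw]
  have h2 : Set.range ζ = {z} := Scheme.range_fromSpecResidueField z
  have h1 : ζ t ∈ Set.range ζ := ⟨t, rfl⟩
  rw [h2] at h1
  exact h1

/-- an open immersion induces isomorphisms on functions over opens inside its range -/
theorem app_bijective {T Z : Scheme.{u}} (g : T ⟶ Z) [IsOpenImmersion g] {W : Z.Opens}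
    (hW : (W : Set Z) ⊆ Set.range g) : Function.Bijective (g.app W) := by
  have : IsIso (g.app W) := g.isIso_app W hW
  exact ConcreteCategory.bijective_of_isIso (g.app W)

theorem app_rsec {T Z : Scheme.{u}} (g : T ⟶ Z) {U W : Z.Opens} (h : W ≤ U) (f : Γ(Z, U)) :
    g.app W (rsec h f) = rsec (g.preimage_mono h) (g.app U f) := by
  have := g.naturality (homOfLE h).op
  exact congrArg (fun φ => φ.hom f) this

theorem sections_of_local {a : AlgGrp.Action G X} {φ : X ⟶ Y}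
    (H : ∀ y : Y.left, ∃ (X' Y' : Over S) (a' : AlgGrp.Action G X') (φ' : X' ⟶ Y') (pr : X' ⟶ X) (g : Y' ⟶ Y),
      Chart a φ a' φ' pr g ∧ y ∈ Set.range g.left ∧
        ∀ U : Y'.left.Opens, Function.Injective (φ'.left.app U) ∧
          Set.range (φ'.left.app U) = {f | GIT.IsInvSection a' φ' U f}) (hφ : GIT.IsInvariant a φ)
    (U : Y.left.Opens) :
    Function.Injective (φ.left.app U) ∧ Set.range (φ.left.app U) = {f | GIT.IsInvSection a φ U f} := by
  have inj : ∀ U : Y.left.Opens, Function.Injective (φ.left.app U) := by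
    intro U s t hst
    apply section_ext
    intro y hy
    obtain ⟨X', Y', a', φ', pr, g, hc, hyg, hs⟩ := H y
    have := hc.open_g
    have hw : pr.left ≫ φ.left = φ'.left ≫ g.left := (hc.pb.map (Over.forget S)).w
    refine ⟨U ⊓ g.left.opensRange, inf_le_left, ⟨hy, hyg⟩, ?_⟩
    apply (app_bijective g.left (W := U ⊓ g.left.opensRange) (fun z hz => hz.2)).1
    rw [app_rsec, app_rsec]
    congr 1
    apply (hs (g.left ⁻¹ᵁ U)).1
    have k : ∀ r : Γ(Y.left, U), φ'.left.app (g.left ⁻¹ᵁ U) (g.left.app U r) =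
        pr.left.appLE (φ.left ⁻¹ᵁ U) (φ'.left ⁻¹ᵁ (g.left ⁻¹ᵁ U)) (Compat.sqle hw.symm U) (φ.left.app U r) :=
      fun r => (Compat.appLE_base hw.symm U r).symm
    rw [k, k, hst]
  refine ⟨inj U, ?_⟩
  apply Set.Subset.antisymm
  · rintro _ ⟨s, rfl⟩
    have m := hφ.left
    have l1 : a.act.left ⁻¹ᵁ (φ.left ⁻¹ᵁ U) ⊓ (snd G X).left ⁻¹ᵁ (φ.left ⁻¹ᵁ U) ≤
      (a.act.left ≫ φ.left) ⁻¹ᵁ U := inf_le_left
    have l2 : a.act.left ⁻¹ᵁ (φ.left ⁻¹ᵁ U) ⊓ (snd G X).left ⁻¹ᵁ (φ.left ⁻¹ᵁ U) ≤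
      ((snd G X).left ≫ φ.left) ⁻¹ᵁ U := inf_le_right
    exact (app_appLE a.act.left φ.left inf_le_left l1 s).trans
      ((appLE_hom_congr m l1 l2 s).trans (app_appLE (snd G X).left φ.left inf_le_right l2 s).symm)
  · intro f hf
    obtain ⟨s, hs⟩ := exists_section (U := U) (fun W hW r => φ.left.app W r = rsec (φ.left.preimage_mono hW) f)
      (by
        intro y hy
        obtain ⟨X', Y', a', φ', pr, g, hc, hyg, hsec⟩ := H y
        have := hc.open_g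
        have hpb : IsPullback pr.left φ'.left φ.left g.left := hc.pb.map (Over.forget S)
        have hw : pr.left ≫ φ.left = φ'.left ≫ g.left := hpb.w
        have hop : IsOpenImmersion pr.left := MorphismProperty.of_isPullback hpb.flip inferInstance
        let W := U ⊓ g.left.opensRange
        have hle : φ'.left ⁻¹ᵁ (g.left ⁻¹ᵁ U) ≤ pr.left ⁻¹ᵁ (φ.left ⁻¹ᵁ U) := Compat.sqle hw.symm U
        have h1 := isInvSection_pull hc.act (U := U) (U' := g.left ⁻¹ᵁ U) hle hf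
        have h2 : pr.left.appLE (φ.left ⁻¹ᵁ U) (φ'.left ⁻¹ᵁ (g.left ⁻¹ᵁ U)) hle f ∈
          Set.range (φ'.left.app (g.left ⁻¹ᵁ U)) := by
          rw [(hsec _).2]; exact h1
        obtain ⟨s', hs'⟩ := h2
        obtain ⟨r, hr⟩ := (app_bijective g.left (W := W) (fun z hz => hz.2)).2
          (rsec (g.left.preimage_mono (inf_le_left : W ≤ U)) s')
        refine ⟨W, inf_le_left, ⟨hy, hyg⟩, r, ?_⟩
        have hWr : ((φ.left ⁻¹ᵁ W : X.left.Opens) : Set X.left) ⊆ Set.range pr.left := by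
          intro x hx
          obtain ⟨y', hy'⟩ := hx.2
          obtain ⟨x', hx'⟩ := ActBasic.exists_point hpb x y' hy'.symm
          exact ⟨x', hx'.1⟩
        apply (app_bijective pr.left hWr).1
        have heq : pr.left ⁻¹ᵁ (φ.left ⁻¹ᵁ W) = φ'.left ⁻¹ᵁ (g.left ⁻¹ᵁ W) := by
          have e1 : pr.left ⁻¹ᵁ (φ.left ⁻¹ᵁ W) = (pr.left ≫ φ.left) ⁻¹ᵁ W := rfl
          have e2 : φ'.left ⁻¹ᵁ (g.left ⁻¹ᵁ W) = (φ'.left ≫ g.left) ⁻¹ᵁ W := rfl
          rw [e1, e2, hw]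
        -- compare after the restriction to `φ'⁻¹ g⁻¹ W`
        have key : rsec heq.ge (pr.left.app (φ.left ⁻¹ᵁ W) (φ.left.app W r)) =
            rsec heq.ge (pr.left.app (φ.left ⁻¹ᵁ W) (rsec (φ.left.preimage_mono inf_le_left) f)) := by
          have a1 : rsec heq.ge (pr.left.app (φ.left ⁻¹ᵁ W) (φ.left.app W r)) =
              φ'.left.app (g.left ⁻¹ᵁ W) (g.left.app W r) := by
            rw [← Compat.appLE_base hw.symm W r]
            rw [← appLE_self_app pr.left le_rfl (φ.left.app W r)]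
            exact rsec_appLE _ _ _ _ _
          have a2 : rsec heq.ge (pr.left.app (φ.left ⁻¹ᵁ W) (rsec (φ.left.preimage_mono inf_le_left) f)) =
              rsec (φ'.left.preimage_mono (g.left.preimage_mono (inf_le_left : W ≤ U)))
                (pr.left.appLE (φ.left ⁻¹ᵁ U) (φ'.left ⁻¹ᵁ (g.left ⁻¹ᵁ U)) hle f) := by
            rw [rsec_appLE pr.left (φ'.left.preimage_mono (g.left.preimage_mono (inf_le_left : W ≤ U))) hle
              ((φ'.left.preimage_mono (g.left.preimage_mono (inf_le_left : W ≤ U))).trans hle) f]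
            rw [← appLE_self_app pr.left le_rfl (rsec (φ.left.preimage_mono inf_le_left) f)]
            rw [appLE_rsec pr.left _ le_rfl (pr.left.preimage_mono (φ.left.preimage_mono inf_le_left))]
            exact rsec_appLE _ _ _ _ _
          rw [a1, a2, hr, app_rsec, hs']
        have h3 := congrArg (rsec heq.le) key
        rw [rsec_rsec, rsec_rsec, rsec_self, rsec_self] at h3
        exact h3)
      (by
        intro W hW W' hW' r hr
        rw [app_rsec, hr, rsec_rsec])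
      (by
        intro W hW r r' hr hr'
        exact inj W (hr.trans hr'.symm))
    refine ⟨s, ?_⟩
    apply section_ext
    intro x hx
    obtain ⟨W, hW, hxW, e⟩ := hs (φ.left x) hx
    refine ⟨φ.left ⁻¹ᵁ W, φ.left.preimage_mono hW, hxW, ?_⟩
    exact (app_rsec φ.left hW s).symm.trans e

/-- geometric quotients are local on the target, on charts -/
theorem isGeomQuot_of_charts {a : AlgGrp.Action G X} {φ : X ⟶ Y} (hφ : GIT.IsInvariant a φ)
    (H : ∀ y : Y.left, ∃ (X' Y' : Over S) (a' : AlgGrp.Action G X') (φ' : X' ⟶ Y') (pr : X' ⟶ X) (g : Y' ⟶ Y),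
      Chart a φ a' φ' pr g ∧ y ∈ Set.range g.left ∧ GIT.IsGeomQuot a' φ') : GIT.IsGeomQuot a φ where
  inv := hφ
  surj := by
    intro y
    obtain ⟨X', Y', a', φ', pr, g, hc, ⟨y', hy'⟩, h⟩ := H y
    obtain ⟨x', hx'⟩ := h.surj y'
    refine ⟨pr.left x', ?_⟩
    have hw : pr.left ≫ φ.left = φ'.left ≫ g.left := (hc.pb.map (Over.forget S)).w
    change φ.left (pr.left x') = y
    rw [← Scheme.Hom.comp_apply, hw, Scheme.Hom.comp_apply, ← hy']
    exact congrArg g.left hx'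
  orbit := surjective_PsiY_of_local hφ (fun y => by
    obtain ⟨X', Y', a', φ', pr, g, hc, hy, h⟩ := H y
    exact ⟨X', Y', a', φ', pr, g, h.inv, hc, hy, h.orbit⟩)
  subm := K688.SubmLocal.isUnivSubmersive_of_charts _ (fun y => by
    obtain ⟨X', Y', a', φ', pr, g, hc, hy, h⟩ := H y
    exact ⟨_, _, φ'.left, pr.left, g.left, hc.open_g, hc.pb.map (Over.forget S), hy, h.subm⟩)
  sections := sections_of_local (fun y => by
    obtain ⟨X', Y', a', φ', pr, g, hc, hy, h⟩ := H y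
    exact ⟨X', Y', a', φ', pr, g, hc, hy, h.sections⟩) hφ

theorem isLocalOnTarget_isGeomQuot :
    IsLocalOnTarget (G := G) (S := S) (fun _ _ a' φ' => GIT.IsGeomQuot a' φ') := by
  intro X Y a φ hφ H
  refine isGeomQuot_of_charts hφ fun y => ?_
  obtain ⟨V, hyV, HV⟩ := H y
  obtain ⟨a', ha'⟩ := exists_aW a φ hφ V
  have hr : Set.range (inc Y V).left = (V : Set Y.left) := Scheme.Opens.range_ι _
  refine ⟨_, _, a', phiW φ V, inc X _, inc Y V, ⟨inferInstance, isPullback_phiW φ V, ha'⟩, ?_, ?_⟩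
  · rw [hr]; exact hyV
  · exact HV (inc X _) (phiW φ V) (inc Y V) inferInstance (by rw [hr]) (isPullback_phiW φ V) a' ha'
      (isInvariant_phiW hφ ha')

/-- Being a universal geometric quotient can be checked on charts. -/
theorem isUnivGeomQuot_of_charts {a : AlgGrp.Action G X} {φ : X ⟶ Y} (hφ : GIT.IsInvariant a φ)
    (H : ∀ y : Y.left, ∃ (X₁ Y₁ : Over S) (a₁ : AlgGrp.Action G X₁) (φ₁ : X₁ ⟶ Y₁) (pr₁ : X₁ ⟶ X)
      (g₁ : Y₁ ⟶ Y), Chart a φ a₁ φ₁ pr₁ g₁ ∧ y ∈ Set.range g₁.left ∧ GIT.IsUnivGeomQuot a₁ φ₁) :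
    GIT.IsUnivGeomQuot a φ := by
  have h1 := of_charts (fun _ _ a' φ' => GIT.IsGeomQuot a' φ') isLocalOnTarget_isGeomQuot
    (⊤ : MorphismProperty Scheme.{u}) le_top hφ (fun y => by
      obtain ⟨X₁, Y₁, a₁, φ₁, pr₁, g₁, hc, hy, h⟩ := H y
      exact ⟨X₁, Y₁, a₁, φ₁, pr₁, g₁, hc, hy, fun X' Y' pr φ' g _ => h.2 pr φ' g trivial⟩)
  exact ⟨h1.1, fun X' Y' pr φ' g _ => h1.2 pr φ' g trivial⟩

/-- A universal geometric quotient is a uniform one. -/
theorem isUnifGeomQuot_of_univ {a : AlgGrp.Action G X} {φ : X ⟶ Y}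
    (h : GIT.IsUnivGeomQuot a φ) : GIT.IsUnifGeomQuot a φ :=
  ⟨h.1, fun _ _ pr φ' g _ => h.2 pr φ' g trivial⟩

end K689.LocGeom
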