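import Groth.Agent.GIT.K689.LinBunBasic

/-!
# Pull-back of linearised line bundles along equivariant morphisms
-/

set_option autoImplicit false

universe u

open CategoryTheory CategoryTheory.Limits MonoidalCategory CartesianMonoidalCategory MonObj GrpObj AlgebraicGeometry
  TopologicalSpace Opposite

namespace K689.PullBun

open K689.SchGlue K689.Coord K689.CoordUP K689.Weight K689.Ratio K689.ActBasic K689.LinBunBasic

theorem appLE_appLE {T' T Z : Scheme.{u}} (g : T' ⟶ T) (f : T ⟶ Z) {O : Z.Opens} {W : T.Opens} {W' : T'.Opens}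
    (h : W ≤ f ⁻¹ᵁ O) (h' : W' ≤ g ⁻¹ᵁ W) (h'' : W' ≤ (g ≫ f) ⁻¹ᵁ O) (y : Γ(Z, O)) :
    g.appLE W W' h' (f.appLE O W h y) = (g ≫ f).appLE O W' h'' y := by
  have := Scheme.Hom.appLE_comp_appLE g f O W W' h h'
  exact congrArg (fun φ => φ.hom y) this

theorem appLE_hom_congr {T Z : Scheme.{u}} {f f' : T ⟶ Z} (e : f = f') {O : Z.Opens} {W : T.Opens}
    (h : W ≤ f ⁻¹ᵁ O) (h' : W ≤ f' ⁻¹ᵁ O) (y : Γ(Z, O)) : f.appLE O W h y = f'.appLE O W h' y := by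
  subst e; rfl

theorem appLE_rsec {T Z : Scheme.{u}} (f : T ⟶ Z) {O O' : Z.Opens} {W : T.Opens} (hO : O' ≤ O)
    (h : W ≤ f ⁻¹ᵁ O') (h' : W ≤ f ⁻¹ᵁ O) (y : Γ(Z, O)) : f.appLE O' W h (rsec hO y) = f.appLE O W h' y := by
  simp only [rsec]
  rw [← CommRingCat.comp_apply, Scheme.Hom.map_appLE]

theorem rsec_appLE {T Z : Scheme.{u}} (f : T ⟶ Z) {O : Z.Opens} {W W' : T.Opens} (hW : W' ≤ W)
    (h : W ≤ f ⁻¹ᵁ O) (h' : W' ≤ f ⁻¹ᵁ O) (y : Γ(Z, O)) : rsec hW (f.appLE O W h y) = f.appLE O W' h' y := by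
  simp only [rsec]
  rw [← CommRingCat.comp_apply, Scheme.Hom.appLE_map]

theorem app_appLE {T' T Z : Scheme.{u}} (g : T' ⟶ T) (f : T ⟶ Z) {O : Z.Opens} {W' : T'.Opens}
    (h : W' ≤ g ⁻¹ᵁ (f ⁻¹ᵁ O)) (h' : W' ≤ (g ≫ f) ⁻¹ᵁ O) (y : Γ(Z, O)) :
    g.appLE (f ⁻¹ᵁ O) W' h (f.app O y) = (g ≫ f).appLE O W' h' y := by
  have := Scheme.Hom.comp_appLE g f O W' h'
  exact (congrArg (fun φ => φ.hom y) this).symm

theorem appLE_self_app {T Z : Scheme.{u}} (f : T ⟶ Z) {O : Z.Opens} (h : f ⁻¹ᵁ O ≤ f ⁻¹ᵁ O) (y : Γ(Z, O)) :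
    f.appLE O (f ⁻¹ᵁ O) h y = f.app O y := by
  rw [Scheme.Hom.appLE_eq_app]

variable {S : Scheme.{u}} {G X X' : Over S} [GrpObj G] {a : AlgGrp.Action G X} (a' : AlgGrp.Action G X')
  (h : X' ⟶ X) (he : a'.act ≫ h = (G ◁ h) ≫ a.act) (B : GLinSh.LinBun G a)

/-- the total space -/
noncomputable abbrev pV : Over S := pullback B.π h

/-- the map to the original total space -/
noncomputable abbrev pq : pV h B ⟶ B.V := pullback.fst B.π h

/-- the projection -/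
noncomputable abbrev pπ : pV h B ⟶ X' := pullback.snd B.π h

theorem isPullback_left : IsPullback (pq h B).left (pπ h B).left B.π.left h.left :=
  (IsPullback.of_hasPullback B.π h).map (Over.forget S)

instance isAffineHom_pπ : IsAffineHom (pπ h B).left :=
  MorphismProperty.of_isPullback (isPullback_left h B) inferInstance

theorem ple {U : X.left.Opens} {U' : X'.left.Opens} (hU : U' ≤ h.left ⁻¹ᵁ U) :
    (pπ h B).left ⁻¹ᵁ U' ≤ (pq h B).left ⁻¹ᵁ (B.π.left ⁻¹ᵁ U) := by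
  intro v hv
  change (pq h B ≫ B.π).left v ∈ U
  rw [pullback.condition]
  exact hU hv

/-- the charts -/
def pchart (U' : X'.left.Opens) : Set (Γ((pV h B).left, (pπ h B).left ⁻¹ᵁ U')) :=
  {y' | ∃ (U : X.left.Opens) (hU : U' ≤ h.left ⁻¹ᵁ U) (y : Γ(B.V.left, B.π.left ⁻¹ᵁ U)), y ∈ B.atlas.chart U ∧
    y' = (pq h B).left.appLE (B.π.left ⁻¹ᵁ U) ((pπ h B).left ⁻¹ᵁ U') (ple h B hU) y}

noncomputable def patlas : GLinSh.LinAtlas (pπ h B) where
  affine := inferInstance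
  chart := pchart h B
  cover := by
    intro x
    obtain ⟨U, hxU, y, hy⟩ := B.atlas.cover (h.left x)
    exact ⟨h.left ⁻¹ᵁ U, hxU, _, U, le_rfl, y, hy, rfl⟩
  coord := by
    rintro U' _ ⟨U, hU, y, hy, rfl⟩
    exact IsCoord.baseChange ((B.atlas.coord U y hy : IsCoord B.π.left U y)) (isPullback_left h B) U' hU (ple h B hU)
  linear := by
    rintro U₁' U₂' _ _ ⟨U₁, hU₁, y₁, hy₁, rfl⟩ ⟨U₂, hU₂, y₂, hy₂, rfl⟩
    obtain ⟨c, hc, e⟩ := B.atlas.linear U₁ U₂ y₁ y₂ hy₁ hy₂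
    have hle : U₁' ⊓ U₂' ≤ h.left ⁻¹ᵁ (U₁ ⊓ U₂) := fun x hx => ⟨hU₁ hx.1, hU₂ hx.2⟩
    refine ⟨h.left.appLE (U₁ ⊓ U₂) (U₁' ⊓ U₂') hle c, hc.map _, ?_⟩
    have e' := congrArg ((pq h B).left.appLE (B.π.left ⁻¹ᵁ (U₁ ⊓ U₂)) ((pπ h B).left ⁻¹ᵁ (U₁' ⊓ U₂'))
      (ple h B hle)) e
    rw [map_mul] at e'
    have k1 : (pq h B).left.appLE (B.π.left ⁻¹ᵁ (U₁ ⊓ U₂)) ((pπ h B).left ⁻¹ᵁ (U₁' ⊓ U₂'))
        (ple h B hle) (GLinSh.res B.π inf_le_right y₂) =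
        (pq h B).left.appLE (B.π.left ⁻¹ᵁ U₂) ((pπ h B).left ⁻¹ᵁ (U₁' ⊓ U₂'))
          (ple h B (inf_le_right.trans hU₂)) y₂ :=
      appLE_rsec _ _ _ _ _
    have k2 : (pq h B).left.appLE (B.π.left ⁻¹ᵁ (U₁ ⊓ U₂)) ((pπ h B).left ⁻¹ᵁ (U₁' ⊓ U₂'))
        (ple h B hle) (GLinSh.res B.π inf_le_left y₁) =
        (pq h B).left.appLE (B.π.left ⁻¹ᵁ U₁) ((pπ h B).left ⁻¹ᵁ (U₁' ⊓ U₂'))
          (ple h B (inf_le_left.trans hU₁)) y₁ :=
      appLE_rsec _ _ _ _ _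
    have k3 : (pq h B).left.appLE (B.π.left ⁻¹ᵁ (U₁ ⊓ U₂)) ((pπ h B).left ⁻¹ᵁ (U₁' ⊓ U₂'))
        (ple h B hle) (B.π.left.app (U₁ ⊓ U₂) c) =
        (pπ h B).left.app (U₁' ⊓ U₂') (h.left.appLE (U₁ ⊓ U₂) (U₁' ⊓ U₂') hle c) := by
      have hw : (pq h B).left ≫ B.π.left = (pπ h B).left ≫ h.left := (isPullback_left h B).w
      have l1 : (pπ h B).left ⁻¹ᵁ (U₁' ⊓ U₂') ≤ ((pq h B).left ≫ B.π.left) ⁻¹ᵁ (U₁ ⊓ U₂) := ple h B hle
      have l2 : (pπ h B).left ⁻¹ᵁ (U₁' ⊓ U₂') ≤ ((pπ h B).left ≫ h.left) ⁻¹ᵁ (U₁ ⊓ U₂) :=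
        (pπ h B).left.preimage_mono hle
      rw [app_appLE _ _ _ l1]
      rw [appLE_hom_congr hw l1 l2]
      have := appLE_appLE (pπ h B).left h.left hle (le_refl ((pπ h B).left ⁻¹ᵁ (U₁' ⊓ U₂'))) l2 c
      rw [← this, appLE_self_app]
    rw [k1, k2, k3] at e'
    have k4 : GLinSh.res (pπ h B) (inf_le_right : U₁' ⊓ U₂' ≤ U₂')
        ((pq h B).left.appLE (B.π.left ⁻¹ᵁ U₂) ((pπ h B).left ⁻¹ᵁ U₂') (ple h B hU₂) y₂) =
        (pq h B).left.appLE (B.π.left ⁻¹ᵁ U₂) ((pπ h B).left ⁻¹ᵁ (U₁' ⊓ U₂'))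
          (ple h B (inf_le_right.trans hU₂)) y₂ := rsec_appLE _ _ _ _ _
    have k5 : GLinSh.res (pπ h B) (inf_le_left : U₁' ⊓ U₂' ≤ U₁')
        ((pq h B).left.appLE (B.π.left ⁻¹ᵁ U₁) ((pπ h B).left ⁻¹ᵁ U₁') (ple h B hU₁) y₁) =
        (pq h B).left.appLE (B.π.left ⁻¹ᵁ U₁) ((pπ h B).left ⁻¹ᵁ (U₁' ⊓ U₂'))
          (ple h B (inf_le_left.trans hU₁)) y₁ := rsec_appLE _ _ _ _ _
    rw [k4, k5]
    exact e'

/-- the action morphism on the total space -/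
noncomputable def pact : G ⊗ pV h B ⟶ pV h B :=
  pullback.lift ((G ◁ pq h B) ≫ B.lift.act) ((G ◁ pπ h B) ≫ a'.act) (by
    rw [Category.assoc, B.lift_π, Category.assoc, he, ← Category.assoc, ← Category.assoc, ← whiskerLeft_comp,
      ← whiskerLeft_comp, pullback.condition])

theorem pact_q : pact a' h he B ≫ pq h B = (G ◁ pq h B) ≫ B.lift.act := pullback.lift_fst _ _ _

theorem pact_π : pact a' h he B ≫ pπ h B = (G ◁ pπ h B) ≫ a'.act := pullback.lift_snd _ _ _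

/-- the action on the total space -/
noncomputable def plift : AlgGrp.Action G (pV h B) where
  act := pact a' h he B
  one_act := by
    apply pullback.hom_ext
    · rw [Category.assoc, pact_q, ← Category.assoc, ← whisker_exchange, Category.assoc, B.lift.one_act]
      simp
    · rw [Category.assoc, pact_π, ← Category.assoc, ← whisker_exchange, Category.assoc, a'.one_act]
      simp
  mul_act := by
    apply pullback.hom_ext
    · rw [Category.assoc, pact_q, ← Category.assoc, ← whisker_exchange, Category.assoc, B.lift.mul_act]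
      simp only [Category.assoc]
      rw [pact_q, ← MonoidalCategory.whiskerLeft_comp_assoc, pact_q, MonoidalCategory.whiskerLeft_comp_assoc,
        associator_naturality_right_assoc]
    · rw [Category.assoc, pact_π, ← Category.assoc, ← whisker_exchange, Category.assoc, a'.mul_act]
      simp only [Category.assoc]
      rw [pact_π, ← MonoidalCategory.whiskerLeft_comp_assoc, pact_π, MonoidalCategory.whiskerLeft_comp_assoc,
        associator_naturality_right_assoc]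

/-- the pulled back linearised line bundle -/
noncomputable def pull : GLinSh.LinBun G a' where
  V := pV h B
  π := pπ h B
  atlas := patlas h B
  lift := plift a' h he B
  lift_π := pact_π a' h he B
  lift_linear := by
    rintro U₁' U₂' _ _ ⟨U₁, hU₁, y₁, hy₁, rfl⟩ ⟨U₂, hU₂, y₂, hy₂, rfl⟩
    obtain ⟨c, e⟩ := B.lift_linear U₁ U₂ y₁ y₂ hy₁ hy₂
    -- the base open of `G ⊗ X'` maps to the one of `G ⊗ X`
    have hb : a'.act.left ⁻¹ᵁ U₂' ⊓ (snd G X').left ⁻¹ᵁ U₁' ≤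
        (G ◁ h).left ⁻¹ᵁ (a.act.left ⁻¹ᵁ U₂ ⊓ (snd G X).left ⁻¹ᵁ U₁) := by
      intro z hz
      refine ⟨?_, ?_⟩
      · change ((G ◁ h) ≫ a.act).left z ∈ U₂
        rw [← he]
        exact hU₂ hz.1
      · change ((G ◁ h) ≫ snd G X).left z ∈ U₁
        rw [whiskerLeft_snd]
        exact hU₁ hz.2
    refine ⟨(G ◁ h).left.appLE _ _ hb c, ?_⟩
    have hl : GLinSh.liftOpen a' (pπ h B) U₁' U₂' ≤ (G ◁ pq h B).left ⁻¹ᵁ (GLinSh.liftOpen a B.π U₁ U₂) := by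
      intro w hw
      have e1 : (G ◁ pq h B) ≫ (G ◁ B.π) = (G ◁ pπ h B) ≫ (G ◁ h) := by
        rw [← MonoidalCategory.whiskerLeft_comp, ← MonoidalCategory.whiskerLeft_comp, pullback.condition]
      refine ⟨?_, ?_⟩
      · change ((G ◁ pq h B) ≫ (G ◁ B.π) ≫ a.act).left w ∈ U₂
        rw [reassoc_of% e1, ← he]
        exact hU₂ hw.1
      · change ((G ◁ pq h B) ≫ (G ◁ B.π) ≫ snd G X).left w ∈ U₁
        rw [reassoc_of% e1, whiskerLeft_snd]
        exact hU₁ hw.2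
    have e' := congrArg ((G ◁ pq h B).left.appLE (GLinSh.liftOpen a B.π U₁ U₂)
      (GLinSh.liftOpen a' (pπ h B) U₁' U₂') hl) e
    rw [map_mul] at e'
    -- identify the three terms
    have m1 : (G ◁ pq h B).left ≫ B.lift.act.left = (pact a' h he B).left ≫ (pq h B).left := by
      rw [← Over.comp_left, ← Over.comp_left, pact_q]
    have m2 : (G ◁ pq h B).left ≫ (G ◁ B.π).left = (G ◁ pπ h B).left ≫ (G ◁ h).left := by
      rw [← Over.comp_left, ← Over.comp_left, ← MonoidalCategory.whiskerLeft_comp,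
        ← MonoidalCategory.whiskerLeft_comp, pullback.condition]
    have m3 : (G ◁ pq h B).left ≫ (snd G B.V).left = (snd G (pV h B)).left ≫ (pq h B).left := by
      rw [← Over.comp_left, ← Over.comp_left, whiskerLeft_snd]
    have q1 : GLinSh.liftOpen a' (pπ h B) U₁' U₂' ≤ ((G ◁ pq h B).left ≫ B.lift.act.left) ⁻¹ᵁ (B.π.left ⁻¹ᵁ U₂) :=
      hl.trans ((G ◁ pq h B).left.preimage_mono (GLinSh.liftOpen_le_act a B.π B.lift B.lift_π))
    have q2 : GLinSh.liftOpen a' (pπ h B) U₁' U₂' ≤ ((G ◁ pq h B).left ≫ (G ◁ B.π).left) ⁻¹ᵁ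
        (a.act.left ⁻¹ᵁ U₂ ⊓ (snd G X).left ⁻¹ᵁ U₁) :=
      hl.trans ((G ◁ pq h B).left.preimage_mono (GLinSh.liftOpen_le_base a B.π))
    have q3 : GLinSh.liftOpen a' (pπ h B) U₁' U₂' ≤ ((G ◁ pq h B).left ≫ (snd G B.V).left) ⁻¹ᵁ (B.π.left ⁻¹ᵁ U₁) :=
      hl.trans ((G ◁ pq h B).left.preimage_mono (GLinSh.liftOpen_le_snd a B.π))
    have q1' : GLinSh.liftOpen a' (pπ h B) U₁' U₂' ≤ ((pact a' h he B).left ≫ (pq h B).left) ⁻¹ᵁ
        (B.π.left ⁻¹ᵁ U₂) := by rw [← m1]; exact q1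
    have q2' : GLinSh.liftOpen a' (pπ h B) U₁' U₂' ≤ ((G ◁ pπ h B).left ≫ (G ◁ h).left) ⁻¹ᵁ
        (a.act.left ⁻¹ᵁ U₂ ⊓ (snd G X).left ⁻¹ᵁ U₁) := by rw [← m2]; exact q2
    have q3' : GLinSh.liftOpen a' (pπ h B) U₁' U₂' ≤ ((snd G (pV h B)).left ≫ (pq h B).left) ⁻¹ᵁ
        (B.π.left ⁻¹ᵁ U₁) := by rw [← m3]; exact q3
    have t1 := (appLE_appLE _ _ (GLinSh.liftOpen_le_act a B.π B.lift B.lift_π (U := U₁) (U' := U₂)) hl q1 y₂).trans
      (appLE_hom_congr m1 q1 q1' y₂)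
    have t2 := (appLE_appLE _ _ (GLinSh.liftOpen_le_base a B.π (U := U₁) (U' := U₂)) hl q2 c).trans
      (appLE_hom_congr m2 q2 q2' c)
    have t3 := (appLE_appLE _ _ (GLinSh.liftOpen_le_snd a B.π (U := U₁) (U' := U₂)) hl q3 y₁).trans
      (appLE_hom_congr m3 q3 q3' y₁)
    have r1 := appLE_appLE (pact a' h he B).left (pq h B).left (ple h B hU₂)
      (GLinSh.liftOpen_le_act a' (pπ h B) (plift a' h he B) (pact_π a' h he B) (U := U₁') (U' := U₂')) q1' y₂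
    have r2 := appLE_appLE (G ◁ pπ h B).left (G ◁ h).left hb (GLinSh.liftOpen_le_base a' (pπ h B)) q2' c
    have r3 := appLE_appLE (snd G (pV h B)).left (pq h B).left (ple h B hU₁)
      (GLinSh.liftOpen_le_snd a' (pπ h B) (U := U₁') (U' := U₂')) q3' y₁
    rw [t1, t2, t3] at e'
    exact (r1.trans e').trans (congrArg₂ (· * ·) r2.symm r3.symm)

@[simp] theorem pull_V : (pull a' h he B).V = pV h B := rfl

theorem pull_act : (pull a' h he B).lift.act = pact a' h he B := rfl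

theorem pull_chart (U' : X'.left.Opens) : (pull a' h he B).atlas.chart U' = pchart h B U' := rfl


end K689.PullBun
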