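import Groth.Agent.GIT.K689.Satur
import Groth.Agent.GIT.K686.Whisk
import Groth.Agent.Flat2H.FamOpen

/-!
# The geometric quotient of the stable locus
-/

set_option autoImplicit false

universe u

open CategoryTheory CategoryTheory.Limits MonoidalCategory CartesianMonoidalCategory MonObj AlgebraicGeometry
  TopologicalSpace Topology

namespace K689.Quot714

open K689.SchGlue K689.Coord K689.CoordUP K689.Weight K689.Ratio K689.ActBasic K689.LinBunBasic K689.PullBun
  K689.Compat K689.InvRatio K688.ActRes K688.QuotLocal K689.Ifc K689.LocGeom K689.QuotFib K689.Satur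

section Gen

variable {S : Scheme.{u}} {G X X' : Over S} [GrpObj G] {a : AlgGrp.Action G X} {a' : AlgGrp.Action G X'}

theorem psi_whisker (j : X' ⟶ X) (hj : a'.act ≫ j = (G ◁ j) ≫ a.act) {T : Over S} (f : T ⟶ X') :
    GIT.psi a (f ≫ j) = GIT.psi a' f ≫ (j ▷ T) := by
  ext1
  · simp [GIT.psi, hj]
  · simp [GIT.psi]

/-- closed orbits on an open and the action on it -/
theorem isClosedAction_of_closedOrbitsOn (j : X' ⟶ X) (hj : a'.act ≫ j = (G ◁ j) ≫ a.act) [IsOpenImmersion j.left]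
    (O : X.left.Opens) (hO : Set.range j.left ⊆ (O : Set X.left)) (h : GLinSh.ClosedOrbitsOn a O) :
    GIT.IsClosedAction a' := by
  intro Ω _ _ T e f
  have h1 := h Ω T e (f ≫ j) (by
    rw [Over.comp_left]
    rintro _ ⟨z, rfl⟩
    exact hO ⟨f.left z, rfl⟩)
  have hpb := K686.Whisk.isPullback_whiskerRight_left j T
  have hop : IsOpenImmersion (j ▷ T).left := MorphismProperty.of_isPullback hpb.flip inferInstance
  have hrange : Set.range (GIT.psi a' f).left = (j ▷ T).left ⁻¹' Set.range (GIT.psi a (f ≫ j)).left := by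
    rw [psi_whisker j hj f, Over.comp_left]
    ext z
    constructor
    · rintro ⟨w, rfl⟩
      exact ⟨w, Scheme.Hom.comp_apply _ _ _⟩
    · rintro ⟨w, hw⟩
      refine ⟨w, (j ▷ T).left.isOpenEmbedding.injective ?_⟩
      rw [← hw, Scheme.Hom.comp_apply]
  have hle : ∀ z : (X' ⊗ T).left, (j ▷ T).left z ∈ (fst X T).left ⁻¹ᵁ O := by
    intro z
    change (fst X T).left ((j ▷ T).left z) ∈ O
    rw [← Scheme.Hom.comp_apply, hpb.w, Scheme.Hom.comp_apply]
    exact hO ⟨_, rfl⟩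
  let m : (X' ⊗ T).left → (fst X T).left ⁻¹ᵁ O := fun z => ⟨(j ▷ T).left z, hle z⟩
  have hm : Continuous m := (j ▷ T).left.continuous.subtype_mk _
  have h2 := h1.preimage hm
  change IsClosed (Set.range (GIT.psi a' f).left)
  rw [hrange]
  exact h2

/-- the converse -/
theorem closedOrbitsOn_of_isClosedAction (j : X' ⟶ X) (hj : a'.act ≫ j = (G ◁ j) ≫ a.act) [IsOpenImmersion j.left]
    (O : X.left.Opens) (hO : (O : Set X.left) ⊆ Set.range j.left) (h : GIT.IsClosedAction a') :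
    GLinSh.ClosedOrbitsOn a O := by
  intro Ω _ _ T e f hf
  have hr : Set.range f.left ⊆ Set.range j.left := hf.trans hO
  let f' : T ⟶ X' := Over.homMk (IsOpenImmersion.lift j.left f.left hr) (by
    rw [← Over.w j, ← Category.assoc, IsOpenImmersion.lift_fac, Over.w])
  have hf' : f' ≫ j = f := by
    ext1
    exact IsOpenImmersion.lift_fac _ _ _
  have h1 := h Ω T e f'
  have hpb := K686.Whisk.isPullback_whiskerRight_left j T
  have hop : IsOpenImmersion (j ▷ T).left := MorphismProperty.of_isPullback hpb.flip inferInstance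
  rw [← hf', psi_whisker j hj f', Over.comp_left]
  have hrg : Set.range ((GIT.psi a' f').left ≫ (j ▷ T).left) = (j ▷ T).left '' Set.range (GIT.psi a' f').left := by
    rw [← Set.range_comp]; rfl
  -- the complement of the image is closed in the preimage of `O`
  have hsub : ∀ p : (fst X T).left ⁻¹ᵁ O, ∃ z, (j ▷ T).left z = p.1 := by
    intro p
    obtain ⟨x', hx'⟩ := hO p.2
    obtain ⟨z, hz, -⟩ := exists_point hpb p.1 x' hx'.symm
    exact ⟨z, hz⟩
  have hopen : IsOpen ((j ▷ T).left '' (Set.range (GIT.psi a' f').left)ᶜ) :=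
    (j ▷ T).left.isOpenEmbedding.isOpenMap _ h1.isOpen_compl
  have heq : ((fun p : (fst X T).left ⁻¹ᵁ O => (p : (X ⊗ T).left)) ⁻¹'
      Set.range ((GIT.psi a' f').left ≫ (j ▷ T).left).base)ᶜ =
      (fun p : (fst X T).left ⁻¹ᵁ O => (p : (X ⊗ T).left)) ⁻¹'
        ((j ▷ T).left '' (Set.range (GIT.psi a' f').left)ᶜ) := by
    ext p
    obtain ⟨z, hz⟩ := hsub p
    constructor
    · intro hp
      refine ⟨z, fun hz' => hp ?_, hz⟩
      have : p.1 ∈ (j ▷ T).left '' Set.range (GIT.psi a' f').left := ⟨z, hz', hz⟩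
      rw [← hrg] at this
      exact this
    · rintro ⟨z', hz', hz''⟩ hp
      have : p.1 ∈ (j ▷ T).left '' Set.range (GIT.psi a' f').left := by
        rw [← hrg]; exact hp
      obtain ⟨z₂, hz₂, hz₃⟩ := this
      have : z' = z₂ := (j ▷ T).left.isOpenEmbedding.injective (hz''.trans hz₃.symm)
      exact hz' (this ▸ hz₂)
  rw [← isOpen_compl_iff, heq]
  exact hopen.preimage continuous_subtype_val

theorem isUnivSubmersive_comp_iso {X Y Z : Scheme.{u}} {f : X ⟶ Y} (e : Y ⟶ Z) [IsIso e]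
    (h : GIT.IsUnivSubmersive f) : GIT.IsUnivSubmersive (f ≫ e) :=
  (MorphismProperty.cancel_right_of_respectsIso (MorphismProperty.universally (topologically @IsQuotientMap)) f e).2 h

end Gen

section Red

variable {k : Type u} [Field k] [CharZero k] {G X : Over (Spec (CommRingCat.of k))} [GrpObj G]
  {a : AlgGrp.Action G X} {B : GLinSh.LinBun G a}

/-- the properties of any categorical quotient of the semi-stable locus -/
structure Props (B : GLinSh.LinBun G a) {XU Y : Over (Spec (CommRingCat.of k))} (aU : AlgGrp.Action G XU) (jU : XU ⟶ X)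
    (φ : XU ⟶ Y) : Prop where
  act : aU.act ≫ jU = (G ◁ jU) ≫ a.act
  ss : Set.range jU.left = B.ssLocus
  openImm : IsOpenImmersion jU.left
  quot : GIT.IsUnivCatQuot aU φ
  aff : IsAffineHom φ.left
  subm : GIT.IsUnivSubmersive φ.left
  sep : IsSeparated Y.hom
  lft : LocallyOfFiniteType Y.hom
  ample : ∃ M : Y.left.Modules, CohB1.IsAmple M

theorem props (h31 : St11431.{u}) (h13 : St14713.{u}) (hG : Red.IsReductive G)
    [LocallyOfFiniteType X.hom] [QuasiCompact X.hom] (U : X.left.Opens) (hU : (U : Set X.left) = B.ssLocus)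
    (aU : AlgGrp.Action G (Over.mk (U.ι ≫ X.hom)))
    (jU : Over.mk (U.ι ≫ X.hom) ⟶ X) (hjU : jU.left = U.ι)
    (haU : aU.act ≫ jU = (G ◁ jU) ≫ a.act)
    (Y : Over (Spec (CommRingCat.of k))) (φ : Over.mk (U.ι ≫ X.hom) ⟶ Y) (hφ : GIT.IsCatQuot aU φ) :
    Props B aU jU φ := by
  obtain ⟨Y', φ', h1, h2, h3, h4, h5, M, hM⟩ := h13 k G X hG a B U hU aU jU hjU haU
  obtain ⟨e, he⟩ := K688.QuotGlue.exists_iso h1.1 hφ
  have hi : IsIso e.hom.left := inferInstanceAs (IsIso ((Over.forget _).map e.hom))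
  have hi' : IsIso e.inv.left := inferInstanceAs (IsIso ((Over.forget _).map e.inv))
  have hYh : Y.hom = e.inv.left ≫ Y'.hom := (Over.w e.inv).symm
  have h1' : GIT.IsUnifCatQuot aU φ := by rw [← he]; exact isUnifCatQuot_iso h1 e
  have h2' : IsAffineHom φ.left := by
    rw [← he, Over.comp_left]; infer_instance
  refine ⟨haU, ?_, ?_, isUnivCatQuot_of_unif h31 hG h1', h2', ?_, ?_, ?_, ?_⟩
  · rw [hjU, Scheme.Opens.range_ι, hU]
  · rw [hjU]; infer_instance
  · rw [← he, Over.comp_left]; exact isUnivSubmersive_comp_iso _ h3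
  · rw [hYh]; infer_instance
  · rw [hYh]; infer_instance
  · exact ⟨_, Groth.Agent.Flat2H.FamOpen.isAmple_pullback_of_isAffineHom e.inv.left hM⟩

variable {XU Y : Over (Spec (CommRingCat.of k))} {aU : AlgGrp.Action G XU} {jU : XU ⟶ X} {φ : XU ⟶ Y}

/-- the open of the quotient corresponding to `X_s` -/
theorem Props.exists_open (P : Props B aU jU φ) (h31 : St11431.{u}) (h32 : St11432.{u}) (hG : Red.IsReductive G)
    {n : ℕ} (hn : 1 ≤ n) {s : Γ(B.V.left, ⊤)} (hs : B.IsInvSection n s) :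
    ∃ Ys : Y.left.Opens, ((φ.left ⁻¹ᵁ Ys : XU.left.Opens) : Set XU.left) =
      jU.left ⁻¹' GLinSh.nonvanishing B.π s := by
  have := P.aff
  have hss : ∀ z : XU.left, jU.left z ∈ B.ssLocus := fun z => by rw [← P.ss]; exact ⟨z, rfl⟩
  have hq : IsQuotientMap φ.left := K686.Basic.isQuotientMap_of_isUnivSubmersive P.subm
  have hsat : φ.left ⁻¹' (φ.left '' (jU.left ⁻¹' GLinSh.nonvanishing B.π s)) =
      jU.left ⁻¹' GLinSh.nonvanishing B.π s := by
    apply Set.Subset.antisymm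
    · rintro x₂ ⟨x₁, hx₁, hx⟩
      exact nonvanishing_of_eq B h31 h32 hG jU P.act hss P.quot hn hs x₁ x₂ hx hx₁
    · exact Set.subset_preimage_image _ _
  have hopen : IsOpen (φ.left '' (jU.left ⁻¹' GLinSh.nonvanishing B.π s)) := by
    rw [← hq.isOpen_preimage, hsat]
    exact (isOpen_nonvanishing hs.1).preimage jU.left.continuous
  exact ⟨⟨_, hopen⟩, hsat⟩

/-- over `Y_s` with `s` as in the definition of a stable point the quotient is geometric -/
theorem Props.isUnivGeomQuot (P : Props B aU jU φ) (h33 : St11433.{u})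
    (hG : Red.IsReductive G) {s : Γ(B.V.left, ⊤)}
    {Xs : X.left.Opens} (hXs : (Xs : Set X.left) = GLinSh.nonvanishing B.π s) (haff : IsAffineOpen Xs)
    (hcl : GLinSh.ClosedOrbitsOn a Xs) (hle : (Xs : Set X.left) ⊆ Set.range jU.left) (Ys : Y.left.Opens)
    (hYs : ((φ.left ⁻¹ᵁ Ys : XU.left.Opens) : Set XU.left) = jU.left ⁻¹' GLinSh.nonvanishing B.π s)
    {as : AlgGrp.Action G (op XU (φ.left ⁻¹ᵁ Ys))} (has : as.act ≫ inc XU _ = (G ◁ inc XU _) ≫ aU.act) :
    GIT.IsUnivGeomQuot as (phiW φ Ys) := by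
  have := P.openImm
  have h1 : GIT.IsCatQuot as (phiW φ Ys) :=
    P.quot.2 (inc XU _) (phiW φ Ys) (inc Y Ys) trivial (isPullback_phiW φ Ys) as has
      (isInvariant_phiW P.quot.1.1 has)
  have heq : φ.left ⁻¹ᵁ Ys = jU.left ⁻¹ᵁ Xs := by
    ext x
    have h2 : x ∈ ((φ.left ⁻¹ᵁ Ys : XU.left.Opens) : Set XU.left) ↔ jU.left x ∈ (Xs : Set X.left) := by
      rw [hYs, hXs]; rfl
    exact h2
  have haff' : IsAffineOpen (φ.left ⁻¹ᵁ Ys) := by
    rw [heq]
    exact haff.preimage_of_isOpenImmersion jU.left hle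
  have : IsAffine (op XU (φ.left ⁻¹ᵁ Ys)).left := haff'
  have : IsOpenImmersion (inc XU (φ.left ⁻¹ᵁ Ys) ≫ jU).left := by
    rw [Over.comp_left]; infer_instance
  have h3 : GIT.IsClosedAction as := isClosedAction_of_closedOrbitsOn (inc XU _ ≫ jU)
    (by rw [← Category.assoc, has, Category.assoc, P.act, MonoidalCategory.whiskerLeft_comp_assoc]) Xs
    (by
      rintro _ ⟨z, rfl⟩
      rw [Over.comp_left, Scheme.Hom.comp_apply, hXs]
      have : (inc XU (φ.left ⁻¹ᵁ Ys)).left z ∈ ((φ.left ⁻¹ᵁ Ys : XU.left.Opens) : Set XU.left) := by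
        have h4 : Set.range (inc XU (φ.left ⁻¹ᵁ Ys)).left = ((φ.left ⁻¹ᵁ Ys : XU.left.Opens) : Set XU.left) :=
          Scheme.Opens.range_ι _
        rw [← h4]; exact ⟨z, rfl⟩
      rw [hYs] at this
      exact this) hcl
  exact (h33 k G _ _ hG as (phiW φ Ys) h1).2 h3

/-- the main statement for the stable locus -/
theorem Props.stable (P : Props B aU jU φ) (h31 : St11431.{u}) (h32 : St11432.{u}) (h33 : St11433.{u})
    (hG : Red.IsReductive G) {XS : Over (Spec (CommRingCat.of k))} {aS : AlgGrp.Action G XS} {jS : XS ⟶ XU}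
    (haS : aS.act ≫ jS = (G ◁ jS) ≫ aU.act) [IsOpenImmersion jS.left]
    (hjS : Set.range (jS ≫ jU).left = B.sLocus) :
    ∃ (Yt : Y.left.Opens) (φs : XS ⟶ op Y Yt), φs ≫ inc Y Yt = jS ≫ φ ∧
      ((φ.left ⁻¹ᵁ Yt : XU.left.Opens) : Set XU.left) = Set.range jS.left ∧ GIT.IsUnivGeomQuot aS φs := by
  have := P.openImm
  have hinj : Function.Injective jU.left := jU.left.isOpenEmbedding.injective
  -- the data of stable sections
  let I := {p : ℕ × Γ(B.V.left, ⊤) // 1 ≤ p.1 ∧ B.IsInvSection p.1 p.2 ∧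
    ∃ O : X.left.Opens, (O : Set X.left) = GLinSh.nonvanishing B.π p.2 ∧ IsAffineOpen O ∧ GLinSh.ClosedOrbitsOn a O}
  have hI : ∀ i : I, ∃ Ys : Y.left.Opens, ((φ.left ⁻¹ᵁ Ys : XU.left.Opens) : Set XU.left) =
      jU.left ⁻¹' GLinSh.nonvanishing B.π i.1.2 := fun i => P.exists_open h31 h32 hG i.2.1 i.2.2.1
  choose Ys hYs using hI
  have hst : ∀ x, x ∈ B.sLocus ↔ ∃ i : I, x ∈ GLinSh.nonvanishing B.π i.1.2 := by
    intro x
    constructor
    · rintro ⟨n, f, hn, hf, hx, O, hO, hOa, hOc⟩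
      exact ⟨⟨⟨n, f⟩, hn, hf, O, hO, hOa, hOc⟩, hx⟩
    · rintro ⟨⟨⟨n, f⟩, hn, hf, O, hO, hOa, hOc⟩, hx⟩
      exact ⟨n, f, hn, hf, hx, O, hO, hOa, hOc⟩
  let Yt : Y.left.Opens := ⨆ i, Ys i
  have hYt : ((φ.left ⁻¹ᵁ Yt : XU.left.Opens) : Set XU.left) = Set.range jS.left := by
    ext x
    constructor
    · intro hx
      obtain ⟨i, hi⟩ := Opens.mem_iSup.1 (show φ.left x ∈ Yt from hx)
      have h1 : x ∈ ((φ.left ⁻¹ᵁ Ys i : XU.left.Opens) : Set XU.left) := hi
      rw [hYs] at h1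
      have h2 : jU.left x ∈ B.sLocus := (hst _).2 ⟨i, h1⟩
      rw [← hjS, Over.comp_left] at h2
      obtain ⟨z, hz⟩ := h2
      rw [Scheme.Hom.comp_apply] at hz
      exact ⟨z, hinj hz⟩
    · rintro ⟨z, rfl⟩
      have h2 : jU.left (jS.left z) ∈ B.sLocus := by
        rw [← hjS]; exact ⟨z, by rw [Over.comp_left, Scheme.Hom.comp_apply]⟩
      obtain ⟨i, hi⟩ := (hst _).1 h2
      have h1 : jS.left z ∈ ((φ.left ⁻¹ᵁ Ys i : XU.left.Opens) : Set XU.left) := by rw [hYs]; exact hi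
      exact Opens.mem_iSup.2 ⟨i, h1⟩
  -- the quotient map
  have hrg : Set.range (inc Y Yt).left = (Yt : Set Y.left) := Scheme.Opens.range_ι _
  have hr : Set.range (jS ≫ φ).left ⊆ Set.range (inc Y Yt).left := by
    rw [hrg]
    rintro _ ⟨z, rfl⟩
    rw [Over.comp_left, Scheme.Hom.comp_apply]
    have : jS.left z ∈ ((φ.left ⁻¹ᵁ Yt : XU.left.Opens) : Set XU.left) := by rw [hYt]; exact ⟨z, rfl⟩
    exact this
  let φs : XS ⟶ op Y Yt := Over.homMk (IsOpenImmersion.lift (inc Y Yt).left (jS ≫ φ).left hr) (by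
    rw [← Over.w (inc Y Yt), ← Category.assoc, IsOpenImmersion.lift_fac, Over.w])
  have hφs : φs ≫ inc Y Yt = jS ≫ φ := by
    ext1
    exact IsOpenImmersion.lift_fac _ _ _
  have hmi : Mono (inc Y Yt) := inferInstance
  have hpbS : IsPullback jS φs φ (inc Y Yt) := by
    apply isPullback_of_left
    have hφl : φs.left ≫ (inc Y Yt).left = jS.left ≫ φ.left := by
      rw [← Over.comp_left, hφs, Over.comp_left]
    refine K688.QuotGlue.isPullback_of_opensRange jS.left (inc Y Yt).left φ.left φs.left hφl ?_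
    ext x
    have h5 : x ∈ Set.range jS.left ↔ x ∈ ((φ.left ⁻¹ᵁ Yt : XU.left.Opens) : Set XU.left) := by rw [hYt]
    have h6 : φ.left x ∈ Set.range (inc Y Yt).left ↔ φ.left x ∈ (Yt : Set Y.left) := by rw [hrg]
    exact h6.trans h5.symm
  have hinvφ : aU.act ≫ φ = snd G XU ≫ φ := P.quot.1.1
  have hinv : GIT.IsInvariant aS φs := by
    rw [GIT.IsInvariant, ← cancel_mono (inc Y Yt), Category.assoc, Category.assoc, hφs, reassoc_of% haS, hinvφ,
      whiskerLeft_snd_assoc]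
  refine ⟨Yt, φs, hφs, hYt, isUnivGeomQuot_of_charts hinv fun y => ?_⟩
  have hy : (inc Y Yt).left y ∈ (Yt : Set Y.left) := by rw [← hrg]; exact ⟨y, rfl⟩
  obtain ⟨i, hi⟩ := Opens.mem_iSup.1 (show (inc Y Yt).left y ∈ Yt from hy)
  obtain ⟨as, has⟩ := exists_aW aU φ P.quot.1.1 (Ys i)
  obtain ⟨O, hO, hOa, hOc⟩ := i.2.2.2
  have hOle : (O : Set X.left) ⊆ Set.range jU.left := by
    rw [hO, P.ss]
    intro x hx
    exact ⟨i.1.1, i.1.2, i.2.1, i.2.2.1, hx, O, hO, hOa⟩
  have hgeom := P.isUnivGeomQuot h33 hG hO hOa hOc hOle (Ys i) (hYs i) has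
  have hle : Ys i ≤ Yt := le_iSup Ys i
  let g₁ : op Y (Ys i) ⟶ op Y Yt := incLE Y hle
  have hg₁ : g₁ ≫ inc Y Yt = inc Y (Ys i) := incLE_inc Y hle
  let pr₁ : op XU (φ.left ⁻¹ᵁ Ys i) ⟶ XS := hpbS.lift (inc XU _) (phiW φ (Ys i) ≫ g₁) (by
    rw [Category.assoc, hg₁, phiW_inc])
  have hpr₁ : pr₁ ≫ jS = inc XU _ := hpbS.lift_fst _ _ _
  have hpr₁' : pr₁ ≫ φs = phiW φ (Ys i) ≫ g₁ := hpbS.lift_snd _ _ _
  have hopg : IsOpenImmersion g₁.left := inferInstanceAs (IsOpenImmersion (Y.left.homOfLE hle))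
  have hmS : Mono jS := mono_of_isOpenImmersion jS
  refine ⟨_, _, as, phiW φ (Ys i), pr₁, g₁, ⟨hopg, ?_, ?_⟩, ?_, hgeom⟩
  · refine IsPullback.of_right ?_ hpr₁' hpbS
    rw [hpr₁, hg₁]
    exact isPullback_phiW φ (Ys i)
  · rw [← cancel_mono jS, Category.assoc, hpr₁, has, Category.assoc, haS, ← MonoidalCategory.whiskerLeft_comp_assoc,
      hpr₁]
  · have hr' : Set.range (inc Y (Ys i)).left = (Ys i : Set Y.left) := Scheme.Opens.range_ι _
    have hi' : (inc Y Yt).left y ∈ Set.range (inc Y (Ys i)).left := by rw [hr']; exact hi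
    obtain ⟨z, hz⟩ := hi'
    refine ⟨z, (inc Y Yt).left.isOpenEmbedding.injective ?_⟩
    rw [← Scheme.Hom.comp_apply, ← Over.comp_left, hg₁, hz]

/-- S14714 modulo its ingredients -/
theorem main14714 (h31 : St11431.{u}) (h32 : St11432.{u}) (h33 : St11433.{u}) (h13 : St14713.{u})
    (hG : Red.IsReductive G) [LocallyOfFiniteType X.hom] [QuasiCompact X.hom]
    (a : AlgGrp.Action G X) (B : GLinSh.LinBun G a)
    (U : X.left.Opens) (hU : (U : Set X.left) = B.ssLocus)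
    (aU : AlgGrp.Action G (Over.mk (U.ι ≫ X.hom)))
    (jU : Over.mk (U.ι ≫ X.hom) ⟶ X) (hjU : jU.left = U.ι)
    (haU : aU.act ≫ jU = (G ◁ jU) ≫ a.act)
    (Y : Over (Spec (CommRingCat.of k))) (φ : Over.mk (U.ι ≫ X.hom) ⟶ Y) (hφ : GIT.IsCatQuot aU φ)
    (Us : X.left.Opens) (hUs : (Us : Set X.left) = B.sLocus) (hle : Us ≤ U)
    (aS : AlgGrp.Action G (Over.mk (Us.ι ≫ X.hom)))
    (jS : Over.mk (Us.ι ≫ X.hom) ⟶ X) (hjS : jS.left = Us.ι)
    (haS : aS.act ≫ jS = (G ◁ jS) ≫ a.act) :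
    ∃ (Yt : Y.left.Opens) (φs : Over.mk (Us.ι ≫ X.hom) ⟶ Over.mk (Yt.ι ≫ Y.hom)),
      φs.left ≫ Yt.ι = X.left.homOfLE hle ≫ φ.left ∧
      φ.left ⁻¹ᵁ Yt = U.ι ⁻¹ᵁ Us ∧
      GIT.IsUnivGeomQuot aS φs := by
  have P := props h31 h13 hG U hU aU jU hjU haU Y φ hφ
  let j : op X Us ⟶ op X U := incLE X hle
  have hj : j ≫ jU = jS := by
    ext1
    rw [Over.comp_left, hjU, hjS]
    exact X.left.homOfLE_ι hle
  have hmono : Mono jU := by
    have : IsOpenImmersion jU.left := P.openImm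
    exact mono_of_isOpenImmersion jU
  have hact : aS.act ≫ j = (G ◁ j) ≫ aU.act := by
    rw [← cancel_mono jU, Category.assoc, hj, haS, Category.assoc, haU, ← MonoidalCategory.whiskerLeft_comp_assoc, hj]
  have hop : IsOpenImmersion j.left := inferInstanceAs (IsOpenImmersion (X.left.homOfLE hle))
  obtain ⟨Yt, φs, h1, h2, h3⟩ := P.stable h31 h32 h33 hG hact (by
    rw [hj, hjS, Scheme.Opens.range_ι, hUs])
  refine ⟨Yt, φs, ?_, ?_, h3⟩
  · have := congrArg Over.Hom.left h1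
    rw [Over.comp_left, Over.comp_left] at this
    exact this
  · ext x
    have h4 : x ∈ ((φ.left ⁻¹ᵁ Yt : (op X U).left.Opens) : Set (op X U).left) ↔ x ∈ Set.range j.left := by rw [h2]
    have h5 : Set.range j.left = ((U.ι ⁻¹ᵁ Us : (U : Scheme.{u}).Opens) : Set (U : Scheme.{u})) := by
      have h6 := Scheme.opensRange_homOfLE (X := X.left) hle
      exact congrArg (fun O : (U : Scheme.{u}).Opens => (O : Set (U : Scheme.{u}))) h6
    rw [h5] at h4
    exact h4

end Red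

end K689.Quot714
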