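import Groth.Agent.GIT.K688.QuotGlue
import Groth.Agent.GIT.K689.InvRatio
import Groth.Agent.GIT.K689.Ifc

/-!
# Fibres of categorical quotients by reductive groups

`bcAct`: the action on a base change.  `transport`: quotients and isomorphisms of the target.
`isUnivCatQuot_of_unif`: an affine uniform categorical quotient is universal.
`exists_common_point`: in a fibre all non-empty closed invariant subsets have a common point.
-/

set_option autoImplicit false

universe u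

open CategoryTheory CategoryTheory.Limits MonoidalCategory CartesianMonoidalCategory MonObj AlgebraicGeometry
  TopologicalSpace Topology

namespace K689.QuotFib

open K689.SchGlue K689.PullBun K688.ActRes K688.QuotLocal K689.Ifc K689.LocGeom

section Gen

variable {S : Scheme.{u}} {G X Y X' Y' : Over S} [GrpObj G]

section bc

variable {a : AlgGrp.Action G X} {φ : X ⟶ Y} {pr : X' ⟶ X} {φ' : X' ⟶ Y'} {g : Y' ⟶ Y}
  (h : IsPullback pr φ' φ g) (hφ : GIT.IsInvariant a φ)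

/-- the action on a base change, as a morphism -/
noncomputable def bcm : G ⊗ X' ⟶ X' :=
  h.lift ((G ◁ pr) ≫ a.act) (snd G X' ≫ φ') (by
    have hφ' : a.act ≫ φ = snd G X ≫ φ := hφ
    rw [Category.assoc, hφ', whiskerLeft_snd_assoc, Category.assoc, h.w])

theorem bcm_pr : bcm h hφ ≫ pr = (G ◁ pr) ≫ a.act := h.lift_fst _ _ _

theorem bcm_φ : bcm h hφ ≫ φ' = snd G X' ≫ φ' := h.lift_snd _ _ _

/-- the action on a base change -/
noncomputable def bcAct : AlgGrp.Action G X' where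
  act := bcm h hφ
  one_act := by
    apply h.hom_ext
    · rw [Category.assoc, bcm_pr, ← whisker_exchange_assoc, a.one_act, leftUnitor_naturality]
    · rw [Category.assoc, bcm_φ, whiskerRight_snd_assoc, leftUnitor_hom]
  mul_act := by
    apply h.hom_ext
    · simp only [Category.assoc, bcm_pr]
      rw [← whisker_exchange_assoc, a.mul_act, ← MonoidalCategory.whiskerLeft_comp_assoc, bcm_pr,
        MonoidalCategory.whiskerLeft_comp_assoc]
      simp
    · simp only [Category.assoc, bcm_φ]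
      rw [whiskerLeft_snd_assoc, bcm_φ, whiskerRight_snd_assoc]
      simp

theorem bcAct_pr : (bcAct h hφ).act ≫ pr = (G ◁ pr) ≫ a.act := bcm_pr h hφ

theorem bcAct_inv : GIT.IsInvariant (bcAct h hφ) φ' := bcm_φ h hφ

end bc

/-- change of the target by an isomorphism -/
theorem isCatQuot_iso {a : AlgGrp.Action G X} {φ : X ⟶ Y} (h : GIT.IsCatQuot a φ) (e : Y ≅ Y') :
    GIT.IsCatQuot a (φ ≫ e.hom) := by
  refine ⟨?_, fun Z ψ hψ => ?_⟩
  · have h1 : a.act ≫ φ = snd G X ≫ φ := h.1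
    rw [GIT.IsInvariant, reassoc_of% h1]
  · obtain ⟨χ, hχ, hu⟩ := h.2 Z ψ hψ
    refine ⟨e.inv ≫ χ, by simpa using hχ, fun χ' hχ' => ?_⟩
    rw [Iso.eq_inv_comp]
    apply hu
    simpa using hχ'

theorem isPullback_iso {φ : X ⟶ Y} {e : Y ≅ Y'} {X₂ Y₂ : Over S} {pr : X₂ ⟶ X} {φ₂ : X₂ ⟶ Y₂} {g : Y₂ ⟶ Y'}
    (h : IsPullback pr φ₂ (φ ≫ e.hom) g) : IsPullback pr φ₂ φ (g ≫ e.inv) := by
  refine IsPullback.of_iso h (Iso.refl _) (Iso.refl _) (Iso.refl _) e.symm ?_ ?_ ?_ ?_ <;> simp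

theorem isUnifCatQuot_iso {a : AlgGrp.Action G X} {φ : X ⟶ Y} (h : GIT.IsUnifCatQuot a φ) (e : Y ≅ Y') :
    GIT.IsUnifCatQuot a (φ ≫ e.hom) :=
  ⟨isCatQuot_iso h.1 e, fun _ _ pr φ₂ g hg hpb a₂ ha₂ hinv =>
    h.2 pr φ₂ (g ≫ e.inv) (by
      have hg' : Flat g.left := hg
      have : IsIso e.inv.left := inferInstanceAs (IsIso ((Over.forget S).map e.inv))
      change Flat (g.left ≫ e.inv.left)
      infer_instance) (isPullback_iso hpb) a₂ ha₂ hinv⟩

theorem isUnivCatQuot_iso {a : AlgGrp.Action G X} {φ : X ⟶ Y} (h : GIT.IsUnivCatQuot a φ) (e : Y ≅ Y') :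
    GIT.IsUnivCatQuot a (φ ≫ e.hom) :=
  ⟨isCatQuot_iso h.1 e, fun _ _ pr φ₂ g _ hpb a₂ ha₂ hinv =>
    h.2 pr φ₂ (g ≫ e.inv) trivial (isPullback_iso hpb) a₂ ha₂ hinv⟩

/-- any two categorical quotients: universality transfers -/
theorem isUnivCatQuot_of_isCatQuot {a : AlgGrp.Action G X} {φ : X ⟶ Y} {φ' : X ⟶ Y'}
    (h : GIT.IsUnivCatQuot a φ) (h' : GIT.IsCatQuot a φ') : GIT.IsUnivCatQuot a φ' := by
  obtain ⟨e, he⟩ := K688.QuotGlue.exists_iso h.1 h'
  rw [← he]
  exact isUnivCatQuot_iso h e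

end Gen

section Red

variable {k : Type u} [Field k] [CharZero k] {G X Y : Over (Spec (CommRingCat.of k))} [GrpObj G]

/-- an affine uniform categorical quotient by a reductive group is universal -/
theorem isUnivCatQuot_of_unif (h31 : St11431.{u}) (hG : Red.IsReductive G) {a : AlgGrp.Action G X} {φ : X ⟶ Y}
    (h : GIT.IsUnifCatQuot a φ) [IsAffineHom φ.left] : GIT.IsUnivCatQuot a φ := by
  refine isUnivCatQuot_of_charts h.1.1 fun y => ?_
  obtain ⟨V, hV, hyV⟩ := exists_isAffineOpen_mem_and_subset (X := Y.left) (x := y) (U := ⊤) trivial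
  have hyV : y ∈ V := hyV.1
  obtain ⟨a', ha'⟩ := exists_aW a φ h.1.1 V
  have hr : Set.range (inc Y V).left = (V : Set Y.left) := Scheme.Opens.range_ι _
  have h1 : GIT.IsCatQuot a' (phiW φ V) :=
    h.2 (inc X _) (phiW φ V) (inc Y V) inferInstance (isPullback_phiW φ V) a' ha' (isInvariant_phiW h.1.1 ha')
  have : IsAffine (op X (φ.left ⁻¹ᵁ V)).left := hV.preimage φ.left
  obtain ⟨Y', ψ, -, -, -, h2, -⟩ := h31 k G (op X (φ.left ⁻¹ᵁ V)) hG a'
  refine ⟨_, _, a', phiW φ V, inc X _, inc Y V, ⟨inferInstance, isPullback_phiW φ V, ha'⟩, ?_,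
    isUnivCatQuot_of_isCatQuot h2 h1⟩
  rw [hr]; exact hyV

/-- the functions on a categorical quotient of an affine scheme are the invariants -/
theorem range_appTop_of_isCatQuot (h31 : St11431.{u}) (hG : Red.IsReductive G) [IsAffine X.left]
    {a : AlgGrp.Action G X} {φ : X ⟶ Y} (h : GIT.IsCatQuot a φ) :
    Function.Injective φ.left.appTop ∧
      Set.range φ.left.appTop = {f : Γ(X.left, ⊤) | a.act.left.appTop f = (snd G X).left.appTop f} := by
  obtain ⟨Y', ψ, -, hinj, hr, h2, -⟩ := h31 k G X hG a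
  obtain ⟨e, he⟩ := K688.QuotGlue.exists_iso h2.1 h
  have h3 : φ.left.appTop = e.hom.left.appTop ≫ ψ.left.appTop := by
    rw [← he, Over.comp_left, Scheme.Hom.comp_appTop]
  have : IsIso e.hom.left := inferInstanceAs (IsIso ((Over.forget _).map e.hom))
  have : IsIso e.hom.left.appTop := inferInstanceAs (IsIso (e.hom.left.app ⊤))
  have hb : Function.Bijective e.hom.left.appTop := ConcreteCategory.bijective_of_isIso _
  have h4 : (φ.left.appTop : Γ(Y.left, ⊤) → Γ(X.left, ⊤)) = ψ.left.appTop ∘ e.hom.left.appTop := by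
    rw [h3]; rfl
  refine ⟨?_, ?_⟩
  · rw [h4]; exact hinj.comp hb.1
  · rw [h4, Set.range_comp, hb.2.range_eq, Set.image_univ, hr]

/-- over the spectrum of a field an element is zero or a unit -/
theorem eq_zero_or_isUnit {κ : Type u} [Field κ] {T : Scheme.{u}} (e : T ≅ Spec (CommRingCat.of κ)) (c : Γ(T, ⊤)) :
    c = 0 ∨ IsUnit c := by
  have : IsIso e.hom.appTop := inferInstanceAs (IsIso (e.hom.app ⊤))
  let f : CommRingCat.of κ ⟶ Γ(T, ⊤) := (Scheme.ΓSpecIso (CommRingCat.of κ)).inv ≫ e.hom.appTop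
  have : IsIso f := inferInstanceAs (IsIso (_ ≫ _))
  have hb : Function.Bijective f := ConcreteCategory.bijective_of_isIso _
  obtain ⟨d, rfl⟩ := hb.2 c
  rcases eq_or_ne d 0 with rfl | hd
  · left; exact map_zero f.hom
  · right
    exact (isUnit_iff_ne_zero.2 hd).map f.hom

/-- if the target is the spectrum of a field, two non-empty closed invariant subsets meet -/
theorem closed_meet (h31 : St11431.{u}) (h32 : St11432.{u}) (hG : Red.IsReductive G) [IsAffine X.left]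
    {a : AlgGrp.Action G X} {φ : X ⟶ Y} (h : GIT.IsCatQuot a φ) {κ : Type u} [Field κ]
    (e : Y.left ≅ Spec (CommRingCat.of κ)) (W₁ W₂ : Set X.left) (h₁ : IsClosed W₁) (h₂ : IsClosed W₂)
    (hi₁ : a.act.left.base '' ((snd G X).left.base ⁻¹' W₁) ⊆ W₁)
    (hi₂ : a.act.left.base '' ((snd G X).left.base ⁻¹' W₂) ⊆ W₂) (hn₁ : W₁.Nonempty) (hn₂ : W₂.Nonempty) :
    (W₁ ∩ W₂).Nonempty := by
  by_contra hne
  have hd : Disjoint W₁ W₂ := Set.disjoint_iff_inter_eq_empty.2 (Set.not_nonempty_iff_eq_empty.1 hne)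
  obtain ⟨f, hf, hf₁, hf₂⟩ := h32 k G X hG a W₁ W₂ h₁ h₂ hi₁ hi₂ hd
  have h3 : f ∈ Set.range φ.left.appTop := by
    rw [(range_appTop_of_isCatQuot h31 hG h).2]; exact hf
  obtain ⟨c, rfl⟩ := h3
  obtain ⟨x₁, hx₁⟩ := hn₁
  obtain ⟨x₂, hx₂⟩ := hn₂
  have k1 := hf₁ hx₁
  have k2 := hf₂ hx₂
  rw [Scheme.mem_zeroLocus_iff] at k1 k2
  rcases eq_zero_or_isUnit e c with rfl | hc
  · have := k2 _ rfl
    rw [map_zero, sub_zero] at this
    exact this (by rw [Scheme.basicOpen_of_isUnit _ isUnit_one]; trivial)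
  · have := k1 _ rfl
    exact this (by rw [Scheme.basicOpen_of_isUnit _ (hc.map _)]; trivial)

/-- if the target is the spectrum of a field, all non-empty closed invariant subsets have a common point -/
theorem exists_common_point (h31 : St11431.{u}) (h32 : St11432.{u}) (hG : Red.IsReductive G) [IsAffine X.left]
    {a : AlgGrp.Action G X} {φ : X ⟶ Y} (h : GIT.IsCatQuot a φ) {κ : Type u} [Field κ]
    (e : Y.left ≅ Spec (CommRingCat.of κ)) [Nonempty X.left] :
    ∃ w : X.left, ∀ W : Set X.left, IsClosed W → a.act.left.base '' ((snd G X).left.base ⁻¹' W) ⊆ W →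
      W.Nonempty → w ∈ W := by
  let I := {W : Set X.left // IsClosed W ∧ a.act.left.base '' ((snd G X).left.base ⁻¹' W) ⊆ W ∧ W.Nonempty}
  have hI : Nonempty I := ⟨⟨Set.univ, isClosed_univ, Set.subset_univ _, Set.univ_nonempty⟩⟩
  have hdir : Directed (· ⊇ ·) (fun W : I => W.1) := by
    intro W₁ W₂
    refine ⟨⟨W₁.1 ∩ W₂.1, W₁.2.1.inter W₂.2.1, ?_, ?_⟩, Set.inter_subset_left, Set.inter_subset_right⟩
    · rintro _ ⟨z, hz, rfl⟩
      exact ⟨W₁.2.2.1 ⟨z, hz.1, rfl⟩, W₂.2.2.1 ⟨z, hz.2, rfl⟩⟩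
    · exact closed_meet h31 h32 hG h e _ _ W₁.2.1 W₂.2.1 W₁.2.2.1 W₂.2.2.1 W₁.2.2.2 W₂.2.2.2
  obtain ⟨w, hw⟩ := IsCompact.nonempty_iInter_of_directed_nonempty_isCompact_isClosed (fun W : I => W.1) hdir
    (fun W => W.2.2.2) (fun W => W.2.1.isCompact) (fun W => W.2.1)
  exact ⟨w, fun W h1 h2 h3 => Set.mem_iInter.1 hw ⟨W, h1, h2, h3⟩⟩

end Red

end K689.QuotFib
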