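import Groth.Agent.GIT.K689.QuotFib

/-!
# The loci `X_s` are saturated for the quotient of the semi-stable locus
-/

set_option autoImplicit false

universe u

open CategoryTheory CategoryTheory.Limits MonoidalCategory CartesianMonoidalCategory MonObj AlgebraicGeometry
  TopologicalSpace Topology

namespace K689.Satur

open K689.SchGlue K689.Coord K689.CoordUP K689.Weight K689.Ratio K689.ActBasic K689.LinBunBasic K689.PullBun
  K689.Compat K689.InvRatio K688.ActRes K688.QuotLocal K689.Ifc K689.LocGeom K689.QuotFib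

section Gen

variable {S : Scheme.{u}} {G X F : Over S} [GrpObj G] {a : AlgGrp.Action G X} (B : GLinSh.LinBun G a)

/-- the preimage of the complement of an invariant subset is invariant -/
theorem image_preimage_subset {aF : AlgGrp.Action G F} (j : F ⟶ X) (hj : aF.act ≫ j = (G ◁ j) ≫ a.act)
    (O : Set X.left) (hO : ∀ z : (G ⊗ X).left, a.act.left z ∈ O → (snd G X).left z ∈ O) :
    aF.act.left.base '' ((snd G F).left.base ⁻¹' (j.left ⁻¹' O)ᶜ) ⊆ (j.left ⁻¹' O)ᶜ := by
  rintro _ ⟨z, hz, rfl⟩ h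
  apply hz
  have e1 : j.left (aF.act.left z) = a.act.left ((G ◁ j).left z) := by
    rw [← Scheme.Hom.comp_apply, ← Scheme.Hom.comp_apply, ← Over.comp_left, ← Over.comp_left, hj]
  have e2 : j.left ((snd G F).left z) = (snd G X).left ((G ◁ j).left z) := by
    rw [← Scheme.Hom.comp_apply, ← Scheme.Hom.comp_apply, ← Over.comp_left, ← Over.comp_left, whiskerLeft_snd]
  have h' : j.left (aF.act.left z) ∈ O := h
  rw [e1] at h'
  change j.left ((snd G F).left z) ∈ O
  rw [e2]
  exact hO _ h'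

/-- a ratio of invariant sections pulls back to an invariant function -/
theorem pull_ratio_inv {aF : AlgGrp.Action G F} (j : F ⟶ X) (hj : aF.act ≫ j = (G ◁ j) ≫ a.act)
    {n : ℕ} {f g : Γ(B.V.left, ⊤)} (hf : B.IsInvSection n f) (hg : B.IsInvSection n g)
    {O : X.left.Opens} (hO : (O : Set X.left) ⊆ nv B.π.left (tt B.π.left g)) (r : Γ(X.left, O))
    (e : rs B.π.left le_top (tt B.π.left f) = B.π.left.app O r * rs B.π.left le_top (tt B.π.left g))
    (hF : ⊤ ≤ j.left ⁻¹ᵁ O) :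
    aF.act.left.appTop (j.left.appLE O ⊤ hF r) = (snd G F).left.appTop (j.left.appLE O ⊤ hF r) := by
  have m1 : aF.act.left ≫ j.left = (G ◁ j).left ≫ a.act.left := by
    rw [← Over.comp_left, ← Over.comp_left, hj]
  have m2 : (snd G F).left ≫ j.left = (G ◁ j).left ≫ (snd G X).left := by
    rw [← Over.comp_left, ← Over.comp_left, whiskerLeft_snd]
  have q1 : (⊤ : (G ⊗ F).left.Opens) ≤ (aF.act.left ≫ j.left) ⁻¹ᵁ O := fun z _ => hF (x := aF.act.left z) trivial
  have q2 : (⊤ : (G ⊗ F).left.Opens) ≤ ((snd G F).left ≫ j.left) ⁻¹ᵁ O :=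
    fun z _ => hF (x := (snd G F).left z) trivial
  have q1' : (⊤ : (G ⊗ F).left.Opens) ≤ ((G ◁ j).left ≫ a.act.left) ⁻¹ᵁ O := by rw [← m1]; exact q1
  have q2' : (⊤ : (G ⊗ F).left.Opens) ≤ ((G ◁ j).left ≫ (snd G X).left) ⁻¹ᵁ O := by rw [← m2]; exact q2
  have e1 := ratio_inv B hf hg hO r e (a.act.left ⁻¹ᵁ O ⊓ (snd G X).left ⁻¹ᵁ O) inf_le_left inf_le_right
  have hle : (⊤ : (G ⊗ F).left.Opens) ≤ (G ◁ j).left ⁻¹ᵁ (a.act.left ⁻¹ᵁ O ⊓ (snd G X).left ⁻¹ᵁ O) :=
    fun z hz => ⟨q1' hz, q2' hz⟩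
  have e2 := congrArg ((G ◁ j).left.appLE _ _ hle) e1
  have t1 := appLE_appLE aF.act.left j.left hF (le_refl (aF.act.left ⁻¹ᵁ ⊤)) q1 r
  have t2 := appLE_appLE (snd G F).left j.left hF (le_refl ((snd G F).left ⁻¹ᵁ ⊤)) q2 r
  rw [appLE_self_app] at t1 t2
  have t3 := appLE_appLE (G ◁ j).left a.act.left (W := a.act.left ⁻¹ᵁ O ⊓ (snd G X).left ⁻¹ᵁ O) inf_le_left hle q1' r
  have t4 := appLE_appLE (G ◁ j).left (snd G X).left (W := a.act.left ⁻¹ᵁ O ⊓ (snd G X).left ⁻¹ᵁ O) inf_le_right hle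
    q2' r
  exact t1.trans ((appLE_hom_congr m1 q1 q1' r).trans (t3.symm.trans (e2.trans (t4.trans
    ((appLE_hom_congr m2 q2 q2' r).symm.trans t2.symm)))))

end Gen

section Red

variable {k : Type u} [Field k] [CharZero k] {G X F : Over (Spec (CommRingCat.of k))} [GrpObj G]
  {a : AlgGrp.Action G X} (B : GLinSh.LinBun G a)

/-- in a fibre of a quotient of semi-stable points, `X_s` contains everything or nothing -/
theorem all_or_nothing (h31 : St11431.{u}) (h32 : St11432.{u}) (hG : Red.IsReductive G) [IsAffine F.left]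
    {T : Over (Spec (CommRingCat.of k))} {aF : AlgGrp.Action G F} {φ : F ⟶ T} (h : GIT.IsCatQuot aF φ)
    {κ : Type u} [Field κ] (e : T.left ≅ Spec (CommRingCat.of κ))
    (j : F ⟶ X) (hj : aF.act ≫ j = (G ◁ j) ≫ a.act) (hss : ∀ z : F.left, j.left z ∈ B.ssLocus)
    {n : ℕ} (hn : 1 ≤ n) {s : Γ(B.V.left, ⊤)} (hs : B.IsInvSection n s) (x₁ x₂ : F.left)
    (h₁ : j.left x₁ ∈ GLinSh.nonvanishing B.π s) : j.left x₂ ∈ GLinSh.nonvanishing B.π s := by
  have hne : Nonempty F.left := ⟨x₁⟩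
  obtain ⟨w, hw⟩ := exists_common_point h31 h32 hG h e
  obtain ⟨m, t, hm, ht, hwt, -⟩ := hss w
  -- `F` is contained in `X_t`
  have hFt : ∀ z : F.left, j.left z ∈ GLinSh.nonvanishing B.π t := by
    by_contra hcon
    push Not at hcon
    obtain ⟨z, hz⟩ := hcon
    have h1 := hw (j.left ⁻¹' (GLinSh.nonvanishing B.π t))ᶜ
      (((isOpen_nonvanishing ht.1).preimage j.left.continuous).isClosed_compl)
      (image_preimage_subset j hj _ (fun z hz => (nonvanishing_invariant ht.2 z).1 hz)) ⟨z, hz⟩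
    exact h1 hwt
  -- the ratio
  have hf := invSection_pow B hs m
  have hg := invSection_pow B ht n
  rw [mul_comm m n] at hg
  let O : X.left.Opens := ⟨_, isOpen_nonvanishing hg.1⟩
  have hOg : (O : Set X.left) ⊆ nv B.π.left (tt B.π.left (t ^ n)) := by
    rw [← nonvanishing_eq]; exact le_rfl
  have hn0 : n ≠ 0 := by omega
  have hm0 : m ≠ 0 := by omega
  have hFO : (⊤ : F.left.Opens) ≤ j.left ⁻¹ᵁ O := by
    intro z _
    change j.left z ∈ GLinSh.nonvanishing B.π (t ^ n)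
    rw [nonvanishing_pow ht.1 n hn0]
    exact hFt z
  have A := atl B.atlas
  have hwf := ((hasWeight_iff _ _ _).1 hf.1).restrict (le_top : O ≤ ⊤)
  have hwg := ((hasWeight_iff _ _ _).1 hg.1).restrict (le_top : O ≤ ⊤)
  have hO' : (O : Set X.left) ⊆ nv B.π.left (rs B.π.left (le_top : O ≤ ⊤) (tt B.π.left (t ^ n))) := by
    rw [nv_rs]
    exact fun x hx => ⟨hOg hx, hx⟩
  obtain ⟨r, hr⟩ := exists_ratio A hwf hwg hO'
  have hbr := basicOpen_ratio A hwg hO' r hr
  rw [nv_rs, ← nonvanishing_eq, nonvanishing_pow hs.1 m hm0] at hbr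
  have hinv := pull_ratio_inv B j hj hf hg hOg r hr hFO
  have hmem : j.left.appLE O ⊤ hFO r ∈ Set.range φ.left.appTop := by
    rw [(range_appTop_of_isCatQuot h31 hG h).2]; exact hinv
  obtain ⟨c, hc⟩ := hmem
  have hb : ∀ z : F.left, z ∈ F.left.basicOpen (j.left.appLE O ⊤ hFO r) ↔ j.left z ∈ GLinSh.nonvanishing B.π s := by
    intro z
    rw [Scheme.basicOpen_appLE]
    constructor
    · intro hz
      have h3 : j.left z ∈ (X.left.basicOpen r : Set X.left) := hz.2
      rw [hbr] at h3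
      exact h3.1
    · intro hz
      refine ⟨trivial, ?_⟩
      change j.left z ∈ (X.left.basicOpen r : Set X.left)
      rw [hbr]
      exact ⟨hz, hFO (x := z) trivial⟩
  rw [← hb] at h₁ ⊢
  rw [← hc] at h₁ ⊢
  rcases eq_zero_or_isUnit e c with rfl | hcu
  · rw [map_zero] at h₁
    simp at h₁
  · rw [Scheme.basicOpen_of_isUnit _ (hcu.map _)]
    trivial

/-- **saturation**: two semi-stable points with the same image in the quotient are both in `X_s` or both outside -/
theorem nonvanishing_of_eq (h31 : St11431.{u}) (h32 : St11432.{u}) (hG : Red.IsReductive G)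
    {XU Y : Over (Spec (CommRingCat.of k))} {aU : AlgGrp.Action G XU} (jU : XU ⟶ X)
    (haU : aU.act ≫ jU = (G ◁ jU) ≫ a.act) (hss : ∀ z : XU.left, jU.left z ∈ B.ssLocus)
    {φ : XU ⟶ Y} (h : GIT.IsUnivCatQuot aU φ) [IsAffineHom φ.left]
    {n : ℕ} (hn : 1 ≤ n) {s : Γ(B.V.left, ⊤)} (hs : B.IsInvSection n s) (x₁ x₂ : XU.left)
    (hx : φ.left x₁ = φ.left x₂)
    (h₁ : jU.left x₁ ∈ GLinSh.nonvanishing B.π s) : jU.left x₂ ∈ GLinSh.nonvanishing B.π s := by
  let y := φ.left x₁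
  let Yy : Over (Spec (CommRingCat.of k)) := Over.mk (Y.left.fromSpecResidueField y ≫ Y.hom)
  let g : Yy ⟶ Y := Over.homMk (Y.left.fromSpecResidueField y) rfl
  let F : Over (Spec (CommRingCat.of k)) := pullback φ g
  let pr : F ⟶ XU := pullback.fst φ g
  let φF : F ⟶ Yy := pullback.snd φ g
  have hpb : IsPullback pr φF φ g := IsPullback.of_hasPullback φ g
  have hpbl : IsPullback pr.left φF.left φ.left g.left := hpb.map (Over.forget _)
  have haff : IsAffineHom φF.left := MorphismProperty.of_isPullback hpbl inferInstance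
  have : IsAffine Yy.left := inferInstanceAs (IsAffine (Spec _))
  have : IsAffine F.left := isAffine_of_isAffineHom φF.left
  let aF := bcAct hpb h.1.1
  have hq : GIT.IsCatQuot aF φF := h.2 pr φF g trivial hpb aF (bcAct_pr hpb h.1.1) (bcAct_inv hpb h.1.1)
  let pt : Yy.left := (IsLocalRing.closedPoint _ : Spec (Y.left.residueField y))
  have hgpt : g.left pt = y := Y.left.fromSpecResidueField_apply y _
  obtain ⟨z₁, hz₁, -⟩ := exists_point hpbl x₁ pt hgpt.symm
  obtain ⟨z₂, hz₂, -⟩ := exists_point hpbl x₂ pt (hx.symm.trans hgpt.symm)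
  have := all_or_nothing B h31 h32 hG hq (κ := Y.left.residueField y) (Iso.refl _) (pr ≫ jU)
    (by
      rw [← Category.assoc, bcAct_pr hpb h.1.1, Category.assoc, haU, MonoidalCategory.whiskerLeft_comp_assoc])
    (fun z => by
      rw [Over.comp_left, Scheme.Hom.comp_apply]; exact hss _) hn hs z₁ z₂ (by
      rw [Over.comp_left, Scheme.Hom.comp_apply, hz₁]; exact h₁)
  rw [Over.comp_left, Scheme.Hom.comp_apply, hz₂] at this
  exact this

end Red

end K689.Satur
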