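import Groth.Agent.GIT.K689.StabTrans
import Groth.Agent.GIT.K689.Quot714

/-!
# Stable points are regular and their orbits are closed in the semi-stable locus
-/

set_option autoImplicit false

universe u

open CategoryTheory CategoryTheory.Limits MonoidalCategory CartesianMonoidalCategory MonObj AlgebraicGeometry
  TopologicalSpace Topology

namespace K689.St715

open K689.SchGlue K689.Coord K689.CoordUP K689.Weight K689.Ratio K689.ActBasic K689.LinBunBasic K689.PullBun
  K689.Compat K689.InvRatio K688.ActRes K688.QuotLocal K689.Ifc K689.LocGeom K689.QuotFib K689.Satur K689.Quot714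
  K689.StabDim K689.StabTrans

section Gen

variable {S : Scheme.{u}} {G X X' : Over S} [GrpObj G] {a : AlgGrp.Action G X} {a' : AlgGrp.Action G X'}

theorem closedOn_of_isClosed (j : X' ⟶ X) (hj : a'.act ≫ j = (G ◁ j) ≫ a.act) [IsOpenImmersion j.left]
    (O : X.left.Opens) (hO : (O : Set X.left) ⊆ Set.range j.left) {T : Over S} (f' : T ⟶ X')
    (h1 : IsClosed (Set.range (GIT.psi a' f').left)) :
    IsClosed ((fun p : (fst X T).left ⁻¹ᵁ O => (p : (X ⊗ T).left)) ⁻¹'
      Set.range (GIT.psi a (f' ≫ j)).left.base) := by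
  have hpb := K686.Whisk.isPullback_whiskerRight_left j T
  have hop : IsOpenImmersion (j ▷ T).left := MorphismProperty.of_isPullback hpb.flip inferInstance
  rw [psi_whisker j hj f', Over.comp_left]
  have hrg : Set.range ((GIT.psi a' f').left ≫ (j ▷ T).left) = (j ▷ T).left '' Set.range (GIT.psi a' f').left := by
    rw [← Set.range_comp]; rfl
  -- the complement of the image is closed in the preimage of `O`
  have hsub : ∀ p : (fst X T).left ⁻¹ᵁ O, ∃ z, (j ▷ T).left z = p.1 := by
    intro p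
    obtain ⟨x', hx'⟩ := hO p.2
    obtain ⟨z, hz, -⟩ := exists_point hpb p.1 x' hx'.symm
    exact ⟨z, hz⟩
  have hopen : IsOpen ((j ▷ T).left '' (Set.range (GIT.psi a' f').left)ᶜ) :=
    (j ▷ T).left.isOpenEmbedding.isOpenMap _ h1.isOpen_compl
  have heq : ((fun p : (fst X T).left ⁻¹ᵁ O => (p : (X ⊗ T).left)) ⁻¹'
      Set.range ((GIT.psi a' f').left ≫ (j ▷ T).left).base)ᶜ =
      (fun p : (fst X T).left ⁻¹ᵁ O => (p : (X ⊗ T).left)) ⁻¹'
        ((j ▷ T).left '' (Set.range (GIT.psi a' f').left)ᶜ) := by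
    ext p
    obtain ⟨z, hz⟩ := hsub p
    constructor
    · intro hp
      refine ⟨z, fun hz' => hp ?_, hz⟩
      have : p.1 ∈ (j ▷ T).left '' Set.range (GIT.psi a' f').left := ⟨z, hz', hz⟩
      rw [← hrg] at this
      exact this
    · rintro ⟨z', hz', hz''⟩ hp
      have : p.1 ∈ (j ▷ T).left '' Set.range (GIT.psi a' f').left := by
        rw [← hrg]; exact hp
      obtain ⟨z₂, hz₂, hz₃⟩ := this
      have : z' = z₂ := (j ▷ T).left.isOpenEmbedding.injective (hz''.trans hz₃.symm)
      exact hz' (this ▸ hz₂)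
  rw [← isOpen_compl_iff, heq]
  exact hopen.preimage continuous_subtype_val

/-- lift of a point to an open -/
theorem exists_lift_point (j : X' ⟶ X) [IsOpenImmersion j.left] {T : Over S} (f : T ⟶ X)
    (hf : Set.range f.left ⊆ Set.range j.left) : ∃ f' : T ⟶ X', f' ≫ j = f :=
  ⟨Over.homMk (IsOpenImmersion.lift j.left f.left hf) (by
    rw [← Over.w j, ← Category.assoc, IsOpenImmersion.lift_fac, Over.w]), by
    ext1
    exact IsOpenImmersion.lift_fac _ _ _⟩

variable {Y : Over S} {φ : X' ⟶ Y}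

/-- an orbit contained in a saturated open in which it is closed is closed -/
theorem isClosed_orbit_aux (hi : GIT.IsInvariant a' φ) (j : X' ⟶ X) (hj : a'.act ≫ j = (G ◁ j) ≫ a.act)
    [IsOpenImmersion j.left] {T : Over S} [Subsingleton T.left] (f' : T ⟶ X') (O : X.left.Opens)
    (hsat : ∀ x₁ x₂ : X'.left, φ.left x₁ = φ.left x₂ → j.left x₁ ∈ O → j.left x₂ ∈ O)
    (hf : ∀ w : T.left, j.left (f'.left w) ∈ O)
    (hcl : IsClosed ((fun p : (fst X T).left ⁻¹ᵁ O => (p : (X ⊗ T).left)) ⁻¹'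
      Set.range (GIT.psi a (f' ≫ j)).left.base)) : IsClosed (Set.range (GIT.psi a' f').left) := by
  have hpb := K686.Whisk.isPullback_whiskerRight_left j T
  have hop : IsOpenImmersion (j ▷ T).left := MorphismProperty.of_isPullback hpb.flip inferInstance
  have hσ : (lift (f' ≫ φ) (𝟙 T)).left ≫ (snd Y T).left = 𝟙 T.left := by
    rw [← Over.comp_left, lift_snd, Over.id_left]
  have hC : IsClosed ((φ ▷ T).left ⁻¹' Set.range (lift (f' ≫ φ) (𝟙 T)).left) :=
    (K686.Orbit.isClosed_range_of_section (snd Y T).left _ hσ).preimage (φ ▷ T).left.continuous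
  -- the open part
  have hO : IsOpen (((j ▷ T).left ⁻¹' (((↑) : ((fst X T).left ⁻¹ᵁ O) → (X ⊗ T).left) ''
      ((fun p : (fst X T).left ⁻¹ᵁ O => (p : (X ⊗ T).left)) ⁻¹' Set.range (GIT.psi a (f' ≫ j)).left.base)ᶜ))) :=
    ((((fst X T).left ⁻¹ᵁ O).2.isOpenMap_subtype_val) _ hcl.isOpen_compl).preimage (j ▷ T).left.continuous
  have heq : (Set.range (GIT.psi a' f').left)ᶜ = ((φ ▷ T).left ⁻¹' Set.range (lift (f' ≫ φ) (𝟙 T)).left)ᶜ ∪
      ((j ▷ T).left ⁻¹' (((↑) : ((fst X T).left ⁻¹ᵁ O) → (X ⊗ T).left) ''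
      ((fun p : (fst X T).left ⁻¹ᵁ O => (p : (X ⊗ T).left)) ⁻¹' Set.range (GIT.psi a (f' ≫ j)).left.base)ᶜ)) := by
    ext z
    constructor
    · intro hz
      by_cases hzC : z ∈ (φ ▷ T).left ⁻¹' Set.range (lift (f' ≫ φ) (𝟙 T)).left
      · right
        obtain ⟨w, hw⟩ := hzC
        have h1 : φ.left ((fst X' T).left z) = φ.left (f'.left w) := by
          have e1 : (fst Y T).left ((φ ▷ T).left z) = φ.left ((fst X' T).left z) := by
            rw [← Scheme.Hom.comp_apply, ← Scheme.Hom.comp_apply, ← Over.comp_left, ← Over.comp_left,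
              whiskerRight_fst]
          have e2 : (fst Y T).left ((lift (f' ≫ φ) (𝟙 T)).left w) = φ.left (f'.left w) := by
            rw [← Scheme.Hom.comp_apply, ← Scheme.Hom.comp_apply, ← Over.comp_left, ← Over.comp_left, lift_fst]
          rw [← e1, ← e2, hw]
        have h2 : j.left ((fst X' T).left z) ∈ O := hsat _ _ h1.symm (hf w)
        have h3 : (j ▷ T).left z ∈ (fst X T).left ⁻¹ᵁ O := by
          change (fst X T).left ((j ▷ T).left z) ∈ O
          rw [← Scheme.Hom.comp_apply, hpb.w, Scheme.Hom.comp_apply]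
          exact h2
        refine ⟨⟨(j ▷ T).left z, h3⟩, ?_, rfl⟩
        rintro ⟨g, hg⟩
        apply hz
        refine ⟨g, (j ▷ T).left.isOpenEmbedding.injective ?_⟩
        have h4 : (j ▷ T).left ((GIT.psi a' f').left g) = (GIT.psi a (f' ≫ j)).left g := by
          rw [psi_whisker j hj f', Over.comp_left, Scheme.Hom.comp_apply]
        rw [h4]
        exact hg
      · left
        exact hzC
    · rintro (hz | ⟨p, hp, hpz⟩) ⟨g, hg⟩
      · apply hz
        refine ⟨(snd G T).left g, ?_⟩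
        rw [← hg, ← Scheme.Hom.comp_apply, ← Scheme.Hom.comp_apply, ← Over.comp_left, ← Over.comp_left,
          K686.Orbit.psi_comp_whisker hi]
      · apply hp
        refine ⟨g, ?_⟩
        have h4 : (GIT.psi a (f' ≫ j)).left g = (j ▷ T).left z := by
          rw [psi_whisker j hj f', Over.comp_left, Scheme.Hom.comp_apply, hg]
        exact h4.trans hpz.symm
  rw [← isOpen_compl_iff, heq]
  exact hC.isOpen_compl.union hO

end Gen

section Red

variable {k : Type u} [Field k] [CharZero k] {G X : Over (Spec (CommRingCat.of k))} [GrpObj G]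
  {a : AlgGrp.Action G X} {B : GLinSh.LinBun G a}

/-- the action on an open of the form `X_s` -/
theorem exists_aO {s : Γ(B.V.left, ⊤)} (hs : GLinSh.IsInvFn B.lift s) {O : X.left.Opens}
    (hO : (O : Set X.left) = GLinSh.nonvanishing B.π s) :
    ∃ aO : AlgGrp.Action G (op X O), aO.act ≫ inc X O = (G ◁ inc X O) ≫ a.act := by
  refine exists_restrict a (inc X O) fun z hz => ?_
  have h1 : Set.range (inc X O).left = (O : Set X.left) := Scheme.Opens.range_ι _
  rw [h1, hO] at hz ⊢
  exact (nonvanishing_invariant hs z).2 hz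

/-- the action on the semi-stable locus -/
theorem exists_aU (U : X.left.Opens) (hU : (U : Set X.left) = B.ssLocus) :
    ∃ aU : AlgGrp.Action G (op X U), aU.act ≫ inc X U = (G ◁ inc X U) ≫ a.act := by
  refine exists_restrict a (inc X U) fun z hz => ?_
  have h1 : Set.range (inc X U).left = (U : Set X.left) := Scheme.Opens.range_ι _
  rw [h1, hU] at hz ⊢
  obtain ⟨n, s, hn, hs, hxs, O, hO, haff⟩ := hz
  exact ⟨n, s, hn, hs, (nonvanishing_invariant hs.2 z).2 hxs, O, hO, haff⟩

/-- the geometric quotient of `X_s` -/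
theorem exists_geomQuot (h31 : St11431.{u}) (h33 : St11433.{u}) (hG : Red.IsReductive G)
    {O : X.left.Opens} (haff : IsAffineOpen O) (hcl : GLinSh.ClosedOrbitsOn a O)
    {aO : AlgGrp.Action G (op X O)} (haO : aO.act ≫ inc X O = (G ◁ inc X O) ≫ a.act) :
    ∃ (Y : Over (Spec (CommRingCat.of k))) (φ : op X O ⟶ Y), GIT.IsUnivGeomQuot aO φ := by
  have : IsAffine (op X O).left := haff
  obtain ⟨Y, φ, -, -, -, h1, -⟩ := h31 k G (op X O) hG aO
  have h3 : GIT.IsClosedAction aO := isClosedAction_of_closedOrbitsOn (inc X O) haO O (by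
    have h1 : Set.range (inc X O).left = (O : Set X.left) := Scheme.Opens.range_ι _
    rw [h1]) hcl
  exact ⟨Y, φ, (h33 k G _ _ hG aO φ h1.1).2 h3⟩

/-- stable points are regular -/
theorem regular_of_stable (h31 : St11431.{u}) (h33 : St11433.{u}) (hG : Red.IsReductive G)
    [LocallyOfFiniteType G.hom] [LocallyOfFiniteType X.hom] {x : X.left} (hx : B.IsStablePt x) :
    ∃ W : X.left.Opens, x ∈ W ∧ ∀ y ∈ W, sd a y = sd a x := by
  obtain ⟨n, s, hn, hs, hxs, O, hO, haff, hcl⟩ := hx
  obtain ⟨aO, haO⟩ := exists_aO hs.2 hO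
  obtain ⟨Y, φ, hφ⟩ := exists_geomQuot h31 h33 hG haff hcl haO
  have hxO : x ∈ O := by
    have : x ∈ (O : Set X.left) := by rw [hO]; exact hxs
    exact this
  have : LocallyOfFiniteType (op X O).hom := inferInstanceAs (LocallyOfFiniteType (O.ι ≫ X.hom))
  have h1 := exists_open_const aO hφ.1.inv hφ.1.orbit (⟨x, hxO⟩ : O)
  exact regular_of_open (inc X O) haO (⟨x, hxO⟩ : O) h1

/-- orbits of stable points are closed in the semi-stable locus -/
theorem isClosed_orbit {XU Y : Over (Spec (CommRingCat.of k))} {aU : AlgGrp.Action G XU} {jU : XU ⟶ X}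
    {φ : XU ⟶ Y} (P : Props B aU jU φ) (h31 : St11431.{u}) (h32 : St11432.{u}) (hG : Red.IsReductive G)
    {n : ℕ} (hn : 1 ≤ n) {s : Γ(B.V.left, ⊤)} (hs : B.IsInvSection n s)
    {O : X.left.Opens} (hO : (O : Set X.left) = GLinSh.nonvanishing B.π s) (hcl : GLinSh.ClosedOrbitsOn a O)
    (Ω : Type u) [Field Ω] [IsAlgClosed Ω] (T : Over (Spec (CommRingCat.of k)))
    (e : T.left ≅ Spec (CommRingCat.of Ω)) (f : T ⟶ X) (hf : Set.range f.left.base ⊆ (O : Set X.left))
    (hle : (O : Set X.left) ⊆ Set.range jU.left)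
    (U : X.left.Opens) (hU : (U : Set X.left) = B.ssLocus) :
    IsClosed ((fun p : (fst X T).left ⁻¹ᵁ U => (p : (X ⊗ T).left)) ⁻¹' Set.range (GIT.psi a f).left.base) := by
  have := P.openImm
  have := P.aff
  have hsub : Subsingleton T.left := by
    have : Subsingleton (Spec (CommRingCat.of Ω)) := inferInstanceAs (Subsingleton (PrimeSpectrum Ω))
    exact (e.hom.homeomorph.toEquiv).subsingleton
  have hss : ∀ z : XU.left, jU.left z ∈ B.ssLocus := fun z => by rw [← P.ss]; exact ⟨z, rfl⟩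
  have h0 := hcl Ω T e f hf
  obtain ⟨f', rfl⟩ := exists_lift_point jU f (hf.trans hle)
  refine closedOn_of_isClosed jU P.act U (by rw [hU, P.ss]) f' ?_
  refine isClosed_orbit_aux P.quot.1.1 jU P.act f' O ?_ (fun w => hf ⟨w, ?_⟩) h0
  · intro x₁ x₂ hx hx₁
    have h1 : jU.left x₁ ∈ (O : Set X.left) := hx₁
    have h2 : jU.left x₂ ∈ (O : Set X.left) := by
      rw [hO] at h1 ⊢
      exact nonvanishing_of_eq B h31 h32 hG jU P.act hss P.quot hn hs x₁ x₂ hx h1
    exact h2
  · rw [Over.comp_left]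
    exact Scheme.Hom.comp_apply _ _ _

end Red

end K689.St715
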