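import Groth.Agent.GIT.K689.StabOrb
import Groth.Agent.GIT.K689.ExtSec
import Groth.Agent.GIT.K689.St715
import Groth.Agent.GIT.K689.Have

/-!
# Regular points with closed orbits are stable
-/

set_option autoImplicit false

universe u

open CategoryTheory CategoryTheory.Limits MonoidalCategory CartesianMonoidalCategory MonObj AlgebraicGeometry
  TopologicalSpace Topology

namespace K689.St716

open K689.SchGlue K689.Coord K689.CoordUP K689.Weight K689.Ratio K689.ActBasic K689.LinBunBasic K689.PullBun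
  K689.Compat K689.InvRatio K688.ActRes K688.QuotLocal K689.Ifc K689.LocGeom K689.QuotFib K689.Satur K689.Quot714
  K689.StabDim K689.StabTrans K689.St715 K689.StabFin K689.StabOrb K689.ExtSec

section Gen

variable {S : Scheme.{u}} {G X X' : Over S} [GrpObj G] {a : AlgGrp.Action G X} {a' : AlgGrp.Action G X'}

/-- closed orbits on an open and the action on it, pointwise -/
theorem isClosed_of_closedOn (j : X' ⟶ X) (hj : a'.act ≫ j = (G ◁ j) ≫ a.act) [IsOpenImmersion j.left]
    (O : X.left.Opens) (hO : Set.range j.left ⊆ (O : Set X.left)) {T : Over S} (f : T ⟶ X')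
    (h1 : IsClosed ((fun p : (fst X T).left ⁻¹ᵁ O => (p : (X ⊗ T).left)) ⁻¹'
      Set.range (GIT.psi a (f ≫ j)).left.base)) : IsClosed (Set.range (GIT.psi a' f).left) := by
  have hpb := K686.Whisk.isPullback_whiskerRight_left j T
  have hop : IsOpenImmersion (j ▷ T).left := MorphismProperty.of_isPullback hpb.flip inferInstance
  have hrange : Set.range (GIT.psi a' f).left = (j ▷ T).left ⁻¹' Set.range (GIT.psi a (f ≫ j)).left := by
    rw [psi_whisker j hj f, Over.comp_left]
    ext z
    constructor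
    · rintro ⟨w, rfl⟩
      exact ⟨w, Scheme.Hom.comp_apply _ _ _⟩
    · rintro ⟨w, hw⟩
      refine ⟨w, (j ▷ T).left.isOpenEmbedding.injective ?_⟩
      rw [← hw, Scheme.Hom.comp_apply]
  have hle : ∀ z : (X' ⊗ T).left, (j ▷ T).left z ∈ (fst X T).left ⁻¹ᵁ O := by
    intro z
    change (fst X T).left ((j ▷ T).left z) ∈ O
    rw [← Scheme.Hom.comp_apply, hpb.w, Scheme.Hom.comp_apply]
    exact hO ⟨_, rfl⟩
  let m : (X' ⊗ T).left → (fst X T).left ⁻¹ᵁ O := fun z => ⟨(j ▷ T).left z, hle z⟩
  have hm : Continuous m := (j ▷ T).left.continuous.subtype_mk _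
  have h2 := h1.preimage hm
  rw [hrange]
  exact h2

/-- invariance of a function on an open can be tested on the open -/
theorem inv_of_restrict (j : X' ⟶ X) (hj : a'.act ≫ j = (G ◁ j) ≫ a.act) [IsOpenImmersion j.left]
    (O : X.left.Opens) (hO : (O : Set X.left) ⊆ Set.range j.left) (le : ⊤ ≤ j.left ⁻¹ᵁ O) (r : Γ(X.left, O))
    (h : a'.act.left.appTop (j.left.appLE O ⊤ le r) = (snd G X').left.appTop (j.left.appLE O ⊤ le r))
    (W : (G ⊗ X).left.Opens) (h1 : W ≤ a.act.left ⁻¹ᵁ O) (h2 : W ≤ (snd G X).left ⁻¹ᵁ O) :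
    a.act.left.appLE O W h1 r = (snd G X).left.appLE O W h2 r := by
  let E := (G ◁ j).left
  have hpb := K686.Whisk.isPullback_whiskerLeft_left j G
  have hop : IsOpenImmersion E := MorphismProperty.of_isPullback hpb.flip inferInstance
  have hW : (W : Set (G ⊗ X).left) ⊆ Set.range E := by
    intro z hz
    obtain ⟨x', hx'⟩ := hO (h2 hz)
    obtain ⟨w, hw, -⟩ := exists_point hpb z x' hx'.symm
    exact ⟨w, hw⟩
  apply (app_bijective E hW).1
  have m1 : E ≫ a.act.left = a'.act.left ≫ j.left := by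
    have := congrArg Over.Hom.left hj
    exact this.symm
  have m2 : E ≫ (snd G X).left = (snd G X').left ≫ j.left := by
    have : ((G ◁ j) ≫ snd G X).left = (snd G X' ≫ j).left := by rw [whiskerLeft_snd]
    exact this
  have key : ∀ (u : (G ⊗ X).left ⟶ X.left) (v : (G ⊗ X').left ⟶ X'.left) (hu : W ≤ u ⁻¹ᵁ O)
      (m : E ≫ u = v ≫ j.left), E.app W (u.appLE O W hu r) =
        rsec (le_top : E ⁻¹ᵁ W ≤ ⊤) (v.appTop (j.left.appLE O ⊤ le r)) := by
    intro u v hu m
    have l1 : E ⁻¹ᵁ W ≤ (E ≫ u) ⁻¹ᵁ O := E.preimage_mono hu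
    have l2 : (⊤ : (G ⊗ X').left.Opens) ≤ v ⁻¹ᵁ ⊤ := fun _ _ => trivial
    have l3 : (⊤ : (G ⊗ X').left.Opens) ≤ (v ≫ j.left) ⁻¹ᵁ O := fun z _ => le (x := v z) trivial
    have l4 : E ⁻¹ᵁ W ≤ (v ≫ j.left) ⁻¹ᵁ O := fun z _ => l3 trivial
    have e1 : E.app W (u.appLE O W hu r) = E.appLE W (E ⁻¹ᵁ W) le_rfl (u.appLE O W hu r) := by
      rw [appLE_self_app]
    have e2 : v.appTop (j.left.appLE O ⊤ le r) = v.appLE ⊤ ⊤ l2 (j.left.appLE O ⊤ le r) := by
      have := v.appLE_eq_app (U := ⊤)
      exact (congrArg (fun φ => φ.hom (j.left.appLE O ⊤ le r)) this).symm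
    rw [e1, e2, appLE_appLE E u hu le_rfl l1, appLE_appLE v j.left le l2 l3, rsec_appLE _ le_top l3 l4,
      appLE_hom_congr m l1 l4]
  rw [key _ _ h1 m1, key _ _ h2 m2, h]

variable {Y F T : Over S} {φ : X ⟶ Y}

section Orb

variable {pr : F ⟶ X} {ψ : F ⟶ T} (f : T ⟶ X) (H : IsPullback pr ψ φ (f ≫ φ)) (hφ : GIT.IsInvariant a φ)

/-- the orbit map into the fibre -/
noncomputable def orb : G ⊗ T ⟶ F := H.lift ((G ◁ f) ≫ a.act) (snd G T) (by
  have h0 : a.act ≫ φ = snd G X ≫ φ := hφ
  rw [Category.assoc, h0, whiskerLeft_snd_assoc])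

theorem orb_pr : orb f H hφ ≫ pr = (G ◁ f) ≫ a.act := H.lift_fst _ _ _

theorem orb_ψ : orb f H hφ ≫ ψ = snd G T := H.lift_snd _ _ _

theorem orb_lift : orb f H hφ ≫ lift pr ψ = GIT.psi a f := by
  rw [comp_lift, orb_pr, orb_ψ]
  rfl

include H in
theorem mono_lift : Mono (lift pr ψ) := by
  constructor
  intro Z u v huv
  apply H.hom_ext
  · have := congrArg (fun m => m ≫ fst X T) huv
    simpa using this
  · have := congrArg (fun m => m ≫ snd X T) huv
    simpa using this

theorem range_orb : Set.range (orb f H hφ).left = (lift pr ψ).left ⁻¹' Set.range (GIT.psi a f).left := by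
  have := mono_lift f H
  have hm : Mono (lift pr ψ).left := inferInstanceAs (Mono ((Over.forget S).map (lift pr ψ)))
  have hinj : Function.Injective (lift pr ψ).left := (lift pr ψ).left.injective
  rw [← orb_lift f H hφ, Over.comp_left]
  ext z
  constructor
  · rintro ⟨w, rfl⟩
    exact ⟨w, Scheme.Hom.comp_apply _ _ _⟩
  · rintro ⟨w, hw⟩
    refine ⟨w, hinj ?_⟩
    rw [← hw, Scheme.Hom.comp_apply]

theorem orb_equivariant : (G ◁ orb f H hφ) ≫ (bcAct H hφ).act = ((α_ G G T).inv ≫ (μ[G] ▷ T)) ≫ orb f H hφ := by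
  have h1 := a.mul_act
  apply H.hom_ext
  · rw [Category.assoc, bcAct_pr, ← MonoidalCategory.whiskerLeft_comp_assoc, orb_pr, Category.assoc, Category.assoc,
      orb_pr, MonoidalCategory.whiskerLeft_comp_assoc]
    have h2 : (α_ G G X).inv ≫ (μ[G] ▷ X) ≫ a.act = (G ◁ a.act) ≫ a.act := by
      rw [h1, Iso.inv_hom_id_assoc]
    have h3 : (G ◁ (G ◁ f)) ≫ (α_ G G X).inv = (α_ G G T).inv ≫ ((G ⊗ G) ◁ f) := by
      apply CartesianMonoidalCategory.hom_ext
      · apply CartesianMonoidalCategory.hom_ext <;> simp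
      · simp
    rw [← h2, reassoc_of% h3, whisker_exchange_assoc]
  · have h3 : (bcAct H hφ).act ≫ ψ = snd G F ≫ ψ := bcAct_inv H hφ
    rw [Category.assoc, h3, whiskerLeft_snd_assoc, orb_ψ, Category.assoc, orb_ψ, Category.assoc, whiskerRight_snd,
      associator_inv_snd]

theorem orb_invariant : (bcAct H hφ).act.left.base '' ((snd G F).left.base ⁻¹' Set.range (orb f H hφ).left) ⊆
    Set.range (orb f H hφ).left := by
  rintro _ ⟨z, ⟨w, hw⟩, rfl⟩
  obtain ⟨v, hv, -⟩ := exists_point (K686.Whisk.isPullback_whiskerLeft_left (orb f H hφ) G) z w hw.symm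
  refine ⟨((α_ G G T).inv ≫ (μ[G] ▷ T)).left v, ?_⟩
  rw [← hv, ← Scheme.Hom.comp_apply, ← Over.comp_left, ← orb_equivariant, Over.comp_left, Scheme.Hom.comp_apply]

end Orb

end Gen

section Red

variable {k : Type u} [Field k] [CharZero k] {G X : Over (Spec (CommRingCat.of k))} [GrpObj G]

/-- a closed invariant subset whose quotient image contains that of a point with closed orbit contains the point -/
theorem not_mem_image (h31 : St11431.{u}) (h32 : St11432.{u}) (hG : Red.IsReductive G)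
    {a : AlgGrp.Action G X} {Y : Over (Spec (CommRingCat.of k))} {φ : X ⟶ Y} (hu : GIT.IsUnivCatQuot a φ)
    [IsAffineHom φ.left] {Z : Set X.left} (hZ : IsClosed Z)
    (hinv : ∀ z : (G ⊗ X).left, a.act.left z ∈ Z ↔ (snd G X).left z ∈ Z)
    {Ω : Type u} [Field Ω] {T : Over (Spec (CommRingCat.of k))} (e : T.left ≅ Spec (CommRingCat.of Ω)) (f : T ⟶ X)
    (hcl : IsClosed (Set.range (GIT.psi a f).left)) (w : T.left) (hxZ : f.left w ∉ Z) :
    φ.left (f.left w) ∉ φ.left '' Z := by
  rintro ⟨z₀, hz₀, hz⟩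
  have H : IsPullback (pullback.fst φ (f ≫ φ)) (pullback.snd φ (f ≫ φ)) φ (f ≫ φ) := IsPullback.of_hasPullback _ _
  have Hl : IsPullback (pullback.fst φ (f ≫ φ)).left (pullback.snd φ (f ≫ φ)).left φ.left (f ≫ φ).left :=
    H.map (Over.forget _)
  have hcq : GIT.IsCatQuot (bcAct H hu.1.1) (pullback.snd φ (f ≫ φ)) :=
    hu.2 _ _ _ trivial H (bcAct H hu.1.1) (bcAct_pr H hu.1.1) (bcAct_inv H hu.1.1)
  have hTa : IsAffine T.left := IsAffine.of_isIso e.hom
  have hFa : IsAffine (pullback φ (f ≫ φ)).left := by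
    have : IsAffineHom (pullback.snd φ (f ≫ φ)).left := MorphismProperty.of_isPullback Hl ‹_›
    exact isAffine_of_isAffineHom (pullback.snd φ (f ≫ φ)).left
  have hm : (((pullback.fst φ (f ≫ φ)).left ⁻¹' Z) ∩ Set.range (orb f H hu.1.1).left).Nonempty := by
    refine closed_meet h31 h32 hG hcq e _ _ (hZ.preimage (pullback.fst φ (f ≫ φ)).left.continuous) ?_ ?_
      (orb_invariant f H hu.1.1) ?_ ?_
    · rw [range_orb]
      exact hcl.preimage (lift (pullback.fst φ (f ≫ φ)) (pullback.snd φ (f ≫ φ))).left.continuous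
    · have h1 := image_preimage_subset (aF := bcAct H hu.1.1) (a := a) (pullback.fst φ (f ≫ φ))
        (bcAct_pr H hu.1.1) Zᶜ (fun z hz' hz'' => hz' ((hinv z).2 hz''))
      have h2 : ((pullback.fst φ (f ≫ φ)).left ⁻¹' Zᶜ)ᶜ = (pullback.fst φ (f ≫ φ)).left ⁻¹' Z := by
        rw [Set.preimage_compl, compl_compl]
      rw [h2] at h1
      exact h1
    · obtain ⟨p, hp, -⟩ := exists_point Hl z₀ w (by
        rw [hz, Over.comp_left, Scheme.Hom.comp_apply])
      exact ⟨p, by change (pullback.fst φ (f ≫ φ)).left p ∈ Z; rw [hp]; exact hz₀⟩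
    · have hne : Nonempty (G ⊗ T).left := ⟨(lift (1 : T ⟶ G) (𝟙 T)).left w⟩
      exact ⟨_, ⟨Classical.arbitrary _, rfl⟩⟩
  obtain ⟨p, hp, u, rfl⟩ := hm
  have h1 : (pullback.fst φ (f ≫ φ)).left ((orb f H hu.1.1).left u) = a.act.left ((G ◁ f).left u) := by
    rw [← Scheme.Hom.comp_apply, ← Scheme.Hom.comp_apply, ← Over.comp_left, ← Over.comp_left, orb_pr]
  have h2 : (snd G X).left ((G ◁ f).left u) = f.left w := by
    rw [← Scheme.Hom.comp_apply, ← Over.comp_left, whiskerLeft_snd, Over.comp_left, Scheme.Hom.comp_apply]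
    have hsub : Subsingleton T.left := by
      have : Subsingleton (Spec (CommRingCat.of Ω)) := inferInstanceAs (Subsingleton (PrimeSpectrum Ω))
      exact (e.hom.homeomorph.toEquiv).subsingleton
    congr 1
    exact Subsingleton.elim _ _
  have h3 : (pullback.fst φ (f ≫ φ)).left ((orb f H hu.1.1).left u) ∈ Z := hp
  rw [h1, hinv, h2] at h3
  exact hxZ h3

omit [CharZero k] [GrpObj G] in
theorem isOpenMap_snd [Smooth G.hom] : IsOpenMap (snd G X).left := by
  have : UniversallyOpen (snd G X).left := inferInstanceAs (UniversallyOpen (pullback.snd G.hom X.hom))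
  exact (snd G X).left.isOpenMap

omit [CharZero k] in
theorem isOpenMap_act [Smooth G.hom] (a : AlgGrp.Action G X) : IsOpenMap a.act.left := by
  have h1 : (shear a).left ≫ (snd G X).left = a.act.left := by
    rw [← Over.comp_left, shear_snd]
  have h2 : (shear a).left ≫ (shear a).left = 𝟙 _ := by
    rw [← Over.comp_left, shear_shear]; rfl
  have hi : IsIso (shear a).left := ⟨(shear a).left, h2, h2⟩
  have h3 : (a.act.left : (G ⊗ X).left → X.left) = (snd G X).left ∘ (shear a).left := by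
    rw [← h1]; rfl
  rw [h3]
  exact isOpenMap_snd.comp (shear a).left.homeomorph.isOpenMap

/-- S14716 -/
theorem main14716 (hG : Red.IsReductive G) [LocallyOfFiniteType X.hom] [QuasiCompact X.hom]
    (a : AlgGrp.Action G X) (B : GLinSh.LinBun G a) (x : X.left)
    (hreg : ∃ W : X.left.Opens, x ∈ W ∧ ∀ y ∈ W, sd a y = sd a x)
    (n : ℕ) (f : Γ(B.V.left, ⊤)) (Uf : X.left.Opens) (hn : 1 ≤ n) (hf : B.IsInvSection n f)
    (hUf : (Uf : Set X.left) = GLinSh.nonvanishing B.π f) (haff : IsAffineOpen Uf) (hxU : x ∈ Uf)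
    (hcl : ∀ (Ω : Type u) [Field Ω] [IsAlgClosed Ω] (T : Over (Spec (CommRingCat.of k)))
        (_ : T.left ≅ Spec (CommRingCat.of Ω)) (g : T ⟶ X), Set.range g.left.base = {x} →
          IsClosed ((fun p : (fst X T).left ⁻¹ᵁ Uf => (p : (X ⊗ T).left)) ⁻¹' Set.range (GIT.psi a g).left.base)) :
    B.IsStablePt x := by
  have hsG : Smooth G.hom := hG.2.1
  have haG : IsAffineHom G.hom := hG.1
  obtain ⟨aO, haO⟩ := exists_aO hf.2 hUf
  have hXa : IsAffine (op X Uf).left := haff
  obtain ⟨Y, φ, hYa, hinj, hrange, hu, -, -, -⟩ := Have.st31 k G (op X Uf) hG aO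
  obtain ⟨Hr⟩ := K686.HaarRed.exists_haar (Have.redLR k) hG
  have hIA : K686.IsAffQuot aO φ := ⟨hu.1.1, hinj, hrange⟩
  have hφa : IsAffineHom φ.left := inferInstance
  have hmj : Mono (inc X Uf) := inferInstance
  have hNX : IsLocallyNoetherian X.left := LocallyOfFiniteType.isLocallyNoetherian X.hom
  have hcX : CompactSpace X.left := (quasiCompact_iff_compactSpace X.hom).1 inferInstance
  have hNo : IsNoetherian X.left := {}
  have hNS : TopologicalSpace.NoetherianSpace X.left := inferInstance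
  let x' : (op X Uf).left := (⟨x, hxU⟩ : Uf)
  have hx' : (inc X Uf).left x' = x := rfl
  -- the closed set of non-regular points
  let C : Set (op X Uf).left := {y | sd aO y = sd a x}
  have hCinv : ∀ z : (G ⊗ op X Uf).left, aO.act.left z ∈ C ↔ (snd G (op X Uf)).left z ∈ C := by
    intro z
    have hl : LocallyOfFiniteType (op X Uf).hom := inferInstanceAs (LocallyOfFiniteType (Uf.ι ≫ X.hom))
    have hq : QuasiCompact (op X Uf).hom := by
      rw [quasiCompact_iff_compactSpace]
      exact isCompact_iff_compactSpace.mp (TopologicalSpace.NoetherianSpace.isCompact (Uf : Set X.left))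
    change sd aO _ = _ ↔ sd aO _ = _
    rw [sd_act]
  let W' : Set (op X Uf).left := interior C
  have hW'inv : ∀ z : (G ⊗ op X Uf).left, aO.act.left z ∈ W' ↔ (snd G (op X Uf)).left z ∈ W' := by
    intro z
    constructor
    · intro hz
      have h1 : IsOpen ((snd G (op X Uf)).left '' (aO.act.left ⁻¹' W')) :=
        isOpenMap_snd _ (isOpen_interior.preimage aO.act.left.continuous)
      refine interior_maximal ?_ h1 ⟨z, hz, rfl⟩
      rintro _ ⟨v, hv, rfl⟩
      exact (hCinv v).1 (interior_subset hv)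
    · intro hz
      have h1 : IsOpen (aO.act.left '' ((snd G (op X Uf)).left ⁻¹' W')) :=
        isOpenMap_act aO _ (isOpen_interior.preimage (snd G (op X Uf)).left.continuous)
      refine interior_maximal ?_ h1 ⟨z, hz, rfl⟩
      rintro _ ⟨v, hv, rfl⟩
      exact (hCinv v).2 (interior_subset hv)
  have hxW' : x' ∈ W' := by
    obtain ⟨W, hxW, hW⟩ := hreg
    refine interior_maximal ?_ (W.2.preimage (inc X Uf).left.continuous) (show (inc X Uf).left x' ∈ (W : Set X.left) from hxW)
    intro y hy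
    change sd aO y = sd a x
    rw [sd_mono (inc X Uf) haO]
    exact hW _ hy
  have hZ : IsClosed W'ᶜ := isOpen_interior.isClosed_compl
  have hZinv : ∀ z : (G ⊗ op X Uf).left, aO.act.left z ∈ W'ᶜ ↔ (snd G (op X Uf)).left z ∈ W'ᶜ := fun z =>
    not_congr (hW'inv z)
  -- a geometric point over `x`
  let κ := (op X Uf).left.residueField x'
  let Ω := AlgebraicClosure κ
  let b : Spec (CommRingCat.of Ω) ⟶ Spec ((op X Uf).left.residueField x') :=
    Spec.map (CommRingCat.ofHom (algebraMap κ Ω))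
  let T : Over (Spec (CommRingCat.of k)) := Over.mk (b ≫ (op X Uf).left.fromSpecResidueField x' ≫ (op X Uf).hom)
  let g₁ : T ⟶ op X Uf := Over.homMk (b ≫ (op X Uf).left.fromSpecResidueField x') (Category.assoc _ _ _)
  have hg₁ : ∀ w : T.left, g₁.left w = x' := by
    intro w
    have h4 : Set.range ((op X Uf).left.fromSpecResidueField x') = {x'} :=
      (op X Uf).left.range_fromSpecResidueField x'
    have h5 : g₁.left w ∈ Set.range ((op X Uf).left.fromSpecResidueField x') := ⟨b w, rfl⟩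
    rw [h4] at h5
    exact h5
  let w₀ : T.left := IsLocalRing.closedPoint Ω
  have hcl₁ : IsClosed (Set.range (GIT.psi aO g₁).left) := by
    refine isClosed_of_closedOn (inc X Uf) haO Uf (by
      have h1 : Set.range (inc X Uf).left = (Uf : Set X.left) := Scheme.Opens.range_ι _
      rw [h1]) g₁ (hcl Ω T (Iso.refl _) (g₁ ≫ inc X Uf) ?_)
    apply Set.Subset.antisymm
    · rintro _ ⟨w, rfl⟩
      change (inc X Uf).left (g₁.left w) ∈ ({x} : Set X.left)
      rw [hg₁]
      rfl
    · rw [Set.singleton_subset_iff]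
      refine ⟨w₀, ?_⟩
      change (inc X Uf).left (g₁.left w₀) = x
      rw [hg₁, hx']
  have hnm : φ.left x' ∉ φ.left '' W'ᶜ := by
    have h1 := not_mem_image Have.st31 Have.st32 hG hu hZ hZinv (Ω := Ω) (T := T) (Iso.refl _) g₁ hcl₁ w₀
      (by rw [hg₁]; exact fun h => h hxW')
    rw [hg₁] at h1
    exact h1
  have hcim : IsClosed (φ.left '' W'ᶜ) := hIA.isClosed_image Hr hZ (fun z hz => (hZinv z).2 hz)
  -- the function on the quotient
  obtain ⟨_, ⟨_, ⟨g, rfl⟩, rfl⟩, hxg, hgZ⟩ :=
    (isBasis_basicOpen Y.left).exists_subset_of_mem_open (show φ.left x' ∈ (φ.left '' W'ᶜ)ᶜ from hnm) hcim.isOpen_compl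
  -- the function on `X_f`
  have hιU : (inc X Uf).left ⁻¹ᵁ Uf = ⊤ := by
    ext y
    exact ⟨fun _ => trivial, fun _ => y.2⟩
  have le : (⊤ : (op X Uf).left.Opens) ≤ (inc X Uf).left ⁻¹ᵁ Uf := hιU.ge
  have hsur : ∃ r : Γ(X.left, Uf), (inc X Uf).left.appLE Uf ⊤ le r = φ.left.appTop g := by
    have h1 : IsIso ((inc X Uf).left.appLE Uf ⊤ le) := by
      have h2 : IsIso ((inc X Uf).left.app Uf) := (inc X Uf).left.isIso_app Uf (by
        have h1 : Set.range (inc X Uf).left = (Uf : Set X.left) := Scheme.Opens.range_ι _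
        intro y hy
        have : y ∈ Set.range (inc X Uf).left := by rw [h1]; exact hy
        exact this)
      rw [Scheme.Hom.appLE]
      have h3 : IsIso ((op X Uf).left.presheaf.map (homOfLE le).op) := by
        have : IsIso (homOfLE le) := ⟨homOfLE hιU.le, rfl, rfl⟩
        infer_instance
      infer_instance
    exact (ConcreteCategory.bijective_of_isIso ((inc X Uf).left.appLE Uf ⊤ le)).2 _
  obtain ⟨r, hr⟩ := hsur
  have hinvr : aO.act.left.appTop ((inc X Uf).left.appLE Uf ⊤ le r) =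
      (snd G (op X Uf)).left.appTop ((inc X Uf).left.appLE Uf ⊤ le r) := by
    rw [hr]
    have : φ.left.appTop g ∈ Set.range φ.left.appTop := ⟨g, rfl⟩
    rw [hrange] at this
    exact this
  have hbr : ∀ y : (op X Uf).left, (inc X Uf).left y ∈ X.left.basicOpen r ↔ φ.left y ∈ Y.left.basicOpen g := by
    intro y
    have h1 : (inc X Uf).left ⁻¹ᵁ X.left.basicOpen r = (op X Uf).left.basicOpen ((inc X Uf).left.app Uf r) :=
      (inc X Uf).left.preimage_basicOpen r
    have h2 : (op X Uf).left.basicOpen ((inc X Uf).left.appLE Uf ⊤ le r) =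
        ⊤ ⊓ (op X Uf).left.basicOpen ((inc X Uf).left.app Uf r) := by
      have : (inc X Uf).left.appLE Uf ⊤ le r = rsec le ((inc X Uf).left.app Uf r) := rfl
      rw [this]
      exact (op X Uf).left.basicOpen_res _ _
    have h3 : φ.left ⁻¹ᵁ Y.left.basicOpen g = (op X Uf).left.basicOpen (φ.left.appTop g) :=
      φ.left.preimage_basicOpen g
    rw [top_inf_eq, hr, ← h3, ← h1] at h2
    have h4 : y ∈ φ.left ⁻¹ᵁ Y.left.basicOpen g ↔ y ∈ (inc X Uf).left ⁻¹ᵁ X.left.basicOpen r := by rw [h2]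
    exact h4.symm
  -- extend
  have hVq : QuasiSeparatedSpace B.V.left := by
    have := B.atlas.affine
    exact quasiSeparatedSpace_of_quasiSeparated B.π.left
  have hVc : CompactSpace B.V.left := by
    have := B.atlas.affine
    exact QuasiCompact.compactSpace_of_compactSpace B.π.left
  have hGVc : CompactSpace (G ⊗ B.V).left := by
    have : QuasiCompact (snd G B.V).left := inferInstanceAs (QuasiCompact (pullback.snd G.hom B.V.hom))
    exact QuasiCompact.compactSpace_of_compactSpace (snd G B.V).left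
  obtain ⟨N, s, hN, hs, hsr⟩ := exists_ext_inv B hf hUf r (fun W h1 h2 =>
    inv_of_restrict (inc X Uf) haO Uf (by
      have h1 : Set.range (inc X Uf).left = (Uf : Set X.left) := Scheme.Opens.range_ι _
      rw [h1]) le r hinvr W h1 h2)
  have hDU : X.left.basicOpen r ≤ Uf := X.left.basicOpen_le r
  refine ⟨n * N, s, Nat.mul_pos hn hN, hs, ?_, X.left.basicOpen r, hsr.symm, haff.basicOpen r, ?_⟩
  · rw [hsr]
    exact (hbr x').2 hxg
  -- closed orbits
  have hDsd : ∀ y : X.left, y ∈ X.left.basicOpen r → sd a y = sd a x := by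
    intro y hy
    let y' : (op X Uf).left := (⟨y, hDU hy⟩ : Uf)
    have h1 : φ.left y' ∈ Y.left.basicOpen g := (hbr y').1 hy
    have h2 : y' ∈ W' := by
      by_contra h3
      exact hgZ h1 ⟨y', h3, rfl⟩
    have h3 : y' ∈ C := interior_subset h2
    have h4 : sd aO y' = sd a x := h3
    rw [sd_mono (inc X Uf) haO] at h4
    exact h4
  obtain ⟨aD, haD⟩ := exists_aO hs.2 hsr.symm
  have hl : LocallyOfFiniteType (op X (X.left.basicOpen r)).hom :=
    inferInstanceAs (LocallyOfFiniteType ((X.left.basicOpen r).ι ≫ X.hom))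
  have hq : QuasiCompact (op X (X.left.basicOpen r)).hom := by
    rw [quasiCompact_iff_compactSpace]
    exact isCompact_iff_compactSpace.mp (TopologicalSpace.NoetherianSpace.isCompact (X.left.basicOpen r : Set X.left))
  refine closedOrbitsOn_of_isClosedAction (inc X _) haD _ (by
      have h1 : Set.range (inc X (X.left.basicOpen r)).left = (X.left.basicOpen r : Set X.left) := Scheme.Opens.range_ι _
      rw [h1]) (isClosedAction_of_const aD (sd a x) fun p => ?_)
  rw [sd_mono (inc X _) haD]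
  exact hDsd _ p.2

end Red

end K689.St716
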