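import Groth.Agent.GIT.K689.StabFin
import Groth.Agent.GIT.K689.St715

/-!
# The action on the properly stable locus is proper
-/

set_option autoImplicit false

universe u

open CategoryTheory CategoryTheory.Limits MonoidalCategory CartesianMonoidalCategory MonObj AlgebraicGeometry
  TopologicalSpace Topology

namespace K689.St719

open K689.SchGlue K689.Coord K689.CoordUP K689.Weight K689.Ratio K689.ActBasic K689.LinBunBasic K689.PullBun
  K689.Compat K689.InvRatio K688.ActRes K688.QuotLocal K689.Ifc K689.LocGeom K689.QuotFib K689.Satur K689.Quot714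
  K689.StabDim K689.StabTrans K689.St715 K689.StabFin

section Gen

variable {S : Scheme.{u}} {G X : Over S} [GrpObj G] {a : AlgGrp.Action G X}

/-- a geometric quotient restricts to invariant opens -/
theorem exists_restrict_geomQuot {Z P : Over S} {φ : X ⟶ Z} (h : GIT.IsUnivGeomQuot a φ)
    {aP : AlgGrp.Action G P} (j : P ⟶ X) [IsOpenImmersion j.left] (hj : aP.act ≫ j = (G ◁ j) ≫ a.act) :
    ∃ (Q : Z.left.Opens) (φP : P ⟶ op Z Q), IsPullback j φP φ (inc Z Q) ∧ GIT.IsGeomQuot aP φP := by
  have hq : IsQuotientMap φ.left := K686.Basic.isQuotientMap_of_isUnivSubmersive h.1.subm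
  have hsat : φ.left ⁻¹' (φ.left '' Set.range j.left) = Set.range j.left := by
    apply Set.Subset.antisymm
    · rintro x ⟨_, ⟨p, rfl⟩, hp⟩
      obtain ⟨z, hz1, hz2⟩ := K686.Basic.exists_orbit h.1 x (j.left p) hp.symm
      obtain ⟨z', hz', -⟩ := exists_point (K686.Whisk.isPullback_whiskerLeft_left j G) z p hz2
      refine ⟨aP.act.left z', ?_⟩
      rw [← hz1, ← hz', ← Scheme.Hom.comp_apply, ← Scheme.Hom.comp_apply, ← Over.comp_left, ← Over.comp_left, hj]
    · exact Set.subset_preimage_image _ _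
  have hopen : IsOpen (φ.left '' Set.range j.left) := by
    rw [← hq.isOpen_preimage, hsat]
    exact j.left.isOpenEmbedding.isOpen_range
  let Q : Z.left.Opens := ⟨_, hopen⟩
  have hrg : Set.range (inc Z Q).left = (Q : Set Z.left) := Scheme.Opens.range_ι _
  have hr : Set.range (j ≫ φ).left ⊆ Set.range (inc Z Q).left := by
    rw [hrg]
    rintro _ ⟨z, rfl⟩
    rw [Over.comp_left, Scheme.Hom.comp_apply]
    exact ⟨_, ⟨z, rfl⟩, rfl⟩
  obtain ⟨φP, hφP⟩ := exists_lift_point (inc Z Q) (j ≫ φ) hr
  have hpb : IsPullback j φP φ (inc Z Q) := by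
    apply isPullback_of_left
    have hφl : φP.left ≫ (inc Z Q).left = j.left ≫ φ.left := by
      rw [← Over.comp_left, hφP, Over.comp_left]
    refine K688.QuotGlue.isPullback_of_opensRange j.left (inc Z Q).left φ.left φP.left hφl ?_
    ext x
    have h6 : φ.left x ∈ Set.range (inc Z Q).left ↔ φ.left x ∈ φ.left '' Set.range j.left := by rw [hrg]; rfl
    refine h6.trans ?_
    have h7 : φ.left x ∈ φ.left '' Set.range j.left ↔ x ∈ φ.left ⁻¹' (φ.left '' Set.range j.left) := Iff.rfl
    rw [h7, hsat]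
    rfl
  have hinv : GIT.IsInvariant aP φP := by
    have h0 : a.act ≫ φ = snd G X ≫ φ := h.1.inv
    rw [GIT.IsInvariant, ← cancel_mono (inc Z Q), Category.assoc, Category.assoc, hφP, reassoc_of% hj, h0,
      whiskerLeft_snd_assoc]
  exact ⟨Q, φP, hpb, h.2 j φP (inc Z Q) trivial hpb aP hj hinv⟩

end Gen

section Red

variable {k : Type u} [Field k] [CharZero k] {G X : Over (Spec (CommRingCat.of k))} [GrpObj G]
  {a : AlgGrp.Action G X} {B : GLinSh.LinBun G a}

omit [CharZero k] in
theorem isOpen_ssLocus (B : GLinSh.LinBun G a) : IsOpen B.ssLocus := by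
  rw [isOpen_iff_forall_mem_open]
  rintro x ⟨n, s, hn, hs, hx, O, hO, haff⟩
  exact ⟨_, fun y hy => ⟨n, s, hn, hs, hy, O, hO, haff⟩, isOpen_nonvanishing hs.1, hx⟩

omit [CharZero k] in
theorem isOpen_sLocus (B : GLinSh.LinBun G a) : IsOpen B.sLocus := by
  rw [isOpen_iff_forall_mem_open]
  rintro x ⟨n, s, hn, hs, hx, O, hO, haff, hcl⟩
  exact ⟨_, fun y hy => ⟨n, s, hn, hs, hy, O, hO, haff, hcl⟩, isOpen_nonvanishing hs.1, hx⟩

omit [CharZero k] in
/-- the action on the stable locus -/
theorem exists_aS (U : X.left.Opens) (hU : (U : Set X.left) = B.sLocus) :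
    ∃ aU : AlgGrp.Action G (op X U), aU.act ≫ inc X U = (G ◁ inc X U) ≫ a.act := by
  refine exists_restrict a (inc X U) fun z hz => ?_
  have h1 : Set.range (inc X U).left = (U : Set X.left) := Scheme.Opens.range_ι _
  rw [h1, hU] at hz ⊢
  obtain ⟨n, s, hn, hs, hxs, O, hO, haff⟩ := hz
  exact ⟨n, s, hn, hs, (nonvanishing_invariant hs.2 z).2 hxs, O, hO, haff⟩

/-- an affine geometric quotient of the stable locus -/
theorem exists_stableQuot (h31 : St11431.{u}) (h32 : St11432.{u}) (h33 : St11433.{u}) (h13 : St14713.{u})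
    (hG : Red.IsReductive G) [LocallyOfFiniteType X.hom] [QuasiCompact X.hom]
    (Us : X.left.Opens) (hUs : (Us : Set X.left) = B.sLocus)
    {aS : AlgGrp.Action G (op X Us)} (haS : aS.act ≫ inc X Us = (G ◁ inc X Us) ≫ a.act) :
    ∃ (Z : Over (Spec (CommRingCat.of k))) (φs : op X Us ⟶ Z), GIT.IsUnivGeomQuot aS φs ∧
      IsAffineHom φs.left ∧ IsSeparated Z.hom ∧ LocallyOfFiniteType Z.hom := by
  let U : X.left.Opens := ⟨B.ssLocus, isOpen_ssLocus B⟩
  have hU : (U : Set X.left) = B.ssLocus := rfl
  have hle : Us ≤ U := by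
    intro x hx
    have : x ∈ B.sLocus := by rw [← hUs]; exact hx
    obtain ⟨n, s, hn, hs, hxs, O, hO, haff, hcl⟩ := this
    exact ⟨n, s, hn, hs, hxs, O, hO, haff⟩
  obtain ⟨aU, haU⟩ := exists_aU (B := B) U hU
  obtain ⟨Y, φ, h1, h2⟩ := h13 k G X hG a B U hU aU (inc X U) rfl haU
  have P := props h31 h13 hG U hU aU (inc X U) rfl haU Y φ h1.1
  have hj : incLE X hle ≫ inc X U = inc X Us := incLE_inc X hle
  have hact : aS.act ≫ incLE X hle = (G ◁ incLE X hle) ≫ aU.act := by
    rw [← cancel_mono (inc X U), Category.assoc, hj, haS, Category.assoc, haU,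
      ← MonoidalCategory.whiskerLeft_comp_assoc, hj]
  have hop : IsOpenImmersion (incLE X hle).left := inferInstanceAs (IsOpenImmersion (X.left.homOfLE hle))
  obtain ⟨Yt, φs, h3, h4, h5⟩ := P.stable h31 h32 h33 hG hact (by
    rw [hj]
    exact (Scheme.Opens.range_ι Us).trans hUs)
  have hpb : IsPullback (incLE X hle) φs φ (inc Y Yt) := by
    apply isPullback_of_left
    have hφl : φs.left ≫ (inc Y Yt).left = (incLE X hle).left ≫ φ.left := by
      rw [← Over.comp_left, h3, Over.comp_left]
    refine K688.QuotGlue.isPullback_of_opensRange (incLE X hle).left (inc Y Yt).left φ.left φs.left hφl ?_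
    have hrg : Set.range (inc Y Yt).left = (Yt : Set Y.left) := Scheme.Opens.range_ι _
    ext x
    have h6 : φ.left x ∈ Set.range (inc Y Yt).left ↔ x ∈ ((φ.left ⁻¹ᵁ Yt : (op X U).left.Opens) : Set (op X U).left) := by
      rw [hrg]; rfl
    refine h6.trans ?_
    rw [h4]
    rfl
  have := P.aff
  have := P.sep
  have := P.lft
  refine ⟨_, φs, h5, ?_, ?_, ?_⟩
  · exact MorphismProperty.of_isPullback (hpb.map (Over.forget _)) ‹_›
  · exact inferInstanceAs (IsSeparated (Yt.ι ≫ Y.hom))
  · exact inferInstanceAs (LocallyOfFiniteType (Yt.ι ≫ Y.hom))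

/-- properness of an action with zero-dimensional stabilisers on an invariant open of something with an affine
geometric quotient -/
theorem isProper_of_open (h37 : St11437.{u}) (hG : Red.IsReductive G) [LocallyOfFiniteType X.hom] [QuasiCompact X.hom]
    {Z : Over (Spec (CommRingCat.of k))} {φ : X ⟶ Z} (h : GIT.IsUnivGeomQuot a φ) [IsAffineHom φ.left]
    [IsSeparated Z.hom] [LocallyOfFiniteType Z.hom] {P : Over (Spec (CommRingCat.of k))}
    {aP : AlgGrp.Action G P} (j : P ⟶ X) [IsOpenImmersion j.left] (hj : aP.act ≫ j = (G ◁ j) ≫ a.act)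
    (hd : ∀ p : P.left, sd a (j.left p) ≤ 0) : IsProper (GIT.psi aP (𝟙 P)).left := by
  obtain ⟨Q, φP, hpb, hgeom⟩ := exists_restrict_geomQuot h j hj
  have hmj : Mono j := mono_of_isOpenImmersion j
  have haff : IsAffineHom φP.left := MorphismProperty.of_isPullback (hpb.map (Over.forget _)) ‹_›
  have hlP : LocallyOfFiniteType P.hom := by
    rw [← Over.w j]; infer_instance
  have hcP : CompactSpace P.left := by
    have hN : IsLocallyNoetherian X.left := LocallyOfFiniteType.isLocallyNoetherian X.hom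
    have hc : CompactSpace X.left := (quasiCompact_iff_compactSpace X.hom).1 inferInstance
    have hNo : IsNoetherian X.left := {}
    have : TopologicalSpace.NoetherianSpace X.left := inferInstance
    have h1 : IsCompact (Set.range j.left) := TopologicalSpace.NoetherianSpace.isCompact _
    rw [← Set.image_univ] at h1
    exact isCompact_univ_iff.1 (j.left.isOpenEmbedding.isInducing.isCompact_iff.2 h1)
  have hqP : QuasiCompact P.hom := (quasiCompact_iff_compactSpace P.hom).2 hcP
  have hlQ : LocallyOfFiniteType (op Z Q).hom := inferInstanceAs (LocallyOfFiniteType (Q.ι ≫ Z.hom))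
  have hsQ : IsSeparated (op Z Q).hom := inferInstanceAs (IsSeparated (Q.ι ≫ Z.hom))
  have hqQ : QuasiCompact (op Z Q).hom := by
    rw [quasiCompact_iff_compactSpace]
    exact hgeom.surj.compactSpace φP.left.continuous
  have hsP : IsSeparated P.hom := by
    rw [← Over.w φP]; infer_instance
  have hlG : LocallyOfFiniteType G.hom := by
    have := hG.2.1
    infer_instance
  have hqG : QuasiCompact G.hom := by
    have := hG.1
    infer_instance
  have hlqf : LocallyQuasiFinite (GLinSh.stabTo aP (𝟙 P)) := lqf_stabTo_id aP fun x => by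
    rw [sd_mono j hj]; exact hd x
  exact @h37 k _ _ G P (op Z Q) _ hG _ _ _ _ _ _ aP hlqf φP hgeom _

theorem main14719 (h31 : St11431.{u}) (h32 : St11432.{u}) (h33 : St11433.{u}) (h13 : St14713.{u})
    (h37 : St11437.{u}) (hG : Red.IsReductive G) [LocallyOfFiniteType X.hom] [QuasiCompact X.hom]
    (a : AlgGrp.Action G X) (B : GLinSh.LinBun G a) :
    ∃ U : X.left.Opens, (U : Set X.left) = B.psLocus ∧
      ∀ (aP : AlgGrp.Action G (Over.mk (U.ι ≫ X.hom))) (jU : Over.mk (U.ι ≫ X.hom) ⟶ X),
        jU.left = U.ι → aP.act ≫ jU = (G ◁ jU) ≫ a.act →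
          IsProper (GIT.psi aP (𝟙 (Over.mk (U.ι ≫ X.hom)))).left := by
  have hlG : LocallyOfFiniteType G.hom := by
    have := hG.2.1
    infer_instance
  have hqG : QuasiCompact G.hom := by
    have := hG.1
    infer_instance
  have hNX : IsLocallyNoetherian X.left := LocallyOfFiniteType.isLocallyNoetherian X.hom
  have hps : B.psLocus = B.sLocus ∩ {x | sd a x ≤ 0} := by
    ext x
    exact isProperlyStablePt_iff B x
  let Us : X.left.Opens := ⟨B.sLocus, isOpen_sLocus B⟩
  let U : X.left.Opens := ⟨B.psLocus, by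
    rw [hps]
    exact (isOpen_sLocus B).inter (isOpen_sd_le a 0)⟩
  refine ⟨U, rfl, fun aP jU hjU hact => ?_⟩
  obtain ⟨aS, haS⟩ := exists_aS (B := B) Us rfl
  obtain ⟨Z, φs, h1, h2, h3, h4⟩ := exists_stableQuot h31 h32 h33 h13 hG Us rfl haS
  have hle : U ≤ Us := fun x hx => by
    have : x ∈ B.psLocus := hx
    rw [hps] at this
    exact this.1
  have hj : incLE X hle ≫ inc X Us = jU := by
    rw [incLE_inc]
    ext1
    exact hjU.symm
  have hact' : aP.act ≫ incLE X hle = (G ◁ incLE X hle) ≫ aS.act := by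
    rw [← cancel_mono (inc X Us), Category.assoc, hj, hact, Category.assoc, haS,
      ← MonoidalCategory.whiskerLeft_comp_assoc, hj]
  have hop : IsOpenImmersion (incLE X hle).left := inferInstanceAs (IsOpenImmersion (X.left.homOfLE hle))
  have hlS : LocallyOfFiniteType (op X Us).hom := inferInstanceAs (LocallyOfFiniteType (Us.ι ≫ X.hom))
  have hqS : QuasiCompact (op X Us).hom := by
    have hN : IsLocallyNoetherian X.left := LocallyOfFiniteType.isLocallyNoetherian X.hom
    have hc : CompactSpace X.left := (quasiCompact_iff_compactSpace X.hom).1 inferInstance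
    have hNo : IsNoetherian X.left := {}
    rw [quasiCompact_iff_compactSpace]
    have : TopologicalSpace.NoetherianSpace X.left := inferInstance
    exact isCompact_iff_compactSpace.mp (TopologicalSpace.NoetherianSpace.isCompact (Us : Set X.left))
  refine isProper_of_open h37 hG h1 (incLE X hle) hact' fun p => ?_
  rw [sd_mono (inc X Us) haS]
  have h5 : (inc X Us).left ((incLE X hle).left p) = jU.left p := by
    rw [← Scheme.Hom.comp_apply, ← Over.comp_left, hj]
  rw [h5, hjU]
  have h6 : U.ι p ∈ B.psLocus := p.2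
  rw [hps] at h6
  exact h6.2

end Red

end K689.St719
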