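import Groth.Agent.GIT.K689.St719
import Groth.Agent.GIT.K689.AmpSep

/-!
# Affine geometric quotients and proper actions when the generic stabiliser is finite
-/

set_option autoImplicit false

universe u

open CategoryTheory CategoryTheory.Limits MonoidalCategory CartesianMonoidalCategory MonObj AlgebraicGeometry
  TopologicalSpace Topology

namespace K689.St725

open K688.ActRes K689.Ifc K689.StabDim K689.StabTrans K689.St715 K689.StabFin K689.St719

section Gen

variable {S : Scheme.{u}} {G X : Over S} [GrpObj G] {a : AlgGrp.Action G X}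

/-- a scheme with a proper action is separated -/
theorem isSeparated_of_isProper_psi [IsSeparated G.hom] (h : IsProper (GIT.psi a (𝟙 X)).left) :
    IsSeparated X.hom := by
  have h1 : lift (toUnit X ≫ η[G]) (𝟙 X) ≫ GIT.psi a (𝟙 X) = lift (𝟙 X) (𝟙 X) := by
    apply CartesianMonoidalCategory.hom_ext
    · have h2 : lift (toUnit X ≫ η[G]) (𝟙 X) = (λ_ X).inv ≫ (η[G] ▷ X) := by
        apply CartesianMonoidalCategory.hom_ext <;> simp
      rw [Category.assoc]
      simp only [GIT.psi, lift_fst]
      rw [MonoidalCategory.whiskerLeft_id, Category.id_comp, h2, Category.assoc, a.one_act, Iso.inv_hom_id]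
    · simp [GIT.psi]
  have h2 : (lift (toUnit X ≫ η[G]) (𝟙 X)).left ≫ (snd G X).left = 𝟙 X.left := by
    rw [← Over.comp_left, lift_snd, Over.id_left]
  have hs : IsSeparated (snd G X).left := inferInstanceAs (IsSeparated (pullback.snd G.hom X.hom))
  have h3 : IsClosedImmersion (lift (toUnit X ≫ η[G]) (𝟙 X)).left := by
    have : IsClosedImmersion ((lift (toUnit X ≫ η[G]) (𝟙 X)).left ≫ (snd G X).left) := by
      rw [h2]; infer_instance
    exact IsClosedImmersion.of_comp _ (snd G X).left
  have h4 : (lift (𝟙 X) (𝟙 X)).left = pullback.diagonal X.hom := by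
    apply pullback.hom_ext
    · have e1 : (lift (𝟙 X) (𝟙 X) ≫ fst X X).left = 𝟙 X.left := by rw [lift_fst]; rfl
      exact e1.trans (pullback.diagonal_fst X.hom).symm
    · have e1 : (lift (𝟙 X) (𝟙 X) ≫ snd X X).left = 𝟙 X.left := by rw [lift_snd]; rfl
      exact e1.trans (pullback.diagonal_snd X.hom).symm
  have h5 : IsClosed (Set.range (lift (𝟙 X) (𝟙 X)).left) := by
    rw [← h1, Over.comp_left]
    have h6 : Set.range ((lift (toUnit X ≫ η[G]) (𝟙 X)).left ≫ (GIT.psi a (𝟙 X)).left) =
        (GIT.psi a (𝟙 X)).left '' Set.range (lift (toUnit X ≫ η[G]) (𝟙 X)).left := by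
      rw [← Set.range_comp]; rfl
    rw [h6]
    exact (GIT.psi a (𝟙 X)).left.isClosedMap _
      (lift (toUnit X ≫ η[G]) (𝟙 X)).left.isClosedEmbedding.isClosed_range
  refine ⟨?_⟩
  rw [h4] at h5
  exact IsClosedImmersion.of_isPreimmersion _ h5

end Gen

section Red

variable {k : Type u} [Field k] [CharZero k] {G X : Over (Spec (CommRingCat.of k))} [GrpObj G]
  {a : AlgGrp.Action G X}

theorem main14725 (h37 : St11437.{u}) (h29 : St11429.{u}) (hG : Red.IsReductive G) [LocallyOfFiniteType X.hom]
    [QuasiCompact X.hom] (xg : X.left) (hxg : closure ({xg} : Set X.left) = Set.univ) (hσ : sd a xg = 0)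
    (U : X.left.Opens) (aU : AlgGrp.Action G (Over.mk (U.ι ≫ X.hom)))
    (jU : Over.mk (U.ι ≫ X.hom) ⟶ X) (hjU : jU.left = U.ι) (haU : aU.act ≫ jU = (G ◁ jU) ≫ a.act) :
    (∃ (Y : Over (Spec (CommRingCat.of k))) (φ : Over.mk (U.ι ≫ X.hom) ⟶ Y),
        GIT.IsGeomQuot aU φ ∧ IsAffineHom φ.left ∧ LocallyOfFiniteType Y.hom ∧
        ∃ M : Y.left.Modules, CohB1.IsAmple M) ↔
      IsProper (GIT.psi aU (𝟙 (Over.mk (U.ι ≫ X.hom)))).left ∧
        ∃ (Y : Over (Spec (CommRingCat.of k))) (φ : Over.mk (U.ι ≫ X.hom) ⟶ Y),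
          GIT.IsGeomQuot aU φ ∧ LocallyOfFiniteType Y.hom ∧ ∃ M : Y.left.Modules, CohB1.IsAmple M := by
  have hlG : LocallyOfFiniteType G.hom := by
    have := hG.2.1
    infer_instance
  have hqG : QuasiCompact G.hom := by
    have := hG.1
    infer_instance
  have hsG : IsSeparated G.hom := by
    have := hG.1
    infer_instance
  have haG : IsAffine G.left := by
    have := hG.1
    exact isAffine_of_isAffineHom G.hom
  have hNX : IsLocallyNoetherian X.left := LocallyOfFiniteType.isLocallyNoetherian X.hom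
  have hl : LocallyOfFiniteType (op X U).hom := inferInstanceAs (LocallyOfFiniteType (U.ι ≫ X.hom))
  have hcU : CompactSpace (op X U).left := by
    have hc : CompactSpace X.left := (quasiCompact_iff_compactSpace X.hom).1 inferInstance
    have hNo : IsNoetherian X.left := {}
    have : TopologicalSpace.NoetherianSpace X.left := inferInstance
    exact isCompact_iff_compactSpace.mp (TopologicalSpace.NoetherianSpace.isCompact (U : Set X.left))
  have hq : QuasiCompact (op X U).hom := (quasiCompact_iff_compactSpace (op X U).hom).2 hcU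
  have hNU : IsLocallyNoetherian (op X U).left := LocallyOfFiniteType.isLocallyNoetherian (op X U).hom
  have hop : IsOpenImmersion jU.left := by rw [hjU]; infer_instance
  have hm : Mono jU := mono_of_isOpenImmersion jU
  constructor
  · rintro ⟨Y, φ, h1, h2, h3, M, h4⟩
    refine ⟨?_, Y, φ, h1, h3, M, h4⟩
    have hsY : IsSeparated Y.hom := AmpSep.isSeparated_of_isAmple Y.hom h4
    have hqY : QuasiCompact Y.hom := (quasiCompact_iff_compactSpace Y.hom).2 h4.2.1
    have hsU : IsSeparated (op X U).hom := by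
      have : IsSeparated (φ.left ≫ Y.hom) := inferInstance
      rw [Over.w] at this
      exact this
    -- the stabilisers
    have hd : ∀ x : (op X U).left, sd aU x ≤ 0 := by
      intro x
      obtain ⟨W, hxW, hW⟩ := exists_open_const aU h1.inv h1.orbit x
      have h5 : IsOpen (jU.left '' (W : Set (op X U).left)) := jU.left.isOpenEmbedding.isOpenMap _ W.2
      have h6 : xg ∈ jU.left '' (W : Set (op X U).left) := by
        have h7 : (jU.left x) ∈ closure ({xg} : Set X.left) := by rw [hxg]; trivial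
        obtain ⟨y, hy1, hy2⟩ := mem_closure_iff.1 h7 _ h5 ⟨x, hxW, rfl⟩
        rw [Set.mem_singleton_iff.1 hy2] at hy1
        exact hy1
      obtain ⟨z, hz, hzx⟩ := h6
      rw [← hW z hz, sd_mono jU haU, hzx, hσ]
    have hlqf : LocallyQuasiFinite (GLinSh.stabTo aU (𝟙 (op X U))) := lqf_stabTo_id aU hd
    exact @h37 k _ _ G (op X U) Y _ hG _ _ _ _ _ _ aU hlqf φ h1 _
  · rintro ⟨h0, Y, φ, h1, h3, M, h4⟩
    refine ⟨Y, φ, h1, ?_, h3, M, h4⟩
    have hsY : IsSeparated Y.hom := AmpSep.isSeparated_of_isAmple Y.hom h4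
    have hqY : QuasiCompact Y.hom := (quasiCompact_iff_compactSpace Y.hom).2 h4.2.1
    have hsU : IsSeparated (op X U).hom := isSeparated_of_isProper_psi h0
    exact @h29 k _ G (op X U) Y _ _ _ _ _ _ _ _ _ aU h0 φ h1

end Red

end K689.St725
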