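import Groth.Agent.GIT.K689.StabBC
import Groth.Agent.GIT.K686.Orbit
import Groth.Agent.SGA3.K203.DimFib
import Groth.Agent.Sga3B.DimFib
import Groth.Agent.S9358
import Groth.Agent.S0402

/-!
# Dimension of stabilisers and geometric quotients
-/

set_option autoImplicit false

universe u

open CategoryTheory CategoryTheory.Limits MonoidalCategory CartesianMonoidalCategory MonObj AlgebraicGeometry
  TopologicalSpace Topology

namespace K689.StabDim

open K689.StabBC Groth.Agent.CycB.RelDim Groth.Agent.Fdesc.GrpDimHom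

section Gen

variable {S : Scheme.{u}} {G X : Over S} [GrpObj G] (a : AlgGrp.Action G X)

/-- the canonical point with values in the residue field -/
noncomputable def pt (x : X.left) : Over.mk (X.left.fromSpecResidueField x ≫ X.hom) ⟶ X :=
  Over.homMk (X.left.fromSpecResidueField x) rfl

/-- the dimension of the stabiliser of a point -/
noncomputable def sd (x : X.left) : WithBot ℕ∞ := topologicalKrullDim (GLinSh.stab a (pt x))

/-- the universal stabiliser -/
noncomputable def St : Over X.left := K408.OrbDim.stab (bact X a) (bpt (𝟙 X))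

theorem exists_isPullback_St {T : Over S} (f : T ⟶ X) : ∃ m : GLinSh.stab a f ⟶ (St a).left,
    IsPullback m (GLinSh.stabTo a f) (St a).hom f.left := by
  have h0 : f ≫ 𝟙 X = f := Category.comp_id f
  obtain ⟨e, he⟩ := exists_stabIso a (𝟙 X)
  have h1 := exists_isPullback_stab a (𝟙 X) f
  rw [h0] at h1
  obtain ⟨m, hm⟩ := h1
  refine ⟨m ≫ e.inv, ?_⟩
  refine IsPullback.of_iso hm (Iso.refl _) e.symm (Iso.refl _) (Iso.refl _) ?_ ?_ ?_ ?_
  · simp
  · simp
  · rw [Iso.refl_hom, Category.comp_id]
    exact (Iso.eq_inv_comp e).2 he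
  · simp

theorem lft_St [LocallyOfFiniteType G.hom] : LocallyOfFiniteType (St a).hom := by
  have h0 : LocallyOfFiniteType (Red.bc X.hom G).hom :=
    inferInstanceAs (LocallyOfFiniteType (pullback.snd G.hom X.hom))
  have h1 : LocallyOfFiniteType ((bact X a).orbitMap (bpt (𝟙 X))).left := by
    have : LocallyOfFiniteType (((bact X a).orbitMap (bpt (𝟙 X))).left ≫ (Red.bc X.hom X).hom) := by
      rw [Over.w]; exact h0
    exact locallyOfFiniteType_of_comp _ (Red.bc X.hom X).hom
  have h2 : LocallyOfFiniteType (pullback.snd ((bact X a).orbitMap (bpt (𝟙 X))).left (bpt (𝟙 X)).left) :=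
    inferInstance
  change LocallyOfFiniteType (pullback.fst _ _ ≫ (Red.bc X.hom G).hom)
  rw [K408.OrbDim.fst_hom]
  exact h2

theorem sd_eq (x : X.left) : sd a x = topologicalKrullDim ↥((St a).hom ⁻¹' {x}) := by
  obtain ⟨m, hm⟩ := exists_isPullback_St a (pt x)
  rw [← Groth.Agent.S3022.dim_fiber]
  let e : GLinSh.stab a (pt x) ≅ (St a).hom.fiber x := hm.isoPullback
  exact IsHomeomorph.topologicalKrullDim_eq e.hom.homeomorph e.hom.homeomorph.isHomeomorph

theorem isOpen_sd_le [LocallyOfFiniteType G.hom] (d : ℕ) : IsOpen {x : X.left | sd a x ≤ d} := by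
  have := lft_St a
  let _ : GrpObj (St a) := K408.OrbDim.stabGrp (bact X a) (bpt (𝟙 X))
  have h := K203.DimFib.isOpen_dim_le (St a) d
  have h2 : {x : X.left | sd a x ≤ d} = {t : X.left | topologicalKrullDim ↥((St a).hom ⁻¹' {t}) ≤ d} := by
    ext x
    rw [Set.mem_ofPred_eq, sd_eq]
    rfl
  rw [h2]
  exact h

end Gen

section Field

variable {k : Type u} [Field k] {G X Y : Over (Spec (CommRingCat.of k))} [GrpObj G] (a : AlgGrp.Action G X) {φ : X ⟶ Y}
  {K : Type u} [Field K] (t : Spec (CommRingCat.of K) ⟶ Spec (CommRingCat.of k)) (f : Over.mk t ⟶ X)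

/-- the dimension of the stabiliser -/
theorem dim_stab_eq : topologicalKrullDim (GLinSh.stab a f) =
    topologicalKrullDim (K408.OrbDim.stab (bact (Over.mk t) a) (bpt f)).left := by
  obtain ⟨e, -⟩ := exists_stabIso a f
  exact (IsHomeomorph.topologicalKrullDim_eq e.hom.homeomorph e.hom.homeomorph.isHomeomorph).symm

/-- the relation between the dimension of the stabiliser and the dimension of the fibre of a quotient map -/
theorem exists_dims [LocallyOfFiniteType G.hom] [LocallyOfFiniteType X.hom]
    (hi : GIT.IsInvariant a φ) (ho : Function.Surjective (GIT.PsiY a φ hi).base) (x : X.left)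
    (hx : x ∈ Set.range f.left) :
    ∃ n e d : ℕ, topologicalKrullDim (GLinSh.stab a f) = n ∧ FlatMor.fibreDimAt φ.left x = e ∧ e + n = d ∧
      topologicalKrullDim G.left = d := by
  have hlφ : LocallyOfFiniteType φ.left := by
    have : LocallyOfFiniteType (φ.left ≫ Y.hom) := by rw [Over.w]; infer_instance
    exact locallyOfFiniteType_of_comp _ Y.hom
  have hsub : Subsingleton (Over.mk t).left := inferInstanceAs (Subsingleton (PrimeSpectrum K))
  have hlG : LocallyOfFiniteType (Red.bc t G).hom := inferInstanceAs (LocallyOfFiniteType (pullback.snd G.hom t))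
  have hlX : LocallyOfFiniteType (Red.bc t X).hom := inferInstanceAs (LocallyOfFiniteType (pullback.snd X.hom t))
  obtain ⟨d, hd, hdg⟩ := rtd_eq (Red.bc t G)
  have hdim : topologicalKrullDim G.left = d := by
    rw [← hd]
    exact (Groth.Agent.Sga3B.DimFib.topologicalKrullDim_baseChange_eq (k := CommRingCat.of k)
      (Ω := CommRingCat.of K) (Field.toIsField k) (Field.toIsField K) G.hom t (pullback.fst _ _) (pullback.snd _ _)
      (IsPullback.of_hasPullback _ _)).symm
  have hlG' : LocallyOfFiniteType (Red.bc (Over.mk t).hom G).hom := hlG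
  obtain ⟨n, hn, hng⟩ := @K408.OrbDim.rtd_orb_eq K _ (Red.bc (Over.mk t).hom G) (Red.bc (Over.mk t).hom X) _ hlG'
    (bact (Over.mk t) a) (bpt f)
  let p : (X ⊗ Over.mk t).left ⟶ (Y ⊗ Over.mk t).left := (φ ▷ Over.mk t).left
  let σ : (Over.mk t).left ⟶ (Y ⊗ Over.mk t).left := (lift (f ≫ φ) (𝟙 (Over.mk t))).left
  have hσ : σ ≫ (snd Y (Over.mk t)).left = 𝟙 (Over.mk t).left := by
    have : (lift (f ≫ φ) (𝟙 (Over.mk t)) ≫ snd Y (Over.mk t)).left = 𝟙 (Over.mk t).left := by
      rw [lift_snd]; rfl
    exact this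
  have hp : p ≫ (snd Y (Over.mk t)).left = (snd X (Over.mk t)).left := by
    have : (φ ▷ Over.mk t ≫ snd Y (Over.mk t)).left = (snd X (Over.mk t)).left := by
      rw [whiskerRight_snd]
    exact this
  have hcl : IsClosedImmersion σ := isClosedImmersion_of_comp_eq_id (snd Y (Over.mk t)).left σ hσ
  let j : pullback p σ ⟶ (X ⊗ Over.mk t).left := pullback.fst p σ
  let q : pullback p σ ⟶ (Over.mk t).left := pullback.snd p σ
  have hj : IsClosedImmersion j := inferInstanceAs (IsClosedImmersion (pullback.fst p σ))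
  have hcomm : (GIT.psi a f).left ≫ p = (snd G (Over.mk t)).left ≫ σ := by
    have := congrArg Over.Hom.left (K686.Orbit.psi_comp_whisker hi f)
    rw [Over.comp_left, Over.comp_left] at this
    exact this
  let h : (G ⊗ Over.mk t).left ⟶ pullback p σ := pullback.lift (GIT.psi a f).left (snd G (Over.mk t)).left hcomm
  have hh : h ≫ j = (GIT.psi a f).left := pullback.lift_fst _ _ _
  have hh' : h ≫ q = (snd G (Over.mk t)).left := pullback.lift_snd _ _ _
  have hsurj : Function.Surjective h := by
    intro z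
    have h1 : j z ∈ Set.range (GIT.psi a f).left := by
      rw [K686.Orbit.range_psi hi ho f]
      refine ⟨q z, ?_⟩
      have := congrArg (fun m : pullback p σ ⟶ (Y ⊗ Over.mk t).left => m z) (pullback.condition (f := p) (g := σ))
      rw [← Scheme.Hom.comp_apply]
      exact this.symm
    obtain ⟨g, hg⟩ := h1
    refine ⟨g, j.isClosedEmbedding.injective ?_⟩
    rw [← hg, ← hh, Scheme.Hom.comp_apply]
  have hq2 : j ≫ (snd X (Over.mk t)).left = q := by
    have h1 : j ≫ p = q ≫ σ := pullback.condition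
    rw [← hp, ← Category.assoc, h1, Category.assoc, hσ, Category.comp_id]
  have hlq : LocallyOfFiniteType q := by
    rw [← hq2]
    have : LocallyOfFiniteType (snd X (Over.mk t)).left := inferInstanceAs (LocallyOfFiniteType (pullback.snd X.hom t))
    infer_instance
  -- generic points
  have key : ∀ ξ : (Red.bc t G).left, IsGen ξ → rtd q (h ξ) + n = d := by
    intro ξ hξ
    have h1 := hdg ξ hξ
    have h2 := hng ξ hξ
    have h3 : (Red.bc t G).hom = h ≫ q := hh'.symm
    have h4 : ((bact (Over.mk t) a).orbitMap (bpt f)).left = h ≫ j := (orbitMap_left a f).trans hh.symm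
    rw [h3, rtd_comp] at h1
    rw [h4, rtd_comp, rtd_eq_zero_of_isPreimmersion j, zero_add] at h2
    rw [← h1]
    congr 1
    exact h2.symm
  obtain ⟨ξ₀, hξ₀, -⟩ := K408.OrbDim.exists_gen (Red.bc t G) ((η[Red.bc t G] : 𝟙_ (Over (Spec (CommRingCat.of K))) ⟶ Red.bc t G).left (IsLocalRing.closedPoint K))
  obtain ⟨e, he⟩ := Cardinal.lt_aleph0.1 (rtd_lt_aleph0 q (h ξ₀))
  have hen : e + n = d := by
    have := key ξ₀ hξ₀
    rw [he] at this
    exact_mod_cast this
  have hrel : Cyc.HasRelDim q e := by
    rw [hasRelDim_iff]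
    intro z hz
    obtain ⟨g, rfl⟩ := hsurj z
    obtain ⟨ξ, hξ, hξg⟩ := K408.OrbDim.exists_gen (Red.bc t G) g
    have h1 : h ξ = h g := hz _ (Subsingleton.elim _ _) (hξg.map h.continuous)
    rw [← h1]
    obtain ⟨e', he'⟩ := Cardinal.lt_aleph0.1 (rtd_lt_aleph0 q (h ξ))
    have := key ξ hξ
    rw [he'] at this ⊢
    have h2 : e' + n = d := by exact_mod_cast this
    have h3 : e' = e := by omega
    rw [h3]
  have hpb : IsPullback (j ≫ (fst X (Over.mk t)).left) q φ.left (f ≫ φ).left := by
    have h1 : IsPullback j q p σ := IsPullback.of_hasPullback _ _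
    have h2 : IsPullback (fst X (Over.mk t)).left p φ.left (fst Y (Over.mk t)).left :=
      (K686.Whisk.isPullback_whiskerRight_left φ (Over.mk t)).flip
    have h3 := h1.paste_horiz h2
    have h4 : σ ≫ (fst Y (Over.mk t)).left = (f ≫ φ).left := by
      have : (lift (f ≫ φ) (𝟙 (Over.mk t)) ≫ fst Y (Over.mk t)).left = (f ≫ φ).left := by rw [lift_fst]
      exact this
    rw [h4] at h3
    exact h3
  refine ⟨n, e, d, ?_, ?_, hen, hdim⟩
  · rw [dim_stab_eq, hn]
  · rw [K582.FibRelDim.hasRelDim_iff] at hrel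
    obtain ⟨w, rfl⟩ := hx
    have hw : (lift f (𝟙 (Over.mk t))).left ≫ p = 𝟙 _ ≫ σ := by
      rw [Category.id_comp]
      have : (lift f (𝟙 (Over.mk t)) ≫ φ ▷ Over.mk t).left = (lift (f ≫ φ) (𝟙 (Over.mk t))).left := by
        rw [lift_whiskerRight]
      exact this
    let z₀ : ↥(pullback p σ) := (pullback.lift (lift f (𝟙 (Over.mk t))).left (𝟙 _) hw) w
    have h1 := (Groth.Agent.S9358.result φ.left (f ≫ φ).left _ q hpb e).1 z₀
    rw [hrel z₀] at h1
    rw [h1]
    congr 1
    have h2 : pullback.lift (lift f (𝟙 (Over.mk t))).left (𝟙 _) hw ≫ j ≫ (fst X (Over.mk t)).left = f.left := by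
      have h3 : pullback.lift (lift f (𝟙 (Over.mk t))).left (𝟙 _) hw ≫ j = (lift f (𝟙 (Over.mk t))).left :=
        pullback.lift_fst _ _ _
      rw [← Category.assoc, h3, ← Over.comp_left, lift_fst]
    change f.left w = (j ≫ (fst X (Over.mk t)).left) z₀
    rw [← h2]
    rfl

/-- points of a scheme with a geometric quotient are regular for the action -/
theorem exists_open_const [LocallyOfFiniteType G.hom] [LocallyOfFiniteType X.hom]
    (hi : GIT.IsInvariant a φ) (ho : Function.Surjective (GIT.PsiY a φ hi).base) (x : X.left) :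
    ∃ W : X.left.Opens, x ∈ W ∧ ∀ y ∈ W, sd a y = sd a x := by
  have hlφ : LocallyOfFiniteType φ.left := by
    have : LocallyOfFiniteType (φ.left ≫ Y.hom) := by rw [Over.w]; infer_instance
    exact locallyOfFiniteType_of_comp _ Y.hom
  have key : ∀ y : X.left, ∃ n e d : ℕ, sd a y = n ∧ FlatMor.fibreDimAt φ.left y = e ∧ e + n = d ∧
      topologicalKrullDim G.left = d := fun y =>
    exists_dims a (K := X.left.residueField y) (X.left.fromSpecResidueField y ≫ X.hom) (pt y) hi ho y (by
      have h1 : Set.range (X.left.fromSpecResidueField y) = {y} := X.left.range_fromSpecResidueField y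
      change y ∈ Set.range (X.left.fromSpecResidueField y)
      rw [h1]
      rfl)
  choose n e d hn he hed hd using key
  refine ⟨⟨{y | sd a y ≤ n x} ∩ {y | FlatMor.fibreDimAt φ.left y ≤ e x},
    (isOpen_sd_le a (n x)).inter (Groth.Agent.S0402.result φ.left (e x))⟩, ⟨(hn x).le, (he x).le⟩, ?_⟩
  rintro y ⟨h1, h2⟩
  change sd a y ≤ n x at h1
  change FlatMor.fibreDimAt φ.left y ≤ e x at h2
  rw [hn] at h1
  rw [he] at h2
  have h3 : n y ≤ n x := by exact_mod_cast h1
  have h4 : e y ≤ e x := by exact_mod_cast h2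
  have h5 : d y = d x := by
    have := (hd y).symm.trans (hd x)
    exact_mod_cast this
  have h6 := hed x
  have h7 := hed y
  have h8 : n y = n x := by omega
  rw [hn, hn, h8]

end Field

end K689.StabDim
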