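import Groth.Agent.GIT.K689.StabTrans
import Groth.Agent.S10832

/-!
# Finite stabilisers
-/

set_option autoImplicit false

universe u

open CategoryTheory CategoryTheory.Limits MonoidalCategory CartesianMonoidalCategory MonObj AlgebraicGeometry
  TopologicalSpace Topology

namespace K689.StabFin

open K689.StabBC K689.StabDim K689.StabTrans

theorem dim_nonneg (T : Type*) [TopologicalSpace T] [Nonempty T] : 0 ≤ topologicalKrullDim T := by
  have : Nonempty (IrreducibleCloseds T) :=
    ⟨⟨closure {Classical.arbitrary T}, isIrreducible_singleton.closure, isClosed_closure⟩⟩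
  exact Order.krullDim_nonneg

theorem isFinite_of_iso {A B C : Scheme.{u}} (e : A ≅ B) (f : B ⟶ C) (g : A ⟶ C) (h : e.hom ≫ f = g) :
    IsFinite f ↔ IsFinite g := by
  constructor
  · intro hf
    rw [← h]
    infer_instance
  · intro hg
    have h3 : f = e.inv ≫ g := by rw [← h, Iso.inv_hom_id_assoc]
    rw [h3]
    infer_instance

section Gen

variable {S : Scheme.{u}} {G X : Over S} [GrpObj G] (a : AlgGrp.Action G X)

theorem qc_St [QuasiCompact G.hom] [QuasiSeparated X.hom] : QuasiCompact (St a).hom := by
  have h0 : QuasiCompact (Red.bc X.hom G).hom :=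
    inferInstanceAs (QuasiCompact (pullback.snd G.hom X.hom))
  have h00 : QuasiSeparated (Red.bc X.hom X).hom :=
    inferInstanceAs (QuasiSeparated (pullback.snd X.hom X.hom))
  have h1 : QuasiCompact ((bact X a).orbitMap (bpt (𝟙 X))).left := by
    have : QuasiCompact (((bact X a).orbitMap (bpt (𝟙 X))).left ≫ (Red.bc X.hom X).hom) := by
      rw [Over.w]; exact h0
    exact QuasiCompact.of_comp _ (Red.bc X.hom X).hom
  have h2 : QuasiCompact (pullback.snd ((bact X a).orbitMap (bpt (𝟙 X))).left (bpt (𝟙 X)).left) :=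
    inferInstance
  change QuasiCompact (pullback.fst _ _ ≫ (Red.bc X.hom G).hom)
  rw [K408.OrbDim.fst_hom]
  exact h2

theorem qc_stabTo [QuasiCompact G.hom] [QuasiSeparated X.hom] {T : Over S} (f : T ⟶ X) :
    QuasiCompact (GLinSh.stabTo a f) := by
  obtain ⟨m, hm⟩ := exists_isPullback_St a f
  have := qc_St a
  exact MorphismProperty.of_isPullback hm this

theorem nonempty_stab {T : Over S} [Nonempty T.left] (f : T ⟶ X) : Nonempty (GLinSh.stab a f) := by
  obtain ⟨e, -⟩ := exists_stabIso a f
  let _ : GrpObj (K408.OrbDim.stab (bact T a) (bpt f)) := K408.OrbDim.stabGrp (bact T a) (bpt f)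
  let i : T.left ⟶ (K408.OrbDim.stab (bact T a) (bpt f)).left :=
    (η[K408.OrbDim.stab (bact T a) (bpt f)] : 𝟙_ (Over T.left) ⟶ _).left
  exact ⟨e.hom (i (Classical.arbitrary T.left))⟩

/-- over a field: finite stabiliser iff zero-dimensional stabiliser -/
theorem isFinite_stabTo_iff [LocallyOfFiniteType G.hom] [QuasiCompact G.hom] [QuasiSeparated X.hom]
    {Ω : Type u} [Field Ω] {T : Over S} (e : T.left ≅ Spec (CommRingCat.of Ω)) (f : T ⟶ X) :
    IsFinite (GLinSh.stabTo a f) ↔ topologicalKrullDim (GLinSh.stab a f) ≤ 0 := by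
  have hne : Nonempty T.left := ⟨e.inv (IsLocalRing.closedPoint Ω)⟩
  have h1 := nonempty_stab a f
  have h2 := lft_stabTo (a := a) f
  have h3 := qc_stabTo a f
  have ht := Groth.Agent.S10832.result Ω (GLinSh.stabTo a f ≫ e.hom)
  have h03 := ht.out 0 3
  have hpos : (0 : WithBot ℕ∞) ≤ topologicalKrullDim (GLinSh.stab a f) :=
    dim_nonneg _
  constructor
  · intro hf
    have h4 : Finite (GLinSh.stab a f) := by
      have hs : ∀ x : GLinSh.stab a f, x ∈ GLinSh.stabTo a f ⁻¹' {Classical.arbitrary T.left} := fun x => by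
        have : Subsingleton T.left := by
          have : Subsingleton (Spec (CommRingCat.of Ω)) := inferInstanceAs (Subsingleton (PrimeSpectrum Ω))
          exact (e.hom.homeomorph.toEquiv).subsingleton
        exact Subsingleton.elim _ _
      have := (GLinSh.stabTo a f).finite_preimage_singleton (Classical.arbitrary T.left)
      exact Set.finite_univ_iff.1 (this.subset fun x _ => hs x)
    exact (h03.2 h4).le
  · intro h
    have h4 : Finite (GLinSh.stab a f) := h03.1 (le_antisymm h hpos)
    have h5 : LocallyQuasiFinite (GLinSh.stabTo a f) :=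
      LocallyQuasiFinite.of_finite_preimage_singleton _ fun x => Set.toFinite _
    have h6 : IsLocallyArtinian T.left := by
      have : IsLocallyArtinian (Spec (CommRingCat.of Ω)) := inferInstance
      exact IsLocallyArtinian.of_locallyQuasiFinite e.hom
    exact IsFinite.of_locallyQuasiFinite _

/-- the universal stabiliser is quasi-finite iff all stabilisers are zero-dimensional -/
theorem lqf_iff [LocallyOfFiniteType G.hom] [QuasiCompact G.hom] [QuasiSeparated X.hom] :
    LocallyQuasiFinite (St a).hom ↔ ∀ x, sd a x ≤ 0 := by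
  have hl := lft_St a
  have hq := qc_St a
  rw [locallyQuasiFinite_iff_isFinite_fiber]
  refine forall_congr' fun x => ?_
  obtain ⟨m, hm⟩ := exists_isPullback_St a (pt x)
  have h1 := isFinite_stabTo_iff a (Ω := X.left.residueField x)
    (T := Over.mk (X.left.fromSpecResidueField x ≫ X.hom)) (Iso.refl _) (pt x)
  have h2 : hm.isoPullback.hom ≫ (St a).hom.fiberToSpecResidueField x = GLinSh.stabTo a (pt x) :=
    hm.isoPullback_hom_snd
  exact (isFinite_of_iso hm.isoPullback _ _ h2).trans h1

/-- the stabiliser of the canonical point `𝟙 X` -/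
theorem lqf_stabTo_id [LocallyOfFiniteType G.hom] [QuasiCompact G.hom] [QuasiSeparated X.hom]
    (h : ∀ x, sd a x ≤ 0) : LocallyQuasiFinite (GLinSh.stabTo a (𝟙 X)) := by
  obtain ⟨m, hm⟩ := exists_isPullback_St a (𝟙 X)
  have := (lqf_iff a).2 h
  exact MorphismProperty.of_isPullback hm this

/-- properly stable points -/
theorem isProperlyStablePt_iff [LocallyOfFiniteType G.hom] [QuasiCompact G.hom] [QuasiSeparated X.hom]
    {a : AlgGrp.Action G X} (B : GLinSh.LinBun G a) (x : X.left) :
    B.IsProperlyStablePt x ↔ B.IsStablePt x ∧ sd a x ≤ 0 := by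
  constructor
  · rintro ⟨h1, h2⟩
    refine ⟨h1, ?_⟩
    let κ := X.left.residueField x
    let Ω := AlgebraicClosure κ
    let b : Spec (CommRingCat.of Ω) ⟶ Spec (X.left.residueField x) := Spec.map (CommRingCat.ofHom (algebraMap κ Ω))
    let T : Over S := Over.mk (b ≫ X.left.fromSpecResidueField x ≫ X.hom)
    let q : T ⟶ Over.mk (X.left.fromSpecResidueField x ≫ X.hom) := Over.homMk b rfl
    have h3 : Set.range (q ≫ pt x).left.base = {x} := by
      have h4 : Set.range (X.left.fromSpecResidueField x) = {x} := X.left.range_fromSpecResidueField x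
      apply Set.Subset.antisymm
      · rintro _ ⟨w, rfl⟩
        rw [← h4]
        exact ⟨b w, rfl⟩
      · rw [Set.singleton_subset_iff]
        have h5 : (q ≫ pt x).left (IsLocalRing.closedPoint Ω) ∈ Set.range (X.left.fromSpecResidueField x) :=
          ⟨b (IsLocalRing.closedPoint Ω), rfl⟩
        rw [h4] at h5
        exact ⟨_, h5⟩
    have h4 := h2 Ω T (Iso.refl _) (q ≫ pt x) h3
    rw [isFinite_stabTo_iff a (Ω := Ω) (T := T) (Iso.refl _)] at h4
    have h5 := dim_stab_bc' (a := a) (isField_residueField X.left x) (Field.toIsField Ω)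
      (T := Over.mk (X.left.fromSpecResidueField x ≫ X.hom)) (T' := T) (Iso.refl _) (Iso.refl _) q (pt x)
    rw [h5] at h4
    exact h4
  · rintro ⟨h1, h2⟩
    refine ⟨h1, fun Ω _ _ T e f hf => ?_⟩
    rw [isFinite_stabTo_iff a e]
    let g : Spec (CommRingCat.of Ω) ⟶ X.left := e.inv ≫ f.left
    have hg : g (IsLocalRing.closedPoint Ω) = x := by
      have : g (IsLocalRing.closedPoint Ω) ∈ Set.range f.left.base := ⟨e.inv (IsLocalRing.closedPoint Ω), rfl⟩
      rw [hf] at this
      exact this
    subst hg
    let b : Spec (CommRingCat.of Ω) ⟶ Spec (X.left.residueField (g (IsLocalRing.closedPoint Ω))) :=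
      Spec.map (Scheme.descResidueField (Scheme.stalkClosedPointTo g))
    have hb : b ≫ X.left.fromSpecResidueField (g (IsLocalRing.closedPoint Ω)) = g :=
      Scheme.descResidueField_stalkClosedPointTo_fromSpecResidueField Ω X.left g
    let q : T ⟶ Over.mk (X.left.fromSpecResidueField (g (IsLocalRing.closedPoint Ω)) ≫ X.hom) :=
      Over.homMk (e.hom ≫ b) (by
        change (e.hom ≫ b) ≫ X.left.fromSpecResidueField (g (IsLocalRing.closedPoint Ω)) ≫ X.hom = T.hom
        rw [Category.assoc, ← Category.assoc b, hb, ← Over.w f]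
        simp [g])
    have hq : q ≫ pt (g (IsLocalRing.closedPoint Ω)) = f := by
      ext1
      change (e.hom ≫ b) ≫ X.left.fromSpecResidueField (g (IsLocalRing.closedPoint Ω)) = f.left
      rw [Category.assoc, hb]
      simp [g]
    have h5 := dim_stab_bc' (a := a) (isField_residueField X.left (g (IsLocalRing.closedPoint Ω)))
      (Field.toIsField Ω) (L := CommRingCat.of Ω)
      (T := Over.mk (X.left.fromSpecResidueField (g (IsLocalRing.closedPoint Ω)) ≫ X.hom)) (T' := T)
      (Iso.refl _) e q (pt _)
    rw [hq] at h5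
    rw [h5]
    exact h2

end Gen

end K689.StabFin
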