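import Groth.Agent.GIT.K689.StabFin
import Groth.Agent.GIT.K689.ActBasic
import Groth.Agent.S19519

/-!
# Stabilisers along orbits; actions with stabilisers of constant dimension have closed orbits
-/

set_option autoImplicit false

universe u

open CategoryTheory CategoryTheory.Limits MonoidalCategory CartesianMonoidalCategory MonObj AlgebraicGeometry
  TopologicalSpace Topology

namespace K689.StabOrb

open K689.StabBC K689.StabDim K689.StabTrans K689.StabFin K689.ActBasic

section Gen

variable {S : Scheme.{u}} {G X : Over S} [GrpObj G] (a : AlgGrp.Action G X)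

/-- the orbit of `g · f` is contained in the orbit of `f` -/
theorem psi_act {T : Over S} (g : T ⟶ G) (f : T ⟶ X) :
    lift (fst G T * (snd G T ≫ g)) (snd G T) ≫ GIT.psi a f = GIT.psi a (lift g f ≫ a.act) := by
  apply CartesianMonoidalCategory.hom_ext
  · have e1 : lift (fst G T * (snd G T ≫ g)) (snd G T) ≫ (G ◁ f) =
        lift (fst G T * (snd G T ≫ g)) (snd G T ≫ f) := by
      apply CartesianMonoidalCategory.hom_ext <;> simp
    have e2 : G ◁ (lift g f ≫ a.act) = lift (fst G T) (lift (snd G T ≫ g) (snd G T ≫ f) ≫ a.act) := by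
      apply CartesianMonoidalCategory.hom_ext
      · simp
      · rw [lift_snd, whiskerLeft_snd, ← Category.assoc, comp_lift]
    rw [Category.assoc]
    simp only [GIT.psi, lift_fst]
    rw [← Category.assoc, e1, lift_mul_act, e2]
  · simp [GIT.psi]

theorem range_psi_act_subset {T : Over S} (g : T ⟶ G) (f : T ⟶ X) :
    Set.range (GIT.psi a (lift g f ≫ a.act)).left ⊆ Set.range (GIT.psi a f).left := by
  rw [← psi_act a g f, Over.comp_left]
  rintro _ ⟨z, rfl⟩
  exact ⟨(lift (fst G T * (snd G T ≫ g)) (snd G T)).left z, (Scheme.Hom.comp_apply _ _ _).symm⟩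

theorem range_psi_act {T : Over S} (g : T ⟶ G) (f : T ⟶ X) :
    Set.range (GIT.psi a (lift g f ≫ a.act)).left = Set.range (GIT.psi a f).left := by
  apply Set.Subset.antisymm (range_psi_act_subset a g f)
  have h1 : lift g⁻¹ (lift g f ≫ a.act) ≫ a.act = f := by
    rw [← lift_mul_act, inv_mul_cancel, lift_one_act]
  have h2 := range_psi_act_subset a g⁻¹ (lift g f ≫ a.act)
  rw [h1] at h2
  exact h2

/-- the dimension of the stabiliser of a field valued point -/
theorem dim_stab_eq_sd [LocallyOfFiniteType G.hom] {Ω : Type u} [Field Ω] {T : Over S}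
    (e : T.left ≅ Spec (CommRingCat.of Ω)) (f : T ⟶ X) (w : T.left) :
    topologicalKrullDim (GLinSh.stab a f) = sd a (f.left w) := by
  let g : Spec (CommRingCat.of Ω) ⟶ X.left := e.inv ≫ f.left
  have hg : g (IsLocalRing.closedPoint Ω) = f.left w := by
    have hsub : Subsingleton T.left := by
      have : Subsingleton (Spec (CommRingCat.of Ω)) := inferInstanceAs (Subsingleton (PrimeSpectrum Ω))
      exact (e.hom.homeomorph.toEquiv).subsingleton
    have h1 : e.inv (IsLocalRing.closedPoint Ω) = w := Subsingleton.elim _ _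
    rw [← h1]
    rfl
  rw [← hg]
  let b : Spec (CommRingCat.of Ω) ⟶ Spec (X.left.residueField (g (IsLocalRing.closedPoint Ω))) :=
    Spec.map (Scheme.descResidueField (Scheme.stalkClosedPointTo g))
  have hb : b ≫ X.left.fromSpecResidueField (g (IsLocalRing.closedPoint Ω)) = g :=
    Scheme.descResidueField_stalkClosedPointTo_fromSpecResidueField Ω X.left g
  let q : T ⟶ Over.mk (X.left.fromSpecResidueField (g (IsLocalRing.closedPoint Ω)) ≫ X.hom) :=
    Over.homMk (e.hom ≫ b) (by
      change (e.hom ≫ b) ≫ X.left.fromSpecResidueField (g (IsLocalRing.closedPoint Ω)) ≫ X.hom = T.hom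
      rw [Category.assoc, ← Category.assoc b, hb, ← Over.w f]
      simp [g])
  have hq : q ≫ pt (g (IsLocalRing.closedPoint Ω)) = f := by
    ext1
    change (e.hom ≫ b) ≫ X.left.fromSpecResidueField (g (IsLocalRing.closedPoint Ω)) = f.left
    rw [Category.assoc, hb]
    simp [g]
  have h5 := dim_stab_bc' (a := a) (isField_residueField X.left (g (IsLocalRing.closedPoint Ω)))
    (Field.toIsField Ω) (L := CommRingCat.of Ω)
    (T := Over.mk (X.left.fromSpecResidueField (g (IsLocalRing.closedPoint Ω)) ≫ X.hom)) (T' := T)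
    (Iso.refl _) e q (pt _)
  rw [hq] at h5
  exact h5

end Gen

section Field

variable {k : Type u} [Field k] {G X : Over (Spec (CommRingCat.of k))} [GrpObj G] [LocallyOfFiniteType G.hom]
  [QuasiCompact G.hom] [LocallyOfFiniteType X.hom] [QuasiCompact X.hom] (a : AlgGrp.Action G X)

/-- dimension of orbits and stabilisers of field-valued points -/
theorem dims {K : Type u} [Field K] (t : Spec (CommRingCat.of K) ⟶ Spec (CommRingCat.of k)) (f : Over.mk t ⟶ X) :
    ∃ e n d : ℕ, e + n = d ∧ topologicalKrullDim (Red.bc t G).left = d ∧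
      topologicalKrullDim (GLinSh.stab a f) = n ∧ topologicalKrullDim (Set.range (GIT.psi a f).left) = e := by
  have hlG : LocallyOfFiniteType (Red.bc (Over.mk t).hom G).hom :=
    inferInstanceAs (LocallyOfFiniteType (pullback.snd G.hom t))
  have hqG : QuasiCompact (Red.bc (Over.mk t).hom G).hom := inferInstanceAs (QuasiCompact (pullback.snd G.hom t))
  have hlX : LocallyOfFiniteType (Red.bc (Over.mk t).hom X).hom :=
    inferInstanceAs (LocallyOfFiniteType (pullback.snd X.hom t))
  have hqX : QuasiCompact (Red.bc (Over.mk t).hom X).hom := inferInstanceAs (QuasiCompact (pullback.snd X.hom t))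
  obtain ⟨e, n, d, h1, h2, h3, h4, -⟩ := @K408.OrbDim.core K _ (Red.bc (Over.mk t).hom G) (Red.bc (Over.mk t).hom X) _
    hlG hlX (bact (Over.mk t) a) (bpt f) hqG hqX
  refine ⟨e, n, d, h1, h2, ?_, ?_⟩
  · rw [dim_stab_eq a t f]
    exact h3
  · have h5 : Set.range ((bact (Over.mk t) a).orbitMap (bpt f)).left = Set.range (GIT.psi a f).left := by
      have := orbitMap_left a f
      exact congrArg (fun m : (G ⊗ Over.mk t).left ⟶ (X ⊗ Over.mk t).left => Set.range m) this
    rw [← h4]
    exact congrArg (fun s : Set (X ⊗ Over.mk t).left => topologicalKrullDim s) h5.symm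

/-- the dimension of the stabiliser is constant along orbits -/
theorem sd_act (z : (G ⊗ X).left) : sd a (a.act.left z) = sd a ((snd G X).left z) := by
  let κ := (G ⊗ X).left.residueField z
  let t : Spec (CommRingCat.of κ) ⟶ Spec (CommRingCat.of k) := (G ⊗ X).left.fromSpecResidueField z ≫ (G ⊗ X).hom
  let ζ : Over.mk t ⟶ G ⊗ X := Over.homMk ((G ⊗ X).left.fromSpecResidueField z) rfl
  let w : (Over.mk t).left := IsLocalRing.closedPoint κ
  have hw : ζ.left w = z := by
    have h1 : Set.range ((G ⊗ X).left.fromSpecResidueField z) = {z} := (G ⊗ X).left.range_fromSpecResidueField z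
    have h2 : ζ.left w ∈ Set.range ((G ⊗ X).left.fromSpecResidueField z) := ⟨w, rfl⟩
    rw [h1] at h2
    exact h2
  have hζ : lift (ζ ≫ fst G X) (ζ ≫ snd G X) = ζ := by
    apply CartesianMonoidalCategory.hom_ext <;> simp
  have e1 := dim_stab_eq_sd a (Ω := κ) (T := Over.mk t) (Iso.refl _) (ζ ≫ a.act) w
  have e2 := dim_stab_eq_sd a (Ω := κ) (T := Over.mk t) (Iso.refl _) (ζ ≫ snd G X) w
  have e3 : (ζ ≫ a.act).left w = a.act.left z := by
    rw [← hw]; rfl
  have e4 : (ζ ≫ snd G X).left w = (snd G X).left z := by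
    rw [← hw]; rfl
  rw [e3] at e1
  rw [e4] at e2
  rw [← e1, ← e2]
  obtain ⟨e, n, d, h1, h2, h3, h4⟩ := dims a t (ζ ≫ a.act)
  obtain ⟨e', n', d', h1', h2', h3', h4'⟩ := dims a t (ζ ≫ snd G X)
  have h5 := range_psi_act a (ζ ≫ fst G X) (ζ ≫ snd G X)
  rw [hζ] at h5
  rw [h5, h4'] at h4
  rw [h2] at h2'
  have h6 : e' = e := by exact_mod_cast h4
  have h7 : d = d' := by exact_mod_cast h2'
  rw [h3, h3']
  have h8 : n = n' := by omega
  rw [h8]

/-- if all stabilisers have the same dimension, the orbits are closed -/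
theorem isClosedAction_of_const [Smooth G.hom] (n : WithBot ℕ∞) (hn : ∀ x, sd a x = n) : GIT.IsClosedAction a := by
  -- the case of `T = Spec Ω`
  have key : ∀ (Ω : Type u) [Field Ω] [IsAlgClosed Ω] (t : Spec (CommRingCat.of Ω) ⟶ Spec (CommRingCat.of k))
      (f : Over.mk t ⟶ X), IsClosed (Set.range (GIT.psi a f).left) := by
    intro Ω _ _ t f
    have hsG : Smooth (Red.bc (Over.mk t).hom G).hom := inferInstanceAs (Smooth (pullback.snd G.hom t))
    have hqG : QuasiCompact (Red.bc (Over.mk t).hom G).hom := inferInstanceAs (QuasiCompact (pullback.snd G.hom t))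
    have hlX : LocallyOfFiniteType (Red.bc (Over.mk t).hom X).hom :=
      inferInstanceAs (LocallyOfFiniteType (pullback.snd X.hom t))
    have hqX : QuasiCompact (Red.bc (Over.mk t).hom X).hom := inferInstanceAs (QuasiCompact (pullback.snd X.hom t))
    have hr : ∀ f : Over.mk t ⟶ X, Set.range ((bact (Over.mk t) a).orbitMap (bpt f)).left.base =
        Set.range (GIT.psi a f).left := fun f =>
      congrArg (fun m : (G ⊗ Over.mk t).left ⟶ (X ⊗ Over.mk t).left => Set.range m) (orbitMap_left a f)
    have h := @Groth.Agent.S19519.result Ω _ _ (Red.bc (Over.mk t).hom G) (Red.bc (Over.mk t).hom X) _ hsG hqG hlX hqX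
      (bact (Over.mk t) a) (bpt f) (by
        intro y
        -- `y` comes from a point of `X`
        let g : Over.mk t ⟶ X := Over.homMk (y.left ≫ pullback.fst X.hom t) (by
          rw [Category.assoc, pullback.condition]
          have : y.left ≫ pullback.snd X.hom t = 𝟙 _ := Over.w y
          rw [← Category.assoc, this]
          exact Category.id_comp _)
        have hg : bpt g = y := by
          ext1
          apply pullback.hom_ext
          · exact pullback.lift_fst _ _ _
          · have : y.left ≫ pullback.snd X.hom t = 𝟙 _ := Over.w y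
            exact (pullback.lift_snd _ _ _).trans this.symm
        rw [← hg]
        obtain ⟨e, m, d, h1, h2, h3, h4⟩ := dims a t f
        obtain ⟨e', m', d', h1', h2', h3', h4'⟩ := dims a t g
        have w : (Over.mk t).left := IsLocalRing.closedPoint Ω
        rw [dim_stab_eq_sd a (Ω := Ω) (T := Over.mk t) (Iso.refl _) f w, hn] at h3
        rw [dim_stab_eq_sd a (Ω := Ω) (T := Over.mk t) (Iso.refl _) g w, hn] at h3'
        rw [h2] at h2'
        rw [h3] at h3'
        have h5 : m = m' := by exact_mod_cast h3'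
        have h6 : d = d' := by exact_mod_cast h2'
        have h7 : e = e' := by omega
        have h8 : topologicalKrullDim (Set.range ((bact (Over.mk t) a).orbitMap (bpt f)).left.base) = e := by
          rw [← h4]
          exact congrArg (fun s : Set (X ⊗ Over.mk t).left => topologicalKrullDim s) (hr f)
        have h9 : topologicalKrullDim (Set.range ((bact (Over.mk t) a).orbitMap (bpt g)).left.base) = e' := by
          rw [← h4']
          exact congrArg (fun s : Set (X ⊗ Over.mk t).left => topologicalKrullDim s) (hr g)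
        rw [h8, h9, h7])
    rw [hr f] at h
    exact h
  intro Ω _ _ T e f
  let t : Spec (CommRingCat.of Ω) ⟶ Spec (CommRingCat.of k) := e.inv ≫ T.hom
  let q : Over.mk t ≅ T := Over.isoMk e.symm (by simp [t])
  have h := key Ω t (q.hom ≫ f)
  have h1 : GIT.psi a (q.hom ≫ f) ≫ (X ◁ q.hom) = (G ◁ q.hom) ≫ GIT.psi a f := (isPullback_psi a f q.hom).w.symm
  have hi1 : IsIso (X ◁ q.hom).left := inferInstanceAs (IsIso ((Over.forget _).map (X ◁ q.hom)))
  have hi2 : IsIso (G ◁ q.hom).left := inferInstanceAs (IsIso ((Over.forget _).map (G ◁ q.hom)))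
  have h2 : Set.range (GIT.psi a f).left = (X ◁ q.hom).left '' Set.range (GIT.psi a (q.hom ≫ f)).left := by
    have h3 := congrArg (fun m : G ⊗ Over.mk t ⟶ X ⊗ T => Set.range m.left) h1
    simp only [Over.comp_left] at h3
    have h4 : Set.range ((GIT.psi a (q.hom ≫ f)).left ≫ (X ◁ q.hom).left) =
        (X ◁ q.hom).left '' Set.range (GIT.psi a (q.hom ≫ f)).left := by
      rw [← Set.range_comp]; rfl
    have h5 : Set.range ((G ◁ q.hom).left ≫ (GIT.psi a f).left) = Set.range (GIT.psi a f).left := by
      have h6 : Set.range ((G ◁ q.hom).left ≫ (GIT.psi a f).left) =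
        (GIT.psi a f).left '' Set.range (G ◁ q.hom).left := by
        rw [← Set.range_comp]; rfl
      rw [h6, (G ◁ q.hom).left.surjective.range_eq, Set.image_univ]
    rw [h4, h5] at h3
    exact h3.symm
  change IsClosed (Set.range (GIT.psi a f).left)
  rw [h2]
  exact (X ◁ q.hom).left.homeomorph.isClosedMap _ h

end Field

end K689.StabOrb
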