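import Groth.Agent.GIT.K689.StabDim
import Groth.Agent.GIT.K688.ActRes

/-!
# Stabilisers under equivariant monomorphisms and field extensions
-/

set_option autoImplicit false

universe u

open CategoryTheory CategoryTheory.Limits MonoidalCategory CartesianMonoidalCategory MonObj AlgebraicGeometry
  TopologicalSpace Topology

namespace K689.StabTrans

open K689.StabBC K689.StabDim

section Gen

variable {S : Scheme.{u}} {G X X' : Over S} [GrpObj G] {a : AlgGrp.Action G X} {a' : AlgGrp.Action G X'}

/-- stabilisers do not change under equivariant monomorphisms -/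
theorem exists_stabIso_mono (j : X' ⟶ X) [Mono j] (hj : a'.act ≫ j = (G ◁ j) ≫ a.act) {T : Over S} (f : T ⟶ X') :
    ∃ e : GLinSh.stab a' f ≅ GLinSh.stab a (f ≫ j), e.hom ≫ GLinSh.stabTo a (f ≫ j) = GLinSh.stabTo a' f := by
  have h1 : (GIT.psi a (f ≫ j)).left = (GIT.psi a' f).left ≫ (j ▷ T).left := by
    rw [← Over.comp_left]
    congr 1
    apply CartesianMonoidalCategory.hom_ext <;> simp [GIT.psi, hj]
  have h2 : (lift (f ≫ j) (𝟙 T)).left = (lift f (𝟙 T)).left ≫ (j ▷ T).left := by
    rw [← Over.comp_left]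
    congr 1
    apply CartesianMonoidalCategory.hom_ext <;> simp
  have hm : Mono (j ▷ T) := by
    constructor
    intro Z u v huv
    apply CartesianMonoidalCategory.hom_ext
    · rw [← cancel_mono j]
      have := congrArg (fun m => m ≫ fst X T) huv
      simpa using this
    · have := congrArg (fun m => m ≫ snd X T) huv
      simpa using this
  have hm' : Mono (j ▷ T).left := inferInstanceAs (Mono ((Over.forget S).map (j ▷ T)))
  have h3 : IsPullback (pullback.fst (GIT.psi a (f ≫ j)).left (lift (f ≫ j) (𝟙 T)).left)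
    (pullback.snd (GIT.psi a (f ≫ j)).left (lift (f ≫ j) (𝟙 T)).left)
    (GIT.psi a (f ≫ j)).left (lift (f ≫ j) (𝟙 T)).left := IsPullback.of_hasPullback _ _
  have h4 : IsPullback (pullback.fst (GIT.psi a' f).left (lift f (𝟙 T)).left)
    (pullback.snd (GIT.psi a' f).left (lift f (𝟙 T)).left)
    (GIT.psi a' f).left (lift f (𝟙 T)).left := IsPullback.of_hasPullback _ _
  have h5 : IsPullback (pullback.fst (GIT.psi a' f).left (lift f (𝟙 T)).left)
    (pullback.snd (GIT.psi a' f).left (lift f (𝟙 T)).left)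
    (GIT.psi a (f ≫ j)).left (lift (f ≫ j) (𝟙 T)).left := by
    rw [h1, h2]
    exact IsPullback.of_isLimit (PullbackCone.isLimitOfCompMono _ _ (j ▷ T).left h4.cone h4.isLimit)
  exact ⟨h5.isoIsPullback _ _ h3, h5.isoIsPullback_hom_snd _ _ h3⟩

theorem lft_stabTo [LocallyOfFiniteType G.hom] {T : Over S} (f : T ⟶ X) :
    LocallyOfFiniteType (GLinSh.stabTo a f) := by
  obtain ⟨m, hm⟩ := exists_isPullback_St a f
  have := lft_St a
  exact MorphismProperty.of_isPullback hm this

end Gen

section Field

variable {S : Scheme.{u}} {G X X' : Over S} [GrpObj G] [LocallyOfFiniteType G.hom]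
  {a : AlgGrp.Action G X} {a' : AlgGrp.Action G X'}

/-- the dimension of the stabiliser does not change under extension of the field -/
theorem dim_stab_bc' {K L : CommRingCat.{u}} (hK : IsField K) (hL : IsField L) {T T' : Over S} (e : T.left ≅ Spec K)
    (e' : T'.left ≅ Spec L) (q : T' ⟶ T) (f : T ⟶ X) :
    topologicalKrullDim (GLinSh.stab a (q ≫ f)) = topologicalKrullDim (GLinSh.stab a f) := by
  obtain ⟨m, hm⟩ := exists_isPullback_stab a f q
  have := lft_stabTo (a := a) f
  have hm' : IsPullback m (GLinSh.stabTo a (q ≫ f) ≫ e'.hom) (GLinSh.stabTo a f ≫ e.hom) (e'.inv ≫ q.left ≫ e.hom) :=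
    IsPullback.of_iso hm (Iso.refl _) (Iso.refl _) e' e (by simp) (by simp) (by simp) (by simp)
  exact Groth.Agent.Sga3B.DimFib.topologicalKrullDim_baseChange_eq hK hL (GLinSh.stabTo a f ≫ e.hom) _ m _ hm'

/-- the dimension of the stabiliser does not change under extension of the field -/
theorem dim_stab_bc {K L : CommRingCat.{u}} (hK : IsField K) (hL : IsField L) {t : Spec K ⟶ S} {t' : Spec L ⟶ S}
    (q : Over.mk t' ⟶ Over.mk t) (f : Over.mk t ⟶ X) :
    topologicalKrullDim (GLinSh.stab a (q ≫ f)) = topologicalKrullDim (GLinSh.stab a f) :=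
  dim_stab_bc' hK hL (Iso.refl _) (Iso.refl _) q f

theorem isField_residueField (Z : Scheme.{u}) (z : Z) : IsField (Z.residueField z) := Field.toIsField _

/-- the dimension of the stabiliser under an equivariant monomorphism -/
theorem sd_mono (j : X' ⟶ X) [Mono j] (hj : a'.act ≫ j = (G ◁ j) ≫ a.act) (y : X'.left) :
    sd a' y = sd a (j.left y) := by
  obtain ⟨e, -⟩ := exists_stabIso_mono j hj (pt y)
  have h1 : sd a' y = topologicalKrullDim (GLinSh.stab a (pt y ≫ j)) :=
    IsHomeomorph.topologicalKrullDim_eq e.hom.homeomorph e.hom.homeomorph.isHomeomorph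
  rw [h1]
  have h2 := j.left.SpecMap_residueFieldMap_fromSpecResidueField y
  let q : Over.mk (X'.left.fromSpecResidueField y ≫ X'.hom) ⟶
      Over.mk (X.left.fromSpecResidueField (j.left y) ≫ X.hom) :=
    Over.homMk (Spec.map (j.left.residueFieldMap y)) (by
      change Spec.map (j.left.residueFieldMap y) ≫ X.left.fromSpecResidueField (j.left y) ≫ X.hom = _
      rw [← Category.assoc, h2, Category.assoc, Over.w]
      rfl)
  have h3 : q ≫ pt (j.left y) = pt y ≫ j := by
    ext1
    exact h2
  rw [← h3]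
  exact dim_stab_bc (isField_residueField _ _) (isField_residueField _ _) q (pt (j.left y))

/-- regularity can be checked on an invariant open -/
theorem regular_of_open (j : X' ⟶ X) [IsOpenImmersion j.left] (hj : a'.act ≫ j = (G ◁ j) ≫ a.act) (y : X'.left)
    (h : ∃ W : X'.left.Opens, y ∈ W ∧ ∀ z ∈ W, sd a' z = sd a' y) :
    ∃ W : X.left.Opens, j.left y ∈ W ∧ ∀ z ∈ W, sd a z = sd a (j.left y) := by
  obtain ⟨W, hy, hW⟩ := h
  have hm : Mono j := K688.ActRes.mono_of_isOpenImmersion j
  refine ⟨⟨j.left '' W, j.left.isOpenEmbedding.isOpenMap _ W.2⟩, ⟨y, hy, rfl⟩, ?_⟩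
  rintro _ ⟨z, hz, rfl⟩
  rw [← sd_mono j hj, ← sd_mono j hj]
  exact hW z hz

end Field

end K689.StabTrans
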