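import Groth.Agent.GIT.K689.CoordUP

/-!
# Weights for a linear atlas (scheme level)
-/

set_option autoImplicit false

universe u

open CategoryTheory CategoryTheory.Limits AlgebraicGeometry TopologicalSpace Opposite

namespace K689.Weight

open K689.SchGlue K689.Coord K689.CoordUP

variable {X V : Scheme.{u}} {p : V ⟶ X}

theorem ev_mul {T : Scheme.{u}} (s : T ⟶ V) {U : X.Opens} (h : ⊤ ≤ s ⁻¹ᵁ (p ⁻¹ᵁ U)) (y y' : Γ(V, p ⁻¹ᵁ U)) :
    ev s h (y * y') = ev s h y * ev s h y' := map_mul _ _ _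

theorem ev_pow {T : Scheme.{u}} (s : T ⟶ V) {U : X.Opens} (h : ⊤ ≤ s ⁻¹ᵁ (p ⁻¹ᵁ U)) (y : Γ(V, p ⁻¹ᵁ U)) (n : ℕ) :
    ev s h (y ^ n) = ev s h y ^ n := map_pow _ _ _

section Coord

variable [IsAffineHom p]

theorem IsCoord.exists_unit_section {U : X.Opens} {y : Γ(V, p ⁻¹ᵁ U)} (hy : IsCoord p U y) :
    ∃ (s : (U : Scheme.{u}) ⟶ V) (h : ⊤ ≤ s ⁻¹ᵁ (p ⁻¹ᵁ U)), s ≫ p = U.ι ∧ ev s h y = 1 :=
  hy.exists_lift U.ι (fun x _ => x.2) 1

omit [IsAffineHom p] in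
theorem ev_unit_section {U : X.Opens} {y : Γ(V, p ⁻¹ᵁ U)} (s : (U : Scheme.{u}) ⟶ V) (h : ⊤ ≤ s ⁻¹ᵁ (p ⁻¹ᵁ U))
    (hs : s ≫ p = U.ι) (h1 : ev s h y = 1) (c : Γ(X, U)) (n : ℕ) :
    ev s h (p.app U c * y ^ n) = U.topIso.inv c := by
  rw [ev_mul, ev_pow, h1, one_pow, mul_one, ev_app s h U.ι hs (fun x _ => x.2)]
  exact congrArg (fun f => f.hom c) (ι_appLE_top U _)

theorem IsCoord.mul_pow_injective {U : X.Opens} {y : Γ(V, p ⁻¹ᵁ U)} (hy : IsCoord p U y) {c c' : Γ(X, U)} (n : ℕ)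
    (h : p.app U c * y ^ n = p.app U c' * y ^ n) : c = c' := by
  obtain ⟨s, hs, hsp, h1⟩ := IsCoord.exists_unit_section hy
  have e := congrArg (ev s hs) h
  rw [ev_unit_section s hs hsp h1, ev_unit_section s hs hsp h1] at e
  exact (ConcreteCategory.bijective_of_isIso U.topIso.inv).1 e

omit [IsAffineHom p] in
theorem IsCoord.eq_zero_of_mul_pow {U : X.Opens} {y : Γ(V, p ⁻¹ᵁ U)} (hy : IsCoord p U y) {f : Γ(V, p ⁻¹ᵁ U)}
    (n : ℕ) (h : f * y ^ n = 0) : f = 0 := by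
  apply section_ext
  intro v hv
  obtain ⟨W, hW, hWU, hxW⟩ := exists_affine_le (X := X) (U := U) (x := p v) hv
  refine ⟨p ⁻¹ᵁ W, p.preimage_mono hWU, hxW, ?_⟩
  change rs p hWU f = rs p hWU 0
  obtain ⟨q, hq⟩ := (hy W hW hWU).2 (rs p hWU f)
  have h1 : Polynomial.eval₂RingHom (p.app W).hom (rs p hWU y) (q * Polynomial.X ^ n) = 0 := by
    rw [map_mul, map_pow, hq]
    have h2 : rs p hWU (f * y ^ n) = 0 := by rw [h]; exact map_zero _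
    have h3 : rs p hWU (f * y ^ n) = rs p hWU f * (rs p hWU y) ^ n := by
      simp only [rs, map_mul, map_pow]
    rw [h3] at h2
    rw [← h2]
    congr 2
    simp
  have h4 : q * Polynomial.X ^ n = 0 := by
    apply (hy W hW hWU).1
    rw [h1, map_zero]
  have h5 : q = 0 := by
    ext i
    have := congrArg (fun r => r.coeff (i + n)) h4
    simpa using this
  rw [← hq, h5, map_zero]
  exact (map_zero _).symm

/-- a point of `V` over a point of `D(c)` at which `p^*c·yⁿ` is non-zero -/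
theorem IsCoord.exists_mem_basicOpen {U : X.Opens} {y : Γ(V, p ⁻¹ᵁ U)} (hy : IsCoord p U y) (c : Γ(X, U)) (n : ℕ)
    (x : X) (hx : x ∈ X.basicOpen c) : ∃ v : V, p v = x ∧ v ∈ V.basicOpen (p.app U c * y ^ n) := by
  have hxU : x ∈ U := X.basicOpen_le c hx
  obtain ⟨s, hs, hsp, h1⟩ := IsCoord.exists_unit_section hy
  refine ⟨s ⟨x, hxU⟩, ?_, ?_⟩
  · change (s ≫ p) ⟨x, hxU⟩ = x
    rw [hsp]
    rfl
  · have h2 := Scheme.basicOpen_appLE s ⊤ (p ⁻¹ᵁ U) hs (p.app U c * y ^ n)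
    have h3 : (ConcreteCategory.hom (s.appLE (p ⁻¹ᵁ U) ⊤ hs)) (p.app U c * y ^ n) = U.topIso.inv c :=
      ev_unit_section s hs hsp h1 c n
    rw [h3] at h2
    have h4 : (⟨x, hxU⟩ : U) ∈ (U : Scheme.{u}).basicOpen (U.topIso.inv c) := by
      have h5 := Scheme.Opens.ι_image_basicOpen_topIso_inv (U := U) c
      have h6 : x ∈ U.ι ''ᵁ (U : Scheme.{u}).basicOpen (U.topIso.inv c) := by rw [h5]; exact hx
      obtain ⟨z, hz, hzx⟩ := h6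
      have h7 : z = ⟨x, hxU⟩ := Subtype.ext hzx
      rwa [← h7]
    rw [h2] at h4
    exact h4.2

theorem IsCoord.image_basicOpen {U : X.Opens} {y : Γ(V, p ⁻¹ᵁ U)} (hy : IsCoord p U y) (c : Γ(X, U)) (n : ℕ) :
    p '' (V.basicOpen (p.app U c * y ^ n) : Set V) = X.basicOpen c := by
  ext x
  constructor
  · rintro ⟨v, hv, rfl⟩
    have h1 : v ∈ V.basicOpen (p.app U c) := by
      have : V.basicOpen (p.app U c * y ^ n) = V.basicOpen (p.app U c) ⊓ V.basicOpen (y ^ n) := V.basicOpen_mul _ _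
      have h2 : v ∈ V.basicOpen (p.app U c * y ^ n) := hv
      rw [this] at h2
      exact h2.1
    rw [← Scheme.preimage_basicOpen] at h1
    exact h1
  · intro hx
    obtain ⟨v, hv, hv'⟩ := IsCoord.exists_mem_basicOpen hy c n x hx
    exact ⟨v, hv', hv⟩

end Coord

/-- the data of a linear atlas at scheme level -/
structure Atl (p : V ⟶ X) (chart : ∀ U : X.Opens, Set (Γ(V, p ⁻¹ᵁ U))) : Prop where
  cover : ∀ x : X, ∃ U : X.Opens, x ∈ U ∧ (chart U).Nonempty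
  coord : ∀ (U : X.Opens) (y : Γ(V, p ⁻¹ᵁ U)), y ∈ chart U → IsCoord p U y
  linear : ∀ (U U' : X.Opens) (y : Γ(V, p ⁻¹ᵁ U)) (y' : Γ(V, p ⁻¹ᵁ U')),
    y ∈ chart U → y' ∈ chart U' →
      ∃ c : Γ(X, U ⊓ U'), IsUnit c ∧ rs p inf_le_right y' = p.app (U ⊓ U') c * rs p inf_le_left y

/-- `y` is (the restriction of) an admissible coordinate over `W` -/
def Adm (p : V ⟶ X) (chart : ∀ U : X.Opens, Set (Γ(V, p ⁻¹ᵁ U))) (W : X.Opens) (y : Γ(V, p ⁻¹ᵁ W)) : Prop :=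
  ∃ (U : X.Opens) (h : W ≤ U) (y₀ : Γ(V, p ⁻¹ᵁ U)), y₀ ∈ chart U ∧ y = rs p h y₀

variable {chart : ∀ U : X.Opens, Set (Γ(V, p ⁻¹ᵁ U))}

theorem Adm.restrict {W W' : X.Opens} {y : Γ(V, p ⁻¹ᵁ W)} (hy : Adm p chart W y) (h : W' ≤ W) :
    Adm p chart W' (rs p h y) := by
  obtain ⟨U, hU, y₀, hy₀, rfl⟩ := hy
  exact ⟨U, h.trans hU, y₀, hy₀, rs_rs _ _ _⟩

theorem adm_of_mem {U : X.Opens} {y : Γ(V, p ⁻¹ᵁ U)} (hy : y ∈ chart U) : Adm p chart U y :=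
  ⟨U, le_rfl, y, hy, (rs_self y).symm⟩

theorem Atl.exists_adm (A : Atl p chart) {O : X.Opens} {x : X} (hx : x ∈ O) :
    ∃ (W : X.Opens) (_ : W ≤ O) (y : Γ(V, p ⁻¹ᵁ W)), IsAffineOpen W ∧ x ∈ W ∧ Adm p chart W y := by
  obtain ⟨U, hxU, y₀, hy₀⟩ := A.cover x
  obtain ⟨W, hW, hWU, hxW⟩ := exists_affine_le (X := X) (U := U ⊓ O) (x := x) ⟨hxU, hx⟩
  exact ⟨W, hWU.trans inf_le_right, rs p (hWU.trans inf_le_left) y₀, hW, hxW,
    U, hWU.trans inf_le_left, y₀, hy₀, rfl⟩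

theorem Atl.adm_coord (A : Atl p chart) {W : X.Opens} {y : Γ(V, p ⁻¹ᵁ W)} (hy : Adm p chart W y) :
    IsCoord p W y := by
  obtain ⟨U, hU, y₀, hy₀, rfl⟩ := hy
  exact (A.coord U y₀ hy₀).restrict hU

theorem Atl.adm_unit (A : Atl p chart) {W : X.Opens} {y y' : Γ(V, p ⁻¹ᵁ W)} (hy : Adm p chart W y)
    (hy' : Adm p chart W y') : ∃ c : Γ(X, W), IsUnit c ∧ y' = p.app W c * y := by
  obtain ⟨U, hU, y₀, hy₀, rfl⟩ := hy
  obtain ⟨U', hU', y₀', hy₀', rfl⟩ := hy'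
  obtain ⟨c, hc, e⟩ := A.linear U U' y₀ y₀' hy₀ hy₀'
  refine ⟨rsec (le_inf hU hU') c, hc.map _, ?_⟩
  have e' := congrArg (rs p (le_inf hU hU')) e
  have e2 : rs p (le_inf hU hU') (p.app (U ⊓ U') c * rs p inf_le_left y₀) =
      rs p (le_inf hU hU') (p.app (U ⊓ U') c) * rs p (le_inf hU hU') (rs p inf_le_left y₀) := map_mul _ _ _
  rw [e2, rs_rs, rs_rs, rs_app] at e'
  exact e'

/-- `f` on `p⁻¹O` has weight `n` -/
def Wt (p : V ⟶ X) (chart : ∀ U : X.Opens, Set (Γ(V, p ⁻¹ᵁ U))) (n : ℕ) (O : X.Opens) (f : Γ(V, p ⁻¹ᵁ O)) : Prop :=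
  ∀ (W : X.Opens) (h : W ≤ O) (y : Γ(V, p ⁻¹ᵁ W)), Adm p chart W y → ∃ c : Γ(X, W), rs p h f = p.app W c * y ^ n

theorem Wt.restrict {n : ℕ} {O O' : X.Opens} {f : Γ(V, p ⁻¹ᵁ O)} (hf : Wt p chart n O f) (h : O' ≤ O) :
    Wt p chart n O' (rs p h f) := by
  intro W hW y hy
  rw [rs_rs]
  exact hf W (hW.trans h) y hy

theorem rs_mul {U W : X.Opens} (h : W ≤ U) (f g : Γ(V, p ⁻¹ᵁ U)) : rs p h (f * g) = rs p h f * rs p h g :=
  map_mul _ _ _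

theorem rs_add {U W : X.Opens} (h : W ≤ U) (f g : Γ(V, p ⁻¹ᵁ U)) : rs p h (f + g) = rs p h f + rs p h g :=
  map_add _ _ _

theorem rs_sub {U W : X.Opens} (h : W ≤ U) (f g : Γ(V, p ⁻¹ᵁ U)) : rs p h (f - g) = rs p h f - rs p h g :=
  map_sub _ _ _

theorem rs_neg {U W : X.Opens} (h : W ≤ U) (f : Γ(V, p ⁻¹ᵁ U)) : rs p h (-f) = -rs p h f :=
  map_neg _ _

theorem rs_pow {U W : X.Opens} (h : W ≤ U) (f : Γ(V, p ⁻¹ᵁ U)) (n : ℕ) : rs p h (f ^ n) = rs p h f ^ n :=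
  map_pow _ _ _

theorem rs_one {U W : X.Opens} (h : W ≤ U) : rs p h (1 : Γ(V, p ⁻¹ᵁ U)) = 1 :=
  map_one _

theorem rs_zero {U W : X.Opens} (h : W ≤ U) : rs p h (0 : Γ(V, p ⁻¹ᵁ U)) = 0 :=
  map_zero _

theorem Wt.mul {n m : ℕ} {O : X.Opens} {f g : Γ(V, p ⁻¹ᵁ O)} (hf : Wt p chart n O f) (hg : Wt p chart m O g) :
    Wt p chart (n + m) O (f * g) := by
  intro W h y hy
  obtain ⟨c, hc⟩ := hf W h y hy
  obtain ⟨d, hd⟩ := hg W h y hy
  refine ⟨c * d, ?_⟩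
  rw [rs_mul, hc, hd, map_mul, pow_add]
  ring

theorem Wt.one {O : X.Opens} : Wt p chart 0 O 1 := by
  intro W h y hy
  exact ⟨1, by rw [rs_one, map_one, pow_zero, one_mul]⟩

theorem Wt.base {O : X.Opens} (c : Γ(X, O)) : Wt p chart 0 O (p.app O c) := by
  intro W h y hy
  exact ⟨rsec h c, by rw [rs_app, pow_zero, mul_one]⟩

theorem Wt.pow {n : ℕ} {O : X.Opens} {f : Γ(V, p ⁻¹ᵁ O)} (hf : Wt p chart n O f) (m : ℕ) :
    Wt p chart (n * m) O (f ^ m) := by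
  induction m with
  | zero => simpa using Wt.one
  | succ m ih => rw [pow_succ, mul_add, mul_one]; exact ih.mul hf

theorem Wt.add {n : ℕ} {O : X.Opens} {f g : Γ(V, p ⁻¹ᵁ O)} (hf : Wt p chart n O f) (hg : Wt p chart n O g) :
    Wt p chart n O (f + g) := by
  intro W h y hy
  obtain ⟨c, hc⟩ := hf W h y hy
  obtain ⟨d, hd⟩ := hg W h y hy
  exact ⟨c + d, by rw [rs_add, hc, hd, map_add, add_mul]⟩

theorem Wt.neg {n : ℕ} {O : X.Opens} {f : Γ(V, p ⁻¹ᵁ O)} (hf : Wt p chart n O f) :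
    Wt p chart n O (-f) := by
  intro W h y hy
  obtain ⟨c, hc⟩ := hf W h y hy
  exact ⟨-c, by rw [rs_neg, hc, map_neg, neg_mul]⟩

theorem Wt.sub {n : ℕ} {O : X.Opens} {f g : Γ(V, p ⁻¹ᵁ O)} (hf : Wt p chart n O f) (hg : Wt p chart n O g) :
    Wt p chart n O (f - g) := by
  rw [sub_eq_add_neg]; exact hf.add hg.neg

theorem Wt.zero {n : ℕ} {O : X.Opens} : Wt p chart n O 0 := by
  intro W h y hy
  exact ⟨0, by rw [rs_zero, map_zero, zero_mul]⟩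

/-- glueing of ratios: if locally on `O` the function `F` is a multiple of `H` by a function from the base, and this
function is locally unique, then `F` is such a multiple on `O` -/
theorem exists_glue {O : X.Opens} (F H : Γ(V, p ⁻¹ᵁ O))
    (hloc : ∀ x ∈ O, ∃ (W : X.Opens) (h : W ≤ O), x ∈ W ∧ ∃ r : Γ(X, W), rs p h F = p.app W r * rs p h H)
    (huniq : ∀ (W : X.Opens) (h : W ≤ O) (r r' : Γ(X, W)), p.app W r * rs p h H = p.app W r' * rs p h H → r = r') :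
    ∃ r : Γ(X, O), F = p.app O r * H := by
  obtain ⟨r, hr⟩ := exists_section (U := O) (fun W h r => rs p h F = p.app W r * rs p h H) hloc
    (by
      intro W hW W' hW' f hf
      have e := congrArg (rs p hW') hf
      rw [rs_rs, rs_mul, rs_rs, rs_app] at e
      exact e)
    (by
      intro W hW f g hf hg
      exact huniq W hW f g (hf.symm.trans hg))
  refine ⟨r, ?_⟩
  apply section_ext
  intro v hv
  obtain ⟨W, hW, hvW, e⟩ := hr (p v) hv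
  refine ⟨p ⁻¹ᵁ W, p.preimage_mono hW, hvW, ?_⟩
  change rs p hW F = rs p hW (p.app O r * H)
  rw [rs_mul, rs_app]
  exact e

theorem Wt.of_local (A : Atl p chart) [IsAffineHom p] {n : ℕ} {O : X.Opens} {f : Γ(V, p ⁻¹ᵁ O)}
    (h : ∀ x ∈ O, ∃ (W : X.Opens) (h : W ≤ O), x ∈ W ∧ Wt p chart n W (rs p h f)) : Wt p chart n O f := by
  intro W hWO y hy
  have hyc := A.adm_coord hy
  refine exists_glue (rs p hWO f) (y ^ n) ?_ ?_
  · intro x hx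
    obtain ⟨W', hW', hxW', hf⟩ := h x (hWO hx)
    refine ⟨W ⊓ W', inf_le_left, ⟨hx, hxW'⟩, ?_⟩
    obtain ⟨c, hc⟩ := hf (W ⊓ W') inf_le_right (rs p inf_le_left y) (hy.restrict _)
    refine ⟨c, ?_⟩
    rw [rs_rs] at hc
    rw [rs_rs, hc, rs_pow]
  · intro W' h' r r' e
    rw [rs_pow] at e
    exact IsCoord.mul_pow_injective (hyc.restrict h') n e

theorem Wt.of_adm (A : Atl p chart) {n : ℕ} {W : X.Opens} {y : Γ(V, p ⁻¹ᵁ W)} (hy : Adm p chart W y) (c : Γ(X, W)) :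
    Wt p chart n W (p.app W c * y ^ n) := by
  intro W' h y' hy'
  obtain ⟨d, hd, e⟩ := A.adm_unit (hy') (hy.restrict h)
  refine ⟨rsec h c * d ^ n, ?_⟩
  rw [rs_mul, rs_app, rs_pow, e, map_mul, map_pow, mul_pow]
  ring

/-- the non-vanishing locus of a function on `p⁻¹O` -/
def nv (p : V ⟶ X) {O : X.Opens} (f : Γ(V, p ⁻¹ᵁ O)) : Set X := p '' (V.basicOpen f : Set V)

theorem nv_subset {O : X.Opens} (f : Γ(V, p ⁻¹ᵁ O)) : nv p f ⊆ O := by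
  rintro _ ⟨v, hv, rfl⟩
  exact V.basicOpen_le f hv

theorem nv_rs {O O' : X.Opens} (h : O' ≤ O) (f : Γ(V, p ⁻¹ᵁ O)) : nv p (rs p h f) = nv p f ∩ O' := by
  have e : V.basicOpen (rs p h f) = p ⁻¹ᵁ O' ⊓ V.basicOpen f := V.basicOpen_res _ _
  rw [nv, e]
  ext x
  constructor
  · rintro ⟨v, hv, rfl⟩
    exact ⟨⟨v, hv.2, rfl⟩, hv.1⟩
  · rintro ⟨⟨v, hv, rfl⟩, hx⟩
    exact ⟨v, ⟨hx, hv⟩, rfl⟩

theorem nv_adm [IsAffineHom p] (A : Atl p chart) {n : ℕ} {W : X.Opens} {y : Γ(V, p ⁻¹ᵁ W)}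
    (hy : Adm p chart W y) (c : Γ(X, W)) : nv p (p.app W c * y ^ n) = X.basicOpen c :=
  IsCoord.image_basicOpen (A.adm_coord hy) c n

theorem isOpen_nv [IsAffineHom p] (A : Atl p chart) {n : ℕ} {O : X.Opens} {f : Γ(V, p ⁻¹ᵁ O)}
    (hf : Wt p chart n O f) : IsOpen (nv p f) := by
  rw [isOpen_iff_forall_mem_open]
  intro x hx
  obtain ⟨W, hW, y, -, hxW, hy⟩ := A.exists_adm (nv_subset f hx)
  obtain ⟨c, hc⟩ := hf W hW y hy
  have h1 : nv p f ∩ W = X.basicOpen c := by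
    rw [← nv_rs hW, hc, nv_adm A hy]
  refine ⟨X.basicOpen c, ?_, (X.basicOpen c).2, ?_⟩
  · rw [← h1]; exact Set.inter_subset_left
  · rw [← h1]; exact ⟨hx, hxW⟩

end K689.Weight
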